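import Groth.Agent.DCX42.LpullLoc
import Groth.Agent.DCX42.LocalFP
import Groth.Agent.Props58.LocFree.Basis
import Groth.Prelude.Def_PerfD
import Mathlib.Algebra.Homology.ShortComplex.ModuleCat
import Mathlib.LinearAlgebra.FiniteDimensional.Lemmas
import Mathlib.CategoryTheory.Abelian.Exact

/-!
# Fibre Euler characteristics of perfect complexes

* `finsum_finrank_homology`: the Euler characteristic of a bounded complex of finite-dimensional
  vector spaces is that of its homology.
* `secTop`: taking sections over `⊤` is exact on modules over a one-point scheme.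
* `eulerChar_isLocallyConstant`: `x ↦ χ_E(x)` is locally constant for perfect `E`.
-/

set_option autoImplicit false
set_option backward.isDefEq.respectTransparency false

noncomputable section

universe u

open CategoryTheory Limits AlgebraicGeometry TopologicalSpace Opposite
open Groth.Agent.QC70

attribute [local instance] HasDerivedCategory.standard

namespace Groth.Agent.PerfFib24

section VectorSpaces

variable {K : Type u} [DivisionRing K]

/-- `h + rk(incoming) + rk(outgoing) = dim` for a short complex of vector spaces. -/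
theorem finrank_homology_add (S : ShortComplex (ModuleCat.{u} K)) [Module.Finite K S.X₂] :
    Module.finrank K S.homology + Module.finrank K (LinearMap.range S.f.hom) +
      Module.finrank K (LinearMap.range S.g.hom) = Module.finrank K S.X₂ := by
  have h1 := LinearEquiv.finrank_eq S.moduleCatHomologyIso.toLinearEquiv
  have h2 := Submodule.finrank_quotient_add_finrank (LinearMap.range S.moduleCatToCycles)
  have h3 : Module.finrank K (LinearMap.range S.moduleCatToCycles) =
      Module.finrank K (LinearMap.range S.f.hom) := by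
    rw [← Submodule.finrank_map_subtype_eq (LinearMap.ker S.g.hom), ← LinearMap.range_comp]
    rfl
  have h4 := LinearMap.finrank_range_add_finrank_ker S.g.hom
  have h5 : Module.finrank K S.homology =
      Module.finrank K (LinearMap.ker S.g.hom ⧸ LinearMap.range S.moduleCatToCycles) := h1
  omega

/-- The Euler characteristic of a bounded complex of finite-dimensional vector spaces is that of
its homology. -/
theorem finsum_finrank_homology (C : CochainComplex (ModuleCat.{u} K) ℤ) (s : Finset ℤ)
    (hs : ∀ i ∉ s, Module.finrank K (C.X i) = 0) (hfin : ∀ i, Module.Finite K (C.X i)) :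
    (∑ᶠ i : ℤ, (i.negOnePow : ℤ) * (Module.finrank K (C.homology i) : ℤ)) =
      ∑ᶠ i : ℤ, (i.negOnePow : ℤ) * (Module.finrank K (C.X i) : ℤ) := by
  let r : ℤ → ℕ := fun i => Module.finrank K (LinearMap.range (C.d (i - 1) i).hom)
  have key : ∀ i, Module.finrank K (C.homology i) + r i + r (i + 1) = Module.finrank K (C.X i) := by
    intro i
    have : Module.Finite K (C.sc' (i - 1) i (i + 1)).X₂ := hfin i
    have h := finrank_homology_add (C.sc' (i - 1) i (i + 1))
    have h1 := LinearEquiv.finrank_eq (C.homologyIsoSc' (i - 1) i (i + 1) (by simp) (by simp)).toLinearEquiv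
    have aux : ∀ j, j = i → Module.finrank K (LinearMap.range (C.d j (i + 1)).hom) =
        Module.finrank K (LinearMap.range (C.d i (i + 1)).hom) := fun j hj => by subst hj; rfl
    have h2 : r (i + 1) = Module.finrank K (LinearMap.range (C.d i (i + 1)).hom) := aux _ (by omega)
    rw [h1, h2]
    exact h
  have hr : ∀ i ∉ s, r i = 0 := fun i hi => by
    have := key i
    have := hs i hi
    omega
  have hr' : ∀ i ∉ s, r (i + 1) = 0 := fun i hi => by
    have := key i
    have := hs i hi
    omega
  have hh : ∀ i ∉ s, Module.finrank K (C.homology i) = 0 := fun i hi => by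
    have := key i
    have := hs i hi
    omega
  have supp : ∀ (g : ℤ → ℕ), (∀ i ∉ s, g i = 0) →
      (Function.support fun i : ℤ => (i.negOnePow : ℤ) * (g i : ℤ)).Finite := fun g hg =>
    s.finite_toSet.subset fun i hi => by
      by_contra h
      exact hi (by simp [hg i h])
  have e : (fun i : ℤ => (i.negOnePow : ℤ) * (Module.finrank K (C.X i) : ℤ)) =
      fun i => (i.negOnePow : ℤ) * (Module.finrank K (C.homology i) : ℤ) +
        ((i.negOnePow : ℤ) * (r i : ℤ) + (i.negOnePow : ℤ) * (r (i + 1) : ℤ)) := by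
    funext i
    rw [← key i]
    push_cast
    ring
  have h0 : (∑ᶠ i : ℤ, (i.negOnePow : ℤ) * (r (i + 1) : ℤ)) = -∑ᶠ i : ℤ, (i.negOnePow : ℤ) * (r i : ℤ) := by
    rw [← finsum_comp_equiv (Equiv.addRight (1 : ℤ)) (f := fun i : ℤ => (i.negOnePow : ℤ) * (r i : ℤ)),
      ← finsum_neg_distrib]
    refine finsum_congr fun i => ?_
    simp [Int.negOnePow_succ]
  rw [e, finsum_add_distrib (supp _ hh) ((supp r hr).union (supp _ hr') |>.subset (Function.support_add _ _)),
    finsum_add_distrib (supp r hr) (supp _ hr'), h0]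
  ring

end VectorSpaces

section OnePoint

variable (T : Scheme.{u})

/-- Sections over `⊤`. -/
abbrev secTop : T.Modules ⥤ ModuleCat.{u} (Coh.Γtop T) := SheafOfModules.evaluation T.ringCatSheaf (op ⊤)

instance : (secTop T).Additive where
  map_add := rfl

instance : PreservesFiniteLimits (secTop T) := inferInstanceAs (PreservesFiniteLimits (SheafOfModules.evaluation T.ringCatSheaf (op ⊤)))

theorem eq_top_of_mem [Subsingleton T] {V : T.Opens} {p : T} (hp : p ∈ V) : V = ⊤ :=
  top_le_iff.mp fun q _ => Subsingleton.elim p q ▸ hp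

theorem preservesEpimorphisms_secTop [Subsingleton T] [Nonempty T] : (secTop T).PreservesEpimorphisms :=
  ⟨fun {M N} φ _ => by
    obtain ⟨p⟩ := ‹Nonempty T›
    refine (ModuleCat.epi_iff_surjective _).mpr fun s => ?_
    obtain ⟨V, h, t, hp, ht⟩ := exists_local_lift φ (U := (⊤ : T.Opens)) s (p := p) trivial
    obtain rfl := eq_top_of_mem T hp
    refine ⟨t, ht.trans ?_⟩
    exact congr($(N.presheaf.map_id (op ⊤)) s)⟩

theorem preservesHomology_secTop [Subsingleton T] [Nonempty T] : (secTop T).PreservesHomology := by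
  have := preservesEpimorphisms_secTop T
  exact Functor.preservesHomology_of_preservesEpis_and_kernels _

theorem finrank_freeMod_top (hK : IsField (Coh.Γtop T)) (n : ℕ) :
    Module.finrank (Coh.Γtop T) ((secTop T).obj (FlatMod.freeMod T n)) = n ∧
      Module.Finite (Coh.Γtop T) ((secTop T).obj (FlatMod.freeMod T n)) := by
  have : Nontrivial (Coh.Γtop T) := hK.nontrivial
  let u : Fin n → (secTop T).obj (FlatMod.freeMod T n) := fun i => Props58.LocFree.unitVec T n i
  let f : (Fin n → Coh.Γtop T) →ₗ[Coh.Γtop T] (secTop T).obj (FlatMod.freeMod T n) :=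
    Fintype.linearCombination (Coh.Γtop T) u
  have hres : ∀ i, res (FlatMod.freeMod T n) (le_top : (⊤ : T.Opens) ≤ ⊤) (Props58.LocFree.unitVec T n i) =
      Props58.LocFree.unitVec T n i := fun i =>
    congr($((FlatMod.freeMod T n).presheaf.map_id (op ⊤)) (Props58.LocFree.unitVec T n i))
  have hf : ∀ a : Fin n → Coh.Γtop T, f a =
      ∑ i, (show Γ(T, ⊤) from a i) • res (FlatMod.freeMod T n) (le_top : (⊤ : T.Opens) ≤ ⊤) (Props58.LocFree.unitVec T n i) := by
    intro a
    simp only [hres]
    rfl
  have hb : Function.Bijective f := ⟨fun a b h => Props58.LocFree.free_eq_of_comb (by rw [← hf, ← hf]; exact h),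
    fun z => by
      obtain ⟨a, ha⟩ := Props58.LocFree.free_exists_comb (W := (⊤ : T.Opens)) z
      exact ⟨a, (hf a).trans ha⟩⟩
  let e := LinearEquiv.ofBijective f hb
  exact ⟨by rw [← e.finrank_eq, Module.finrank_fin_fun], Module.Finite.equiv e⟩

theorem isField_Γtop (K : CommRingCat.{u}) (hK : IsField K) : IsField (Coh.Γtop (Spec K)) :=
  MulEquiv.isField hK (Scheme.ΓSpecIso K).commRingCatIsoToRingEquiv.toMulEquiv

/-- Euler characteristic of a bounded complex of free modules on the spectrum of a field. -/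
theorem finsum_finrank_HD [Subsingleton T] [Nonempty T] (hT : IsField (Coh.Γtop T))
    (E : CochainComplex T.Modules ℤ) (n : ℤ → ℕ)
    (e : ∀ i, Nonempty (E.X i ≅ FlatMod.freeMod T (n i))) (a b : ℤ)
    (hab : ∀ i, i < a ∨ b < i → IsZero (E.X i)) (K : DCoh.D T) (i₀ : K ≅ DerivedCategory.Q.obj E) :
    (∑ᶠ i : ℤ, (i.negOnePow : ℤ) *
        (Module.finrank (Coh.Γtop T) ((DCoh.HD K i).val.obj (op ⊤)) : ℤ)) =
      ∑ᶠ i : ℤ, (i.negOnePow : ℤ) * (n i : ℤ) := by
  letI : DivisionRing (Coh.Γtop T) := hT.toField.toDivisionRing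
  have := preservesHomology_secTop T
  let C := ((secTop T).mapHomologicalComplex (ComplexShape.up ℤ)).obj E
  have hfr : ∀ i, Module.finrank (Coh.Γtop T) (C.X i) = n i ∧ Module.Finite (Coh.Γtop T) (C.X i) := fun i => by
    obtain ⟨e'⟩ := e i
    obtain ⟨h1, h2⟩ := finrank_freeMod_top T hT (n i)
    let l := ((secTop T).mapIso e').toLinearEquiv
    exact ⟨l.finrank_eq.trans h1, Module.Finite.equiv l.symm⟩
  have hhom : ∀ i, Module.finrank (Coh.Γtop T) ((DCoh.HD K i).val.obj (op ⊤)) =
      Module.finrank (Coh.Γtop T) (C.homology i) := fun i => by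
    let φ : DCoh.HD K i ≅ E.homology i :=
      (DerivedCategory.homologyFunctor T.Modules i).mapIso i₀ ≪≫
        (DerivedCategory.homologyFunctorFactors T.Modules i).app E
    exact LinearEquiv.finrank_eq ((secTop T).mapIso φ ≪≫
      ((E.sc i).mapHomologyIso (secTop T)).symm).toLinearEquiv
  simp only [hhom]
  rw [finsum_finrank_homology C (Finset.Icc a b) (fun i hi => ?_) fun i => (hfr i).2]
  · simp only [(hfr _).1]
  · rw [Finset.mem_Icc] at hi
    have : Subsingleton (C.X i) :=
      ModuleCat.subsingleton_of_isZero (Functor.map_isZero (secTop T) (hab i (by omega)))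
    exact Module.finrank_zero_of_subsingleton

end OnePoint

open DCX42 in
/-- The fibrewise Euler characteristic of a perfect object is locally constant. -/
theorem eulerChar_isLocallyConstant (X : Scheme.{u}) [∀ x : X, DCoh.HasLpull (X.fromSpecResidueField x)]
    (E : DCoh.D X) (hE : DCoh.IsPerfect E) : IsLocallyConstant (fun x : X => PerfD.eulerChar E x) := by
  rw [IsLocallyConstant.iff_exists_open]
  intro x
  obtain ⟨V, hxV, E₀, hE₀, ⟨i₀⟩⟩ := (isPerfect_iff E).1 hE x
  obtain ⟨W, hxW, hfree⟩ := exists_termFree hE₀ ⟨x, hxV⟩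
  obtain ⟨a, b, hab⟩ := hE₀.1
  choose n e using hfree
  let j := W.ι ≫ V.ι
  refine ⟨j.opensRange, j.opensRange.isOpen, ⟨⟨⟨x, hxV⟩, hxW⟩, rfl⟩, fun y hy => ?_⟩
  suffices h : ∀ y ∈ j.opensRange, PerfD.eulerChar E y = ∑ᶠ i : ℤ, (i.negOnePow : ℤ) * (n i : ℤ) by
    exact (h y hy).trans (h x ⟨⟨⟨x, hxV⟩, hxW⟩, rfl⟩).symm
  clear hy y
  intro y hy
  let T := Spec (X.residueField y)
  let p : T ⟶ X := X.fromSpecResidueField y
  have hr : Set.range p ⊆ Set.range j := by
    rintro _ ⟨t, rfl⟩
    rw [Scheme.fromSpecResidueField_apply]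
    exact hy
  let g := IsOpenImmersion.lift j p hr
  have hg : g ≫ j = p := IsOpenImmersion.lift_fac _ _ _
  let F := (resCx W.ι).obj E₀
  have hF : DCoh.IsStrictlyPerfect F := isStrictlyPerfect_restrict hE₀ W.ι
  have := DCK91.hasLpull g
  have := DCK91.hasLpull j
  have : DCoh.HasLpull (g ≫ j) := hg ▸ inferInstance
  obtain ⟨c⟩ := DCK91.Lpull_comp g j
  obtain ⟨r⟩ := nonempty_Lpull_iso_resD j
  have hc : ∀ {a b : T ⟶ X} (_ : a = b) [DCoh.HasLpull a] [DCoh.HasLpull b],
      Nonempty (DCoh.Lpull a ≅ DCoh.Lpull b) := by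
    intro a b hab _ _
    subst hab
    exact ⟨Iso.refl _⟩
  obtain ⟨c'⟩ := hc hg.symm
  let k : (DCoh.Lpull p).obj E ≅
      DerivedCategory.Q.obj (((Scheme.Modules.pullback g).mapHomologicalComplex (ComplexShape.up ℤ)).obj F) :=
    c'.app E ≪≫ c.symm.app E ≪≫ (DCoh.Lpull g).mapIso
      (r.app E ≪≫ (resDComp W.ι V.ι).symm.app E ≪≫ (resD W.ι).mapIso i₀ ≪≫ resQ W.ι E₀) ≪≫ lpullSP g hF
  have : Subsingleton T := inferInstanceAs (Subsingleton (PrimeSpectrum (X.residueField y)))
  have : Nonempty T := inferInstanceAs (Nonempty (PrimeSpectrum (X.residueField y)))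
  exact finsum_finrank_HD T (isField_Γtop _ (Field.toIsField (X.residueField y))) _ n
    (fun i => ⟨(Scheme.Modules.pullback g).mapIso (e i).some ≪≫ FrB.pullbackFreeIso g (n i)⟩) a b
    (fun i hi => (Scheme.Modules.pullback g).map_isZero
      ((Scheme.Modules.restrictFunctor W.ι).map_isZero (hab i hi))) _ k

end Groth.Agent.PerfFib24
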