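import Groth.Agent.DCX42.LpullLoc
import Groth.Agent.DCX42.Perfect
import Groth.Agent.DCK91.LpullTensor
import Groth.Agent.Mod48.Exact

/-!
# The derived tensor product of perfect objects is perfect
-/

set_option autoImplicit false
set_option backward.isDefEq.respectTransparency.types false
set_option backward.isDefEq.respectTransparency false

noncomputable section

universe u

open CategoryTheory Limits AlgebraicGeometry TopologicalSpace Opposite
open Groth.Agent.DCX42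

attribute [local instance] HasDerivedCategory.standard

namespace Groth.Agent.PerfFib24

variable {U X : Scheme.{u}}

/-- `free m ⊗ O = free m`. -/
def tensUnitRight (M : X.Modules) : ((DCoh.tensorBi (X := X)).obj M).obj (Coh.structureModule X) ≅ M :=
  (Mod48.tensSymm (O := X.sheaf) M).app (ModSite.unit X.sheaf) ≪≫ (Mod48.tensUnit (O := X.sheaf)).app M

/-- The tensor product of finite free modules. -/
theorem nonempty_tensor_free (m n : ℕ) :
    Nonempty (((DCoh.tensorBi (X := X)).obj (FlatMod.freeMod X m)).obj (FlatMod.freeMod X n) ≅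
      FlatMod.freeMod X (n * m)) := by
  let G : X.Modules ⥤ X.Modules := Mod48.tL (O := X.sheaf) (FlatMod.freeMod X m : X.Modules)
  have : PreservesFiniteColimits G := Mod48.preservesFiniteColimits_tL (O := X.sheaf) _
  have : PreservesColimit (Discrete.functor fun _ : Fin n => Coh.structureModule X)
      ((DCoh.tensorBi (X := X)).obj (FlatMod.freeMod X m)) :=
    inferInstanceAs (PreservesColimit (Discrete.functor fun _ : Fin n => Coh.structureModule X) G)
  refine ⟨PreservesCoproduct.iso ((DCoh.tensorBi (X := X)).obj (FlatMod.freeMod X m)) _ ≪≫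
    Sigma.mapIso (fun _ => tensUnitRight (FlatMod.freeMod X m)) ≪≫ sigmaSigmaIso _ _ ≪≫ ?_⟩
  exact Sigma.whiskerEquiv (f := fun _ : (_ : Fin n) × Fin m => Coh.structureModule X)
    (g := fun _ : Fin (n * m) => Coh.structureModule X)
    ((Equiv.sigmaEquivProd (Fin n) (Fin m)).trans finProdFinEquiv) fun _ => Iso.refl _

theorem exists_free_sigma {ι : Type} [Fintype ι] (M : ι → X.Modules) (n : ι → ℕ)
    (h : ∀ i, Nonempty (M i ≅ FlatMod.freeMod X (n i))) [HasCoproduct M] :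
    Nonempty ((∐ M) ≅ FlatMod.freeMod X (Fintype.card (Σ i, Fin (n i)))) := by
  exact ⟨Sigma.mapIso (fun i => (h i).some) ≪≫ sigmaSigmaIso _ _ ≪≫
    Sigma.whiskerEquiv (f := fun _ : (Σ i, Fin (n i)) => Coh.structureModule X)
      (g := fun _ => Coh.structureModule X) (Fintype.equivFin _) fun _ => Iso.refl _⟩

/-- The tensor product of bounded complexes of finite free modules is one. -/
theorem tensor_termFree (E F : CochainComplex X.Modules ℤ) (hE : DCoh.IsStrictlyPerfect E)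
    (hF : DCoh.IsStrictlyPerfect F) (hE' : IsTermFree E) (hF' : IsTermFree F) :
    DCoh.IsStrictlyPerfect ((DCoh.tensorCx.obj E).obj F) := by
  classical
  obtain ⟨⟨a, b, hab⟩, -⟩ := hE
  obtain ⟨⟨c, d, hcd⟩, -⟩ := hF
  choose m em using hE'
  choose l el using hF'
  let B := DCoh.tensorBi (X := X)
  have hz : ∀ p q : ℤ, (p < a ∨ b < p) ∨ (q < c ∨ d < q) → IsZero ((B.obj (E.X p)).obj (F.X q)) := by
    rintro p q (hp | hq)
    · exact (B.map_isZero (hab p hp)).obj _
    · exact (B.obj (E.X p)).map_isZero (hcd q hq)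
  have hfree : ∀ p q, Nonempty ((B.obj (E.X p)).obj (F.X q) ≅ FlatMod.freeMod X (l q * m p)) := fun p q => by
    obtain ⟨e⟩ := em p
    obtain ⟨e'⟩ := el q
    obtain ⟨t⟩ := nonempty_tensor_free (X := X) (m p) (l q)
    exact ⟨(B.mapIso e).app _ ≪≫ (B.obj _).mapIso e' ≪≫ t⟩
  let T := (DCoh.tensorCx.obj E).obj F
  have hX : ∀ n, Nonempty (T.X n ≅ ∐ fun p : Finset.Icc a b => (B.obj (E.X p.1)).obj (F.X (n - p.1))) := fun n => by
    let ι' : ∀ p q : ℤ, p + q = n → ((B.obj (E.X p)).obj (F.X q) ⟶ T.X n) := fun p q h =>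
      HomologicalComplex.ιMapBifunctor E F B (ComplexShape.up ℤ) p q n h
    let M := fun p : Finset.Icc a b => (B.obj (E.X p.1)).obj (F.X (n - p.1))
    let s : (∐ M) ⟶ T.X n := Sigma.desc fun p => ι' p.1 (n - p.1) (by omega)
    let i : T.X n ⟶ ∐ M := HomologicalComplex.mapBifunctorDesc fun p q h =>
      if hp : p ∈ Finset.Icc a b then
        (B.obj (E.X p)).map (F.XIsoOfEq (show q = n - p by
          change p + q = n at h; omega)).hom ≫ Sigma.ι M ⟨p, hp⟩
      else 0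
    refine ⟨⟨i, s, ?_, ?_⟩⟩
    · apply HomologicalComplex.mapBifunctor.hom_ext
      intro p q h
      change p + q = n at h
      obtain rfl : q = n - p := by omega
      refine Eq.trans ?_ (Category.comp_id _).symm
      rw [← Category.assoc]
      erw [HomologicalComplex.ι_mapBifunctorDesc]
      by_cases hp : p ∈ Finset.Icc a b
      · rw [dif_pos hp]
        simp only [HomologicalComplex.XIsoOfEq_rfl, Iso.refl_hom, CategoryTheory.Functor.map_id, Category.id_comp]
        exact Sigma.ι_desc (fun r : Finset.Icc a b => ι' r.1 (n - r.1) (by omega)) ⟨p, hp⟩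
      · rw [dif_neg hp, zero_comp]
        rw [Finset.mem_Icc] at hp
        exact (hz p (n - p) (Or.inl (by omega))).eq_of_src _ _
    · refine Sigma.hom_ext _ _ fun p => ?_
      rw [Sigma.ι_desc_assoc, Category.comp_id]
      erw [HomologicalComplex.ι_mapBifunctorDesc]
      rw [dif_pos p.2]
      simp
      rfl
  refine ⟨⟨a + c, b + d, fun n hn => ?_⟩, fun n => ?_⟩
  · obtain ⟨e⟩ := hX n
    refine IsZero.of_iso ((IsZero.iff_id_eq_zero _).2 (Sigma.hom_ext _ _ fun p => ?_)) e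
    have := Finset.mem_Icc.1 p.2
    exact (hz _ _ (Or.inr (by omega))).eq_of_src _ _
  · obtain ⟨e⟩ := hX n
    obtain ⟨t⟩ := exists_free_sigma (fun p : Finset.Icc a b => (B.obj (E.X p.1)).obj (F.X (n - p.1))) _
      fun p => hfree p.1 (n - p.1)
    exact fun x => ⟨⊤, _, trivial, ⟨(Scheme.Modules.restrictFunctor (⊤ : X.Opens).ι).mapIso (e ≪≫ t) ≪≫
      LF71.restrictFree _ _⟩⟩

/-- The inverse image of complexes. -/
abbrev pullCx (j : U ⟶ X) : CochainComplex X.Modules ℤ ⥤ CochainComplex U.Modules ℤ :=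
  (Scheme.Modules.pullback j).mapHomologicalComplex (ComplexShape.up ℤ)

/-- The derived tensor product exists for a K-flat complex. -/
theorem hasLTensorCx (L : CochainComplex X.Modules ℤ) (hL : DCoh.IsKFlat L) : DCoh.HasLTensorCx L := by
  have hF : (HomologicalComplex.quasiIso X.Modules (ComplexShape.up ℤ)).IsInvertedBy (DCoh.tensorCxQ L) := by
    intro F F' φ hφ
    exact (DerivedCategory.isIso_Q_map_iff_quasiIso X.Modules _).2
      (DCK91.quasiIso_right (O := X.sheaf) L hL φ ((HomologicalComplex.mem_quasiIso_iff φ).1 hφ))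
  have := Functor.isLeftDerivedFunctor_of_inverts (HomologicalComplex.quasiIso X.Modules (ComplexShape.up ℤ))
    (Localization.lift (DCoh.tensorCxQ L) hF DerivedCategory.Q) (Localization.fac (DCoh.tensorCxQ L) hF DerivedCategory.Q)
  exact Functor.HasLeftDerivedFunctor.mk' (L := DerivedCategory.Q)
    (LF := Localization.lift (DCoh.tensorCxQ L) hF DerivedCategory.Q)
    (α := (Localization.fac (DCoh.tensorCxQ L) hF DerivedCategory.Q).hom)

/-- The restriction of `K ⊗ L`. -/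
theorem nonempty_res_LTensor (j : U ⟶ X) [IsOpenImmersion j] (L : CochainComplex X.Modules ℤ)
    (hL : DCoh.IsKFlat L) [DCoh.HasLTensorCx L] (K : DCoh.D X) (E : CochainComplex U.Modules ℤ)
    (e : (resD j).obj K ≅ DerivedCategory.Q.obj E) :
    Nonempty ((resD j).obj ((DCoh.LTensorCx L).obj K) ≅
      DerivedCategory.Q.obj ((DCoh.tensorCx.obj E).obj ((pullCx j).obj L))) := by
  have := DCK91.hasLpull j
  have := hasLTensorCx _ (DCK91.isKFlat_pullback j L hL)
  obtain ⟨r⟩ := nonempty_Lpull_iso_resD j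
  obtain ⟨a⟩ := DCK91.Lpull_LTensor j L hL K
  obtain ⟨b⟩ := DCK91.nonempty_ltcIso _ (DCK91.isKFlat_pullback j L hL) E
  exact ⟨r.symm.app _ ≪≫ a ≪≫ (DCoh.LTensorCx _).mapIso (r.app K ≪≫ e) ≪≫ b⟩

/-- Restriction is the inverse image, on complexes. -/
def resCxIsoPull (j : U ⟶ X) [IsOpenImmersion j] : resCx j ≅ pullCx j :=
  NatIso.mapHomologicalComplex (Scheme.Modules.restrictFunctorIsoPullback j) _

/-- Local case. -/
theorem loc_perfRep_LTensor (L : CochainComplex X.Modules ℤ) (hL : DCoh.IsKFlat L) [DCoh.HasLTensorCx L]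
    (K : DCoh.D X) (E F : CochainComplex X.Modules ℤ) (hE : DCoh.IsStrictlyPerfect E)
    (hF : DCoh.IsStrictlyPerfect F) (hE' : IsTermFree E) (hF' : IsTermFree F)
    (e : K ≅ DerivedCategory.Q.obj E) (ψ : DerivedCategory.Q.obj F ≅ DerivedCategory.Q.obj L) :
    Loc (fun {_} A => HasPerfRep A) ((DCoh.LTensorCx L).obj K) := fun x => by
  obtain ⟨W, δ, hx, hδ⟩ := exists_rep hF ψ.hom x
  refine ⟨W, hx, ?_⟩
  have hδi : IsIso (DerivedCategory.Q.map δ) := by
    have : DerivedCategory.Q.map δ = (resQ W.ι F).inv ≫ (resD W.ι).map ψ.hom ≫ (resQ W.ι L).hom := by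
      rw [hδ]
      simp [resQ]
    rw [this]
    infer_instance
  let δ' : (resCx W.ι).obj F ⟶ (pullCx W.ι).obj L := δ ≫ (resCxIsoPull W.ι).hom.app L
  have : IsIso (DerivedCategory.Q.map δ') := by
    rw [Functor.map_comp]
    infer_instance
  have hFs := isStrictlyPerfect_restrict hF W.ι
  obtain ⟨a, b, hab⟩ := hFs.1
  have hkF := DCK91.kff_of_le _ b (fun i hi => hab i (Or.inr hi)) fun i => isFlat_of_isFinLocFree (hFs.2 i)
  have hq : QuasiIso ((DCoh.tensorCx.obj ((resCx W.ι).obj E)).map δ') :=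
    DCK91.quasiIso_left (O := (W : Scheme.{u}).sheaf) hkF.1 (DCK91.isKFlat_pullback W.ι L hL) δ'
      ((DerivedCategory.isIso_Q_map_iff_quasiIso _ δ').1 ‹_›) _
  have : IsIso (DerivedCategory.Q.map ((DCoh.tensorCx.obj ((resCx W.ι).obj E)).map δ')) :=
    (DerivedCategory.isIso_Q_map_iff_quasiIso _ _).2 hq
  obtain ⟨k⟩ := nonempty_res_LTensor W.ι L hL K _ ((resD W.ι).mapIso e ≪≫ resQ W.ι E)
  exact ⟨_, tensor_termFree _ _ (isStrictlyPerfect_restrict hE W.ι) hFs (hE'.restrict W.ι) (hF'.restrict W.ι),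
    ⟨k ≪≫ (asIso (DerivedCategory.Q.map ((DCoh.tensorCx.obj ((resCx W.ι).obj E)).map δ'))).symm⟩⟩

/-- The derived tensor product of perfect objects is perfect. -/
theorem isPerfect_LTensor (L : CochainComplex X.Modules ℤ) (hL : DCoh.IsKFlat L)
    (hLp : DCoh.IsPerfect (DerivedCategory.Q.obj L)) [DCoh.HasLTensorCx L] (K : DCoh.D X) (hK : DCoh.IsPerfect K) :
    DCoh.IsPerfect ((DCoh.LTensorCx L).obj K) := by
  rw [isPerfect_iff] at hLp hK ⊢
  intro x
  obtain ⟨V₁, hx₁, hV₁⟩ := hK x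
  obtain ⟨V₂, hx₂, hV₂⟩ := hLp x
  let V := V₁ ⊓ V₂
  obtain ⟨E, hE, ⟨e⟩⟩ := exists_inf (P := fun {_} A => HasPerfRep A) (fun h e => h.of_iso e)
    (fun j _ h => h.restrict j) _ (inf_le_left : V ≤ V₁) hV₁
  obtain ⟨F, hF, ⟨f⟩⟩ := exists_inf (P := fun {_} A => HasPerfRep A) (fun h e => h.of_iso e)
    (fun j _ h => h.restrict j) _ (inf_le_right : V ≤ V₂) hV₂
  obtain ⟨W₁, hw₁, hE'⟩ := exists_termFree hE ⟨x, hx₁, hx₂⟩
  obtain ⟨W₂, hw₂, hF'⟩ := exists_termFree hF ⟨x, hx₁, hx₂⟩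
  let W := W₁ ⊓ W₂
  have tf : ∀ {W' : (V : Scheme.{u}).Opens} {E : CochainComplex (V : Scheme.{u}).Modules ℤ},
      IsTermFree ((resCx W'.ι).obj E) → W ≤ W' → IsTermFree ((resCx W.ι).obj E) := by
    intro W' E h hle i
    obtain ⟨n, ⟨t⟩⟩ := h i
    obtain ⟨t'⟩ := isFree_restrict t ((V : Scheme.{u}).homOfLE hle)
    exact ⟨n, ⟨((Scheme.Modules.restrictFunctorCongr ((V : Scheme.{u}).homOfLE_ι hle)).symm.app _ ≪≫
      (Scheme.Modules.restrictFunctorComp _ _).app _) ≪≫ t'⟩⟩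
  let j := W.ι ≫ V.ι
  have := hasLTensorCx _ (DCK91.isKFlat_pullback j L hL)
  let e' : (resD j).obj K ≅ DerivedCategory.Q.obj ((resCx W.ι).obj E) :=
    (resDComp W.ι V.ι).symm.app K ≪≫ (resD W.ι).mapIso e ≪≫ resQ W.ι E
  let f' : DerivedCategory.Q.obj ((resCx W.ι).obj F) ≅ DerivedCategory.Q.obj ((pullCx j).obj L) :=
    (resQ W.ι F).symm ≪≫ (resD W.ι).mapIso f.symm ≪≫ (resDComp W.ι V.ι).app _ ≪≫ resQ j L ≪≫
      DerivedCategory.Q.mapIso ((resCxIsoPull j).app L)
  have := DCK91.hasLpull j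
  obtain ⟨r⟩ := nonempty_Lpull_iso_resD j
  obtain ⟨a⟩ := DCK91.Lpull_LTensor j L hL K
  obtain ⟨T, hT, hP⟩ := loc_perfRep_LTensor ((pullCx j).obj L) (DCK91.isKFlat_pullback j L hL)
    ((DCoh.Lpull j).obj K) _ _ (isStrictlyPerfect_restrict hE W.ι) (isStrictlyPerfect_restrict hF W.ι)
    (tf hE' inf_le_left) (tf hF' inf_le_right) (r.app K ≪≫ e') f' ⟨⟨x, hx₁, hx₂⟩, hw₁, hw₂⟩
  have hP' : HasPerfRep ((resD T.ι).obj ((resD j).obj ((DCoh.LTensorCx L).obj K))) :=
    hP.of_iso ((resD T.ι).mapIso (a.symm ≪≫ r.app _))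
  obtain ⟨i, _, hi⟩ := exists_opens_iso (T.ι ≫ j)
  refine ⟨(T.ι ≫ j).opensRange, ⟨⟨⟨⟨x, hx₁, hx₂⟩, hw₁, hw₂⟩, hT⟩, rfl⟩, ?_⟩
  exact ((hP'.of_iso ((resDComp T.ι j).app _)).restrict i).of_iso
    ((resDComp i (T.ι ≫ j)).app _ ≪≫ (resDCongr hi).app _)

end Groth.Agent.PerfFib24
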