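import Groth.Agent.PerfFib24.RelPerfSat
import Groth.Agent.PerfFib24.Tensor
import Groth.Agent.QExact41.Derived
import Groth.Agent.TorStalk41.Pull
import Groth.Agent.DerComp18.AwayHom

/-!
# The derived tensor product of a perfect and a relatively perfect object
-/

set_option autoImplicit false
set_option linter.style.haveILetI false
set_option backward.isDefEq.respectTransparency.types false
set_option backward.isDefEq.respectTransparency false

noncomputable section

universe w v u

open CategoryTheory Limits Pretriangulated AlgebraicGeometry DerivedCategory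
open Groth.Agent.DCX42

namespace Groth.Agent.PerfFib24

section Devissage

variable {A : Type u} [Category.{v} A] [Abelian A] [HasDerivedCategory.{w} A]
  (P : ObjectProperty (DerivedCategory A)) [P.IsClosedUnderIsomorphisms]

/-- Dévissage of a bounded complex by its terms. -/
theorem prop_of_terms (hzero : ∀ Z, IsZero Z → P Z)
    (hext : ∀ T ∈ distinguishedTriangles, P (Triangle.obj₁ T) → P (Triangle.obj₃ T) → P (Triangle.obj₂ T)) :
    ∀ (n : ℕ) (a : ℤ) (E : CochainComplex A ℤ), (∀ i, i < a ∨ a + n ≤ i → IsZero (E.X i)) →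
      (∀ i, P (Q.obj ((HomologicalComplex.single A (ComplexShape.up ℤ) i).obj (E.X i)))) → P (Q.obj E) := by
  intro n
  induction n with
  | zero =>
    intro a E hE _
    refine hzero _ (Functor.map_isZero Q ((IsZero.iff_id_eq_zero _).2 ?_))
    ext i : 1
    exact (hE i (by omega)).eq_of_src _ _
  | succ n ih =>
    intro a E hE hs
    haveI : ∀ i, Mono ((σIncl E (a + 1)).f i) := fun i => by
      by_cases h : a + 1 ≤ i
      · have := isIso_σIncl_f E (a + 1) h
        infer_instance
      · exact Preadditive.mono_of_cancel_zero _ fun x _ => (isZero_σX E (a + 1) (by omega)).eq_of_tgt _ _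
    haveI : Mono (σIncl E (a + 1)) := HomologicalComplex.mono_of_mono_f _ inferInstance
    let S : ShortComplex (CochainComplex A ℤ) :=
      ShortComplex.mk (σIncl E (a + 1)) (cokernel.π _) (cokernel.condition _)
    have hS : S.ShortExact :=
      { exact := ShortComplex.exact_of_g_is_cokernel _ (cokernelIsCokernel _)
        mono_f := inferInstanceAs (Mono (σIncl E (a + 1)))
        epi_g := inferInstanceAs (Epi (cokernel.π _)) }
    have hSi : ∀ i, (S.map (HomologicalComplex.eval _ _ i)).ShortExact :=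
      fun i => hS.map_of_exact (HomologicalComplex.eval _ _ i)
    have h3ge : ∀ i, a + 1 ≤ i → IsZero (S.X₃.X i) := fun i hi => by
      haveI : IsIso (S.map (HomologicalComplex.eval _ _ i)).f := isIso_σIncl_f E (a + 1) hi
      haveI := (hSi i).epi_g
      exact IsZero.of_epi_eq_zero (S.map (HomologicalComplex.eval _ _ i)).g
        ((cancel_epi (S.map (HomologicalComplex.eval _ _ i)).f).1
          ((S.map (HomologicalComplex.eval _ _ i)).zero.trans comp_zero.symm))
    have h3lt : ∀ i, i < a → IsZero (S.X₃.X i) := fun i hi => by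
      haveI := (hSi i).epi_g
      exact IsZero.of_epi (S.map (HomologicalComplex.eval _ _ i)).g (hE i (Or.inl hi))
    refine hext _ (triangleOfSES_distinguished hS) ?_ ?_
    · refine ih (a + 1) (σGE E (a + 1)) (fun i hi => ?_) fun i => ?_
      · by_cases h : a + 1 ≤ i
        · exact IsZero.of_iso (hE i (by push_cast; omega)) (eqToIso (σX_of_le E (a + 1) h))
        · exact isZero_σX E (a + 1) (by omega)
      · by_cases h : a + 1 ≤ i
        · exact P.prop_of_iso (Q.mapIso ((HomologicalComplex.single A (ComplexShape.up ℤ) i).mapIso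
            (eqToIso (σX_of_le E (a + 1) h).symm))) (hs i)
        · exact hzero _ (Functor.map_isZero Q (Functor.map_isZero _ (isZero_σX E (a + 1) (by omega))))
    · haveI : CochainComplex.IsStrictlyGE S.X₃ a :=
        (CochainComplex.isStrictlyGE_iff _ a).2 h3lt
      haveI : CochainComplex.IsStrictlyLE S.X₃ a :=
        (CochainComplex.isStrictlyLE_iff _ a).2 fun i hi => h3ge i (by omega)
      obtain ⟨M, ⟨e⟩⟩ := CochainComplex.exists_iso_single S.X₃ a
      have hz : IsZero (S.map (HomologicalComplex.eval _ _ a)).X₁ := isZero_σX E (a + 1) (by omega)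
      haveI : Mono (S.map (HomologicalComplex.eval _ _ a)).g := (hSi a).exact.mono_g (hz.eq_of_src _ _)
      haveI := (hSi a).epi_g
      haveI := isIso_of_mono_of_epi (S.map (HomologicalComplex.eval _ _ a)).g
      let eM : E.X a ≅ M := asIso (S.map (HomologicalComplex.eval _ _ a)).g ≪≫
        (HomologicalComplex.eval A (ComplexShape.up ℤ) a).mapIso e ≪≫ HomologicalComplex.singleObjXSelf (ComplexShape.up ℤ) a M
      exact P.prop_of_iso (Q.mapIso ((HomologicalComplex.single A (ComplexShape.up ℤ) a).mapIso eM ≪≫ e.symm))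
        (hs a)

end Devissage

attribute [local instance] HasDerivedCategory.standard

variable {X S : Scheme.{u}}

/-- The unit of the tensor product of complexes. -/
theorem nonempty_unit_tensor (L : CochainComplex X.Modules ℤ) :
    Nonempty ((DCoh.tensorCx.obj ((HomologicalComplex.single X.Modules (ComplexShape.up ℤ) 0).obj
      (Coh.structureModule X))).obj L ≅ L) :=
  ⟨Mod48.tcSymm (O := X.sheaf) _ L ≪≫ (Mod48.tcSingleIso (O := X.sheaf) L (ModSite.unit X.sheaf)).symm ≪≫
    (NatIso.mapHomologicalComplex (Mod48.tRIso (ModSite.unit X.sheaf) ≪≫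
      (Mod48.tensSymm (O := X.sheaf) (ModSite.unit X.sheaf)).symm ≪≫ Mod48.tensUnit) _).app L ≪≫
    (Functor.mapHomologicalComplexIdIso _ _).app L⟩

variable (f : X ⟶ S) [Flat f]

/-- Tensoring with a bounded complex of finite free modules. -/
theorem relPerf_tensor_termFree (L : CochainComplex X.Modules ℤ) (hL : DCoh.IsKFlat L)
    (h : RelPerf f (Q.obj L)) (E : CochainComplex X.Modules ℤ) (hE : DCoh.IsStrictlyPerfect E)
    (hE' : IsTermFree E) : RelPerf f (Q.obj ((DCoh.tensorCx.obj E).obj L)) := by
  classical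
  haveI := hasLTensorCx L hL
  let Φ := DCoh.LTensorCx L
  haveI := relPerf_isTriangulated f
  haveI := relPerf_retracts f
  haveI : (RelPerf f).IsClosedUnderIsomorphisms := inferInstance
  have hΦ : QExact41.TriLike Φ := QExact41.triLike_LTensorCx L
  haveI : Φ.Additive := hΦ.additive
  let P : ObjectProperty (DCoh.D X) := fun A => RelPerf f (Φ.obj A)
  haveI : P.IsClosedUnderIsomorphisms := ⟨fun e hA => (RelPerf f).prop_of_iso (Φ.mapIso e) hA⟩
  have hzero : ∀ Z, IsZero Z → P Z := fun Z hZ => (RelPerf f).prop_of_isZero (hΦ.isZero_obj hZ)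
  have hext : ∀ T ∈ distinguishedTriangles, P (Triangle.obj₁ T) → P (Triangle.obj₃ T) → P (Triangle.obj₂ T) :=
    fun T hT h₁ h₃ => by
      obtain ⟨δ, hδ⟩ := hΦ T hT
      exact (RelPerf f).ext_of_isTriangulatedClosed₂ _ hδ h₁ h₃
  have hshift : ∀ (A : DCoh.D X) (n : ℤ), P A → P (A⟦n⟧) := by
    have h1 : ∀ A : DCoh.D X, Nonempty (Φ.obj (A⟦(1 : ℤ)⟧) ≅ (Φ.obj A)⟦(1 : ℤ)⟧) := fun A => by
      obtain ⟨δ, hδ⟩ := hΦ _ (rot_of_distTriang _ (contractible_distinguished A))
      haveI := (Triangle.isZero₂_iff_isIso₃ _ hδ).1 (hΦ.isZero_obj (isZero_zero _))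
      exact ⟨@asIso _ _ _ _ δ this⟩
    have h2 : ∀ A : DCoh.D X, P A ↔ P (A⟦(1 : ℤ)⟧) := fun A => by
      obtain ⟨e⟩ := h1 A
      refine ⟨fun hA => (RelPerf f).prop_of_iso e.symm ((RelPerf f).le_shift _ _ hA), fun hA => ?_⟩
      exact (RelPerf f).prop_of_iso ((shiftEquiv (DCoh.D X) (1 : ℤ)).unitIso.app _).symm
        ((RelPerf f).le_shift (-1 : ℤ) _ ((RelPerf f).prop_of_iso e hA))
    intro A n hA
    induction n using Int.induction_on with
    | zero => exact P.prop_of_iso ((shiftFunctorZero (DCoh.D X) ℤ).app A).symm hA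
    | succ k ih => exact P.prop_of_iso ((shiftFunctorAdd' (DCoh.D X) (k : ℤ) 1 _ rfl).app A).symm ((h2 _).1 ih)
    | pred k ih =>
      exact (h2 _).2 (P.prop_of_iso ((shiftFunctorAdd' (DCoh.D X) (-(k : ℤ) - 1) 1 (-(k : ℤ)) (by omega)).app A) ih)
  have hunit : P (Q.obj ((HomologicalComplex.single X.Modules (ComplexShape.up ℤ) 0).obj
      (Coh.structureModule X))) := by
    obtain ⟨e⟩ := TorStalk41.nonempty_ltensorIso L ((HomologicalComplex.single X.Modules (ComplexShape.up ℤ) 0).obj
      (Coh.structureModule X)) (Mod48.isKFlat_single (O := X.sheaf)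
        DerComp18.isFlat_unit')
    obtain ⟨e'⟩ := nonempty_unit_tensor L
    exact (RelPerf f).prop_of_iso (e ≪≫ Q.mapIso e').symm h
  have hfree : ∀ (m : ℕ) (i : ℤ),
      P (Q.obj ((HomologicalComplex.single X.Modules (ComplexShape.up ℤ) i).obj (FlatMod.freeMod X m))) := by
    intro m i
    let Ψ : X.Modules ⥤ DCoh.D X := singleFunctor X.Modules 0 ⋙ Φ
    haveI : Ψ.Additive := inferInstanceAs ((singleFunctor X.Modules 0 ⋙ Φ).Additive)
    haveI : PreservesFiniteBiproducts Ψ := inferInstance
    have h0 : P ((singleFunctor X.Modules 0).obj (FlatMod.freeMod X m)) := by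
      let M : Fin m → X.Modules := fun _ => Coh.structureModule X
      refine (RelPerf f).prop_of_iso (Ψ.mapIso (biproduct.isoCoproduct M)) ?_
      refine (RelPerf f).prop_of_iso (Ψ.mapBiproduct M ≪≫ biproduct.isoProduct _).symm ?_
      exact (RelPerf f).prop_product fun _ =>
        (RelPerf f).prop_of_iso (Φ.mapIso ((singleFunctorIsoCompQ X.Modules 0).app _)).symm hunit
    exact P.prop_of_iso ((singleFunctorIsoCompQ X.Modules i).app _)
      (P.prop_of_iso (((SingleFunctors.shiftIso (singleFunctors X.Modules) (-i) i 0 (by omega)).app _))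
        (hshift _ (-i) h0))
  obtain ⟨⟨a, b, hab⟩, hEf⟩ := hE
  have := prop_of_terms P hzero hext (b + 1 - a).toNat a E (fun i hi => hab i (by omega)) fun i => by
    obtain ⟨m, ⟨e⟩⟩ := hE' i
    exact P.prop_of_iso (Q.mapIso ((HomologicalComplex.single _ _ i).mapIso e.symm)) (hfree m i)
  obtain ⟨e⟩ := TorStalk41.nonempty_ltensorIso L E (DCK91.kff_of_le E b (fun i hi => hab i (Or.inr hi))
    fun i => isFlat_of_isFinLocFree (hEf i)).1
  exact (RelPerf f).prop_of_iso e this

end Groth.Agent.PerfFib24
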