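import Groth.Agent.TorStalk41.Pull
import Groth.Agent.TorStalk41.Extern
import Groth.Agent.FlatMor66.BCStalk
import Groth.Agent.FDesc60.QF2
import Groth.Agent.DCX42.LpullLoc
import Groth.Prelude.Def_DCoh3

/-!
# Base change of relatively flat complexes of modules

For a pullback square with `f` flat, the inverse image along `g'` keeps relative flatness of any
module and sends quasi-isomorphisms of bounded above relatively flat complexes to quasi-isomorphisms.
-/

set_option autoImplicit false
set_option linter.style.haveILetI false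
set_option backward.isDefEq.respectTransparency.types false
set_option backward.isDefEq.respectTransparency false

noncomputable section

universe u

open CategoryTheory Limits Pretriangulated AlgebraicGeometry MonoidalCategory
open Groth.Agent.DCX42 Groth.Agent.TorStalk41 Groth.Agent.DR39
open scoped TensorProduct

attribute [local instance] HasDerivedCategory.standard

namespace Groth.Agent.PerfFib24

section Alg

variable {R A₁ B₂ M : Type u} [CommRing R] [CommRing A₁] [CommRing B₂] [CommRing M] [Algebra R A₁] [Algebra R B₂]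

theorem quasiIso_extendScalars_of_flat {B T : Type u} [CommRing B] [CommRing T] (τ : B →+* T) (hτ : τ.Flat)
    {U V : DRing.Cx B} (f : U ⟶ V) [QuasiIso f] :
    QuasiIso (((ModuleCat.extendScalars.{u, u, u} τ).mapHomologicalComplex (ComplexShape.up ℤ)).map f) := by
  haveI := preservesFiniteLimits_extendScalars τ hτ
  haveI : PreservesFiniteColimits (ModuleCat.extendScalars.{u, u, u} τ) :=
    haveI := (ModuleCat.extendRestrictScalarsAdj.{u, u, u} τ).leftAdjoint_preservesColimits
    inferInstance
  infer_instance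

/-- A quasi-isomorphism of bounded above complexes of `R`-flat `B₂`-modules stays one after extending
scalars to a flat algebra over `A₁ ⊗[R] B₂`. -/
theorem quasiIso_ext_relFlat (τ : A₁ ⊗[R] B₂ →+* M) (hτ : τ.Flat) (a : B₂ →+* M)
    (ha : τ.comp (incR (R := R) A₁ B₂) = a) {U V : DRing.Cx B₂} (b : ℤ)
    (hUb : ∀ i, b < i → IsZero (U.X i)) (hVb : ∀ i, b < i → IsZero (V.X i))
    (hU : ∀ i, Module.Flat R ((ModuleCat.restrictScalars (algebraMap R B₂)).obj (U.X i)))
    (hV : ∀ i, Module.Flat R ((ModuleCat.restrictScalars (algebraMap R B₂)).obj (V.X i)))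
    (f : U ⟶ V) [QuasiIso f] :
    QuasiIso (((ModuleCat.extendScalars.{u, u, u} a).mapHomologicalComplex (ComplexShape.up ℤ)).map f) := by
  subst ha
  have hkf : ∀ {W : DRing.Cx B₂}, (∀ i, b < i → IsZero (W.X i)) →
      (∀ i, Module.Flat R ((ModuleCat.restrictScalars (algebraMap R B₂)).obj (W.X i))) →
      DRing.IsKFlat R (resCx (algebraMap R B₂) W) := fun {W} hb hW =>
    isKFlat_of_flat b (fun i hi => (ModuleCat.restrictScalars _).map_isZero (hb i hi)) hW
  haveI := quasiIso_ext_of_kflat_base (algebraMap R B₂) (algebraMap R A₁) (incR (R := R) A₁ B₂)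
    (incL (R := R) A₁ B₂) _ push₀ (hkf hUb hU) (hkf hVb hV) f
  haveI := quasiIso_extendScalars_of_flat τ hτ
    (((ModuleCat.extendScalars.{u, u, u} (incR (R := R) A₁ B₂)).mapHomologicalComplex (ComplexShape.up ℤ)).map f)
  let e := NatIso.mapHomologicalComplex
    (ModuleCat.extendScalarsComp (incR (R := R) A₁ B₂) τ).symm (ComplexShape.up ℤ)
  exact quasiIso_of_arrow_mk_iso
    (((ModuleCat.extendScalars.{u, u, u} τ).mapHomologicalComplex (ComplexShape.up ℤ)).map
      (((ModuleCat.extendScalars.{u, u, u} (incR (R := R) A₁ B₂)).mapHomologicalComplex (ComplexShape.up ℤ)).map f)) _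
    (Arrow.isoMk (e.app U) (e.app V) (e.hom.naturality f).symm)

end Alg

section Geom

variable {X S X' S' : Scheme.{u}} {f : X ⟶ S} {f' : X' ⟶ S'} {g' : X' ⟶ X} {g : S' ⟶ S}

/-- Relative flatness of any module is stable under base change. -/
theorem isFlatOver_baseChange (hc : IsPullback g' f' f g) (F : X.Modules) (h : FlatMod.IsFlatOver f F) :
    FlatMod.IsFlatOver f' ((Scheme.Modules.pullback g').obj F) := by
  intro x'
  let y := g' x'
  let z := f' x'
  have e₀ : g z = f y := by rw [← Scheme.Hom.comp_apply, ← hc.w, Scheme.Hom.comp_apply]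
  let R := S.presheaf.stalk (f y)
  let B := X.presheaf.stalk y
  let R' := S'.presheaf.stalk z
  let M := X'.presheaf.stalk x'
  let Fy := F.presheaf.stalk y
  letI iRB : Algebra R B := (f.stalkMap y).hom.toAlgebra
  letI iRR' : Algebra R R' := ((S.presheaf.stalkCongr (.of_eq e₀.symm)).hom ≫ g.stalkMap z).hom.toAlgebra
  obtain ⟨τ, hτ, hτB, hτC⟩ := FlatMor66.exists_tensor_stalk_flat hc x' y z (f y) rfl rfl rfl e₀
    (by simp [RingHom.algebraMap_toAlgebra, iRB, TopCat.Presheaf.stalkCongr_hom]) rfl
  letI iBM : Algebra B M := (g'.stalkMap x').hom.toAlgebra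
  letI iTM : Algebra (B ⊗[R] R') M := τ.toAlgebra
  letI iR'M : Algebra R' M := (f'.stalkMap x').hom.toAlgebra
  letI iR'T : Algebra R' (B ⊗[R] R') :=
    (Algebra.TensorProduct.includeRight : R' →ₐ[R] B ⊗[R] R').toRingHom.toAlgebra
  have : IsScalarTower B (B ⊗[R] R') M := .of_algebraMap_eq fun b => by
    show _ = τ (b ⊗ₜ 1)
    rw [hτB]
    simp [RingHom.algebraMap_toAlgebra, TopCat.Presheaf.stalkCongr_hom]
    rfl
  have : IsScalarTower R' (B ⊗[R] R') M := .of_algebraMap_eq fun c => by
    show _ = τ (1 ⊗ₜ c)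
    rw [hτC]
    simp [RingHom.algebraMap_toAlgebra, TopCat.Presheaf.stalkCongr_hom]
    rfl
  letI : Module R Fy := FlatMod.moduleStalkOver f F y
  have : IsScalarTower R B Fy := .of_algebraMap_smul fun r s => rfl
  have : Module.Flat R Fy := h y
  have : Module.Flat R' ((B ⊗[R] R') ⊗[B] Fy) := FlatMor66.flat_tensor_baseChange
  have : Module.Flat (B ⊗[R] R') M := hτ
  have : Module.Flat R' (M ⊗[B ⊗[R] R'] ((B ⊗[R] R') ⊗[B] Fy)) := FDesc60.flat_tensor_of_flat
  have h2 : Module.Flat R' (M ⊗[B] Fy) :=
    Module.Flat.of_linearEquiv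
      ((TensorProduct.AlgebraTensorModule.cancelBaseChange B (B ⊗[R] R') M M Fy).restrictScalars R').symm
  letI : Module B (((Scheme.Modules.pullback g').obj F).presheaf.stalk x') :=
    Module.compHom _ (g'.stalkMap x').hom
  haveI : IsScalarTower B M (((Scheme.Modules.pullback g').obj F).presheaf.stalk x') :=
    IsScalarTower.of_algebraMap_smul fun r e => rfl
  have hbc : IsBaseChange M (DCK91.pullη g' F x') := DCK91.isBaseChange_pullη g' F x'
  letI : Module R' (((Scheme.Modules.pullback g').obj F).presheaf.stalk x') :=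
    FlatMod.moduleStalkOver f' ((Scheme.Modules.pullback g').obj F) x'
  have : IsScalarTower R' M (((Scheme.Modules.pullback g').obj F).presheaf.stalk x') :=
    .of_algebraMap_smul fun r s => rfl
  exact Module.Flat.of_linearEquiv (hbc.equiv.restrictScalars R').symm

/-- A flat module on a scheme flat over the base is flat over the base. -/
theorem isFlatOver_of_isFlat [Flat f] (F : X.Modules) (h : FlatMod.IsFlat F) : FlatMod.IsFlatOver f F := fun x => by
  letI : Algebra (S.presheaf.stalk (f x)) (X.presheaf.stalk x) := (f.stalkMap x).hom.toAlgebra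
  letI : Module (S.presheaf.stalk (f x)) (F.presheaf.stalk x) := FlatMod.moduleStalkOver f F x
  haveI : IsScalarTower (S.presheaf.stalk (f x)) (X.presheaf.stalk x) (F.presheaf.stalk x) :=
    .of_algebraMap_smul fun r s => rfl
  haveI : Module.Flat (S.presheaf.stalk (f x)) (X.presheaf.stalk x) := Flat.stalkMap f x
  haveI : Module.Flat (X.presheaf.stalk x) (F.presheaf.stalk x) := h x
  exact Module.Flat.trans (S.presheaf.stalk (f x)) (X.presheaf.stalk x) (F.presheaf.stalk x)

theorem isZero_of_isZero_stalks {M : X.Modules} (h : ∀ x : X, IsZero ((DCK91.SP x).obj M)) : IsZero M :=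
  DCK91.isZero_of_stalks h

/-- Quasi-isomorphisms are detected on stalks. -/
theorem quasiIso_of_SPc {K L : CochainComplex X.Modules ℤ} (c : K ⟶ L)
    (h : ∀ x : X, QuasiIso ((DCK91.SPc x).map c)) : QuasiIso c := by
  rw [quasiIso_iff]
  intro i
  rw [quasiIsoAt_iff_isIso_homologyMap]
  let φ := HomologicalComplex.homologyMap c i
  have hiso : ∀ x : X, IsIso ((DCK91.SP x).map φ) := fun x => by
    haveI := h x
    have : IsIso (ShortComplex.homologyMap
        ((DCK91.SP x).mapShortComplex.map ((HomologicalComplex.shortComplexFunctor X.Modules _ i).map c))) :=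
      inferInstanceAs (IsIso (HomologicalComplex.homologyMap ((DCK91.SPc x).map c) i))
    have e := ShortComplex.mapHomologyIso_hom_naturality
      ((HomologicalComplex.shortComplexFunctor X.Modules _ i).map c) (DCK91.SP x)
    change IsIso ((DCK91.SP x).map (ShortComplex.homologyMap ((HomologicalComplex.shortComplexFunctor X.Modules _ i).map c)))
    exact IsIso.of_isIso_fac_left e.symm
  haveI : ∀ x : X, PreservesFiniteLimits (DCK91.SP x) := fun x =>
    Functor.preservesFiniteLimits_of_preservesHomology _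
  haveI : ∀ x : X, PreservesFiniteColimits (DCK91.SP x) := fun x =>
    Functor.preservesFiniteColimits_of_preservesHomology _
  have : Mono φ := Abelian.mono_of_kernel_ι_eq_zero φ ((isZero_of_isZero_stalks fun x => by
    haveI := hiso x
    exact (isZero_kernel_of_mono ((DCK91.SP x).map φ)).of_iso (PreservesKernel.iso (DCK91.SP x) φ)).eq_of_src _ _)
  have : Epi φ := Abelian.epi_of_cokernel_π_eq_zero φ ((isZero_of_isZero_stalks fun x => by
    haveI := hiso x
    exact (isZero_cokernel_of_epi ((DCK91.SP x).map φ)).of_iso (PreservesCokernel.iso (DCK91.SP x) φ)).eq_of_tgt _ _)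
  exact isIso_of_mono_of_epi φ

/-- The inverse image of a quasi-isomorphism of bounded above relatively flat complexes. -/
theorem quasiIso_pullback_relFlat (hc : IsPullback g' f' f g) {U V : CochainComplex X.Modules ℤ} (b : ℤ)
    (hUb : ∀ i, b < i → IsZero (U.X i)) (hVb : ∀ i, b < i → IsZero (V.X i))
    (hU : ∀ i, FlatMod.IsFlatOver f (U.X i)) (hV : ∀ i, FlatMod.IsFlatOver f (V.X i))
    (c : U ⟶ V) [QuasiIso c] :
    QuasiIso (((Scheme.Modules.pullback g').mapHomologicalComplex (ComplexShape.up ℤ)).map c) := by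
  refine quasiIso_of_SPc _ fun x' => ?_
  let y := g' x'
  let z := f' x'
  have e₀ : g z = f y := by rw [← Scheme.Hom.comp_apply, ← hc.w, Scheme.Hom.comp_apply]
  let R := S.presheaf.stalk (f y)
  let B := X.presheaf.stalk y
  let R' := S'.presheaf.stalk z
  let M := X'.presheaf.stalk x'
  letI iRB : Algebra R B := (f.stalkMap y).hom.toAlgebra
  letI iRR' : Algebra R R' := ((S.presheaf.stalkCongr (.of_eq e₀.symm)).hom ≫ g.stalkMap z).hom.toAlgebra
  obtain ⟨τ, hτ, hτB, -⟩ := FlatMor66.exists_tensor_stalk_flat hc x' y z (f y) rfl rfl rfl e₀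
    (by simp [RingHom.algebraMap_toAlgebra, iRB, TopCat.Presheaf.stalkCongr_hom]) rfl
  let τ' : R' ⊗[R] B →+* M := τ.comp (Algebra.TensorProduct.comm R R' B).toRingEquiv.toRingHom
  have hτ' : τ'.Flat := RingHom.Flat.comp
    (RingHom.Flat.of_bijective (Algebra.TensorProduct.comm R R' B).toRingEquiv.bijective) hτ
  have ha : τ'.comp (incR (R := R) R' B) = (g'.stalkMap x').hom := RingHom.ext fun b => by
    show τ (Algebra.TensorProduct.comm R R' B (1 ⊗ₜ b)) = _
    rw [Algebra.TensorProduct.comm_tmul, hτB]
    simp [TopCat.Presheaf.stalkCongr_hom]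
    rfl
  have hflat : ∀ {W : CochainComplex X.Modules ℤ}, (∀ i, FlatMod.IsFlatOver f (W.X i)) →
      ∀ i, Module.Flat R ((ModuleCat.restrictScalars (algebraMap R B)).obj (((DCK91.SPc y).obj W).X i)) :=
    fun hW i => hW i y
  haveI : QuasiIso ((DCK91.SPc y).map c) := inferInstance
  haveI := quasiIso_ext_relFlat τ' hτ' (g'.stalkMap x').hom ha (U := (DCK91.SPc y).obj U) (V := (DCK91.SPc y).obj V)
    b (fun i hi => (DCK91.SP y).map_isZero (hUb i hi)) (fun i hi => (DCK91.SP y).map_isZero (hVb i hi))
    (hflat hU) (hflat hV) ((DCK91.SPc y).map c)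
  let τN := NatIso.mapHomologicalComplex (DCK91.pullStalkIso g' x') (ComplexShape.up ℤ)
  exact quasiIso_of_arrow_mk_iso
    (((ModuleCat.extendScalars.{u, u, u} (g'.stalkMap x').hom).mapHomologicalComplex (ComplexShape.up ℤ)).map
      ((DCK91.SPc y).map c)) _
    (Arrow.isoMk (τN.app U) (τN.app V) (τN.hom.naturality c).symm)

end Geom

end Groth.Agent.PerfFib24
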