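import Groth.Agent.PerfFib24.PointRank

/-!
# Semicontinuity of the fibre dimensions of pseudo-coherent complexes
-/

set_option autoImplicit false
set_option backward.isDefEq.respectTransparency.types false
set_option backward.isDefEq.respectTransparency false

noncomputable section

universe u

open CategoryTheory Limits Pretriangulated AlgebraicGeometry TopologicalSpace Opposite
open Groth.Agent.DCX42

attribute [local instance] HasDerivedCategory.standard

namespace Groth.Agent.PerfFib24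

variable {X : Scheme.{u}}

/-- A `(p-1)`-approximation computes `Hᵖ` of derived pullbacks. -/
theorem nonempty_HD_lpull {W T : Scheme.{u}} (g : T ⟶ W) [DCoh.HasLpull g]
    {F : CochainComplex W.Modules ℤ} (hF : DCoh.IsStrictlyPerfect F) {K : DCoh.D W}
    (α : DerivedCategory.Q.obj F ⟶ K) (p : ℤ) (hα : PCMap (p - 1) α) :
    Nonempty (DCoh.HD ((DCoh.Lpull g).obj K) p ≅
      (((Scheme.Modules.pullback g).mapHomologicalComplex (ComplexShape.up ℤ)).obj F).homology p) := by
  obtain ⟨C, β, γ, hT⟩ := distinguished_cocone_triangle α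
  obtain ⟨T', hT', ⟨e₁⟩, ⟨e₂⟩, ⟨e₃⟩⟩ := exists_Lpull_triangle g _ hT
  have hC : T'.obj₃.IsLE (p - 1 - 1) :=
    have : ((DCoh.Lpull g).obj (Triangle.mk α β γ).obj₃).IsLE (p - 1 - 1) :=
      isLE_Lpull g ((pcMap_iff_isLE hT (p - 1)).1 hα)
    (DerivedCategory.TStructure.t).isLE_of_iso e₃.symm (p - 1 - 1)
  have h1 : PCMap (p - 1) T'.mor₁ := (pcMap_iff_isLE (β := T'.mor₂) (γ := T'.mor₃) hT' (p - 1)).2 hC
  let H := DerivedCategory.homologyFunctor T.Modules p
  have : IsIso (H.map T'.mor₁) := h1.1 p (by omega)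
  exact ⟨H.mapIso e₂.symm ≪≫ (asIso (H.map T'.mor₁)).symm ≪≫ H.mapIso (e₁ ≪≫ lpullSP g hF) ≪≫
    (DerivedCategory.homologyFunctorFactors T.Modules p).app _⟩

section Point

variable {W T : Scheme.{u}} (g : T ⟶ W) [Subsingleton T] [Nonempty T]

theorem finrank_range_of_iso {K : Type u} [Ring K] {A A' B B' : ModuleCat.{u} K} (a : A ≅ A') (b : B ≅ B')
    (f : A ⟶ B) (f' : A' ⟶ B') (h : f ≫ b.hom = a.hom ≫ f') :
    Module.finrank K (LinearMap.range f.hom) = Module.finrank K (LinearMap.range f'.hom) := by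
  have h' := congrArg (fun z : A ⟶ B' => LinearMap.range z.hom) h
  simp only [ModuleCat.hom_comp] at h'
  rw [LinearMap.range_comp_of_range_eq_top _ (show LinearMap.range a.hom.hom = ⊤ from a.toLinearEquiv.range),
    LinearMap.range_comp] at h'
  rw [← h']
  exact (LinearEquiv.finrank_map_eq b.toLinearEquiv _).symm

/-- The dimension of `Hᵖ` at a field point in terms of ranks of matrices. -/
theorem finrank_homology_pullback (hT : IsField (Coh.Γtop T)) (F : CochainComplex W.Modules ℤ)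
    (n : ℤ → ℕ) (e : ∀ i, F.X i ≅ FlatMod.freeMod W (n i)) (p : ℤ) :
    Module.finrank (Coh.Γtop T)
        (((((Scheme.Modules.pullback g).mapHomologicalComplex (ComplexShape.up ℤ)).obj F).homology p).val.obj (op ⊤)) +
        (matAt g ((e (p - 1)).inv ≫ F.d (p - 1) p ≫ (e p).hom)).rank +
        (matAt g ((e p).inv ≫ F.d p (p + 1) ≫ (e (p + 1)).hom)).rank = n p := by
  letI : DivisionRing (Coh.Γtop T) := hT.toField.toDivisionRing
  have := preservesHomology_secTop T
  let E := ((Scheme.Modules.pullback g).mapHomologicalComplex (ComplexShape.up ℤ)).obj F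
  let C := ((secTop T).mapHomologicalComplex (ComplexShape.up ℤ)).obj E
  let G := Scheme.Modules.pullback g ⋙ secTop T
  obtain ⟨h1, h2⟩ := finrank_freeMod_top T hT (n p)
  let l : C.X p ≅ (secTop T).obj (FlatMod.freeMod T (n p)) :=
    G.mapIso (e p) ≪≫ (secTop T).mapIso (FrB.pullbackFreeIso g (n p))
  have : Module.Finite (Coh.Γtop T) (C.sc' (p - 1) p (p + 1)).X₂ := Module.Finite.equiv l.toLinearEquiv.symm
  have h := finrank_homology_add (C.sc' (p - 1) p (p + 1))
  have hr : ∀ i j, Module.finrank (Coh.Γtop T) (LinearMap.range (C.d i j).hom) =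
      (matAt g ((e i).inv ≫ F.d i j ≫ (e j).hom)).rank := fun i j => by
    refine (finrank_range_of_iso (G.mapIso (e i)) (G.mapIso (e j)) (C.d i j)
      (G.map ((e i).inv ≫ F.d i j ≫ (e j).hom)) ?_).trans (finrank_range_pullback g _)
    show G.map (F.d i j) ≫ G.map (e j).hom = G.map (e i).hom ≫ _
    rw [← G.map_comp, ← G.map_comp, Iso.hom_inv_id_assoc]
  have hh : Module.finrank (Coh.Γtop T) ((E.homology p).val.obj (op ⊤)) =
      Module.finrank (Coh.Γtop T) (C.sc' (p - 1) p (p + 1)).homology :=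
    ((((E.sc p).mapHomologyIso (secTop T)).symm ≪≫
      C.homologyIsoSc' (p - 1) p (p + 1) (by simp) (by simp)).toLinearEquiv).finrank_eq
  have hn : Module.finrank (Coh.Γtop T) (C.sc' (p - 1) p (p + 1)).X₂ = n p := l.toLinearEquiv.finrank_eq.trans h1
  rw [← hr, ← hr, hh, ← hn]
  exact h

end Point

/-- The fibre dimension in degree `p` of a `(p-1)`-pseudo-coherent object is upper semicontinuous. -/
theorem isOpen_betti_lt [∀ x : X, DCoh.HasLpull (X.fromSpecResidueField x)] (E : DCoh.D X) (p : ℤ)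
    (hE : DCoh.IsPseudoCoherentD (p - 1) E) (m : ℕ) : IsOpen {x : X | PerfD.betti E x p < m} := by
  rw [isOpen_iff_forall_mem_open]
  intro x hx
  obtain ⟨V, hxV, F₀, α₀, hF₀, hα₀⟩ := (isPC_iff _ _).1 hE x
  obtain ⟨W, hxW, hfree⟩ := exists_termFree hF₀ ⟨x, hxV⟩
  choose n e using hfree
  let j := W.ι ≫ V.ι
  let F := (resCx W.ι).obj F₀
  have hF : DCoh.IsStrictlyPerfect F := isStrictlyPerfect_restrict hF₀ W.ι
  have := DCK91.hasLpull j
  obtain ⟨r⟩ := nonempty_Lpull_iso_resD j
  let α : DerivedCategory.Q.obj F ⟶ (DCoh.Lpull j).obj E :=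
    (resQ W.ι F₀).inv ≫ (resD W.ι).map α₀ ≫ ((resDComp W.ι V.ι).app E ≪≫ (r.app E).symm).hom
  have hα : PCMap (p - 1) α :=
    (PCMap.of_isIso _ _).comp ((hα₀.map _).comp (PCMap.of_isIso _ _))
  let e' : ∀ i, F.X i ≅ FlatMod.freeMod (W : Scheme.{u}) (n i) := fun i => (e i).some
  let A := (e' (p - 1)).inv ≫ F.d (p - 1) p ≫ (e' p).hom
  let B := (e' p).inv ≫ F.d p (p + 1) ≫ (e' (p + 1)).hom
  have key : ∀ (y : X) (g : Spec (X.residueField y) ⟶ (W : Scheme.{u})), g ≫ j = X.fromSpecResidueField y →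
      PerfD.betti E y p + (matAt g A).rank + (matAt g B).rank = n p := fun y g hg => by
    have : Subsingleton (Spec (X.residueField y)) := inferInstanceAs (Subsingleton (PrimeSpectrum (X.residueField y)))
    have : Nonempty (Spec (X.residueField y)) := inferInstanceAs (Nonempty (PrimeSpectrum (X.residueField y)))
    have := DCK91.hasLpull g
    have : DCoh.HasLpull (g ≫ j) := hg ▸ inferInstance
    obtain ⟨c⟩ := DCK91.Lpull_comp g j
    have hc : ∀ {a b : Spec (X.residueField y) ⟶ X} (_ : a = b) [DCoh.HasLpull a] [DCoh.HasLpull b],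
        Nonempty (DCoh.Lpull a ≅ DCoh.Lpull b) := by
      intro a b hab _ _
      subst hab
      exact ⟨Iso.refl _⟩
    obtain ⟨c'⟩ := hc hg.symm
    obtain ⟨φ⟩ := nonempty_HD_lpull g hF α p hα
    let ψ := (DerivedCategory.homologyFunctor _ p).mapIso (c'.app E ≪≫ c.symm.app E) ≪≫ φ
    have h := finrank_homology_pullback g (isField_Γtop _ (Field.toIsField (X.residueField y))) F n e' p
    have h' := ((secTop _).mapIso ψ).toLinearEquiv.finrank_eq
    exact (congrArg (· + (matAt g A).rank + (matAt g B).rank) h').trans h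
  have lift : ∀ y ∈ j.opensRange, ∃ g : Spec (X.residueField y) ⟶ (W : Scheme.{u}),
      g ≫ j = X.fromSpecResidueField y := fun y hy =>
    ⟨IsOpenImmersion.lift j (X.fromSpecResidueField y) (by
      rintro _ ⟨t, rfl⟩
      rw [Scheme.fromSpecResidueField_apply]
      exact hy), IsOpenImmersion.lift_fac _ _ _⟩
  have hxj : x ∈ j.opensRange := ⟨⟨⟨x, hxV⟩, hxW⟩, rfl⟩
  obtain ⟨g₀, hg₀⟩ := lift x hxj
  have : Nonempty (Spec (X.residueField x)) := inferInstanceAs (Nonempty (PrimeSpectrum (X.residueField x)))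
  have h₀ := isField_Γtop _ (Field.toIsField (X.residueField x))
  obtain ⟨UA, hA₀, hA⟩ := exists_le_rank A g₀ h₀
  obtain ⟨UB, hB₀, hB⟩ := exists_le_rank B g₀ h₀
  refine ⟨j ''ᵁ (UA ⊓ UB), ?_, (j ''ᵁ (UA ⊓ UB)).2, ?_⟩
  · rintro y ⟨w, ⟨hwA, hwB⟩, rfl⟩
    obtain ⟨g, hg⟩ := lift (j w) ⟨w, rfl⟩
    have : Nonempty (Spec (X.residueField (j w))) := inferInstanceAs (Nonempty (PrimeSpectrum (X.residueField (j w))))
    have hr : Set.range g ⊆ {w} := by
      rintro _ ⟨t, rfl⟩
      refine j.isOpenEmbedding.injective ?_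
      rw [← Scheme.Hom.comp_apply, hg, Scheme.fromSpecResidueField_apply]
    have h₁ := isField_Γtop _ (Field.toIsField (X.residueField (j w)))
    have := hA _ g h₁ (hr.trans (by simpa using hwA))
    have := hB _ g h₁ (hr.trans (by simpa using hwB))
    have := key _ g hg
    have := key _ g₀ hg₀
    show PerfD.betti E (j w) p < m
    have : PerfD.betti E x p < m := hx
    omega
  · obtain ⟨t⟩ := ‹Nonempty (Spec (X.residueField x))›
    refine ⟨g₀ t, ⟨hA₀ ⟨t, rfl⟩, hB₀ ⟨t, rfl⟩⟩, ?_⟩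
    refine (Scheme.Hom.comp_apply g₀ j t).symm.trans ?_
    rw [hg₀]
    exact Scheme.fromSpecResidueField_apply _ _

end Groth.Agent.PerfFib24
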