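import Groth.Agent.CAlg6.Bordered
import Mathlib.LinearAlgebra.Matrix.NonsingularInverse
import Mathlib.LinearAlgebra.Dimension.Finrank

/-!
# Matrix complexes exact at a field point are split exact nearby
-/

set_option autoImplicit false

noncomputable section

universe u

open Matrix

namespace Groth.Agent.PerfFib24

variable {R S : Type u} [CommRing R] [CommRing S] {a b c r : ℕ}

/-- Selection matrix of a family of indices. -/
def sel (R : Type u) [CommRing R] (f : Fin r → Fin a) : Matrix (Fin a) (Fin r) R := (1 : Matrix (Fin a) (Fin a) R).submatrix id f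

theorem mul_sel (A : Matrix (Fin b) (Fin a) R) (f : Fin r → Fin a) : A * sel R f = A.submatrix id f := by
  ext i j
  simp [sel, Matrix.mul_apply, Matrix.one_apply]

theorem selT_mul (A : Matrix (Fin a) (Fin b) R) (f : Fin r → Fin a) : (sel R f)ᵀ * A = A.submatrix f id := by
  ext i j
  simp [sel, Matrix.mul_apply, Matrix.one_apply]

theorem sel_map (σ : R →+* S) (f : Fin r → Fin a) : (sel R f).map σ = sel S f := by
  rw [sel, ← Matrix.submatrix_map, Matrix.map_one σ σ.map_zero σ.map_one]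
  rfl

/-- The partial inverse attached to a minor. -/
def pinv (A : Matrix (Fin b) (Fin a) R) (f : Fin r → Fin b) (g : Fin r → Fin a) : Matrix (Fin a) (Fin b) R :=
  (sel R g) * (A.submatrix f g)⁻¹ * (sel R f)ᵀ

theorem pinv_mul_mul (A : Matrix (Fin b) (Fin a) R) (f : Fin r → Fin b) (g : Fin r → Fin a)
    (h : IsUnit (A.submatrix f g).det) : pinv A f g * A * pinv A f g = pinv A f g := by
  have e : (sel R f)ᵀ * A * (sel R g) = A.submatrix f g := by
    rw [selT_mul, mul_sel, Matrix.submatrix_submatrix]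
    rfl
  calc pinv A f g * A * pinv A f g
      = (sel R g) * ((A.submatrix f g)⁻¹ * ((sel R f)ᵀ * A *
          (sel R g))) * (A.submatrix f g)⁻¹ * (sel R f)ᵀ := by
        simp only [pinv, Matrix.mul_assoc]
    _ = pinv A f g := by rw [e, Matrix.nonsing_inv_mul _ h, Matrix.mul_one, pinv]

theorem mul_pinv_mul (A : Matrix (Fin b) (Fin a) R) (f : Fin r → Fin b) (g : Fin r → Fin a)
    (h : IsUnit (A.submatrix f g).det) (Y : Matrix (Fin r) (Fin a) R) (hY : A = A.submatrix id g * Y) :
    A * pinv A f g * A = A := by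
  have e : (sel R f)ᵀ * A.submatrix id g = A.submatrix f g := by
    rw [selT_mul, Matrix.submatrix_submatrix]
    rfl
  calc A * pinv A f g * A = A * (sel R g) * (A.submatrix f g)⁻¹ *
        ((sel R f)ᵀ * (A.submatrix id g * Y)) := by
        rw [← hY]; simp only [pinv, Matrix.mul_assoc]
    _ = A.submatrix id g * ((A.submatrix f g)⁻¹ * ((sel R f)ᵀ * A.submatrix id g)) * Y := by
        rw [mul_sel]; simp only [Matrix.mul_assoc]
    _ = A := by rw [e, Matrix.nonsing_inv_mul _ h, Matrix.mul_one, ← hY]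

theorem pinv_map (σ : R →+* S) (A : Matrix (Fin b) (Fin a) R) (f : Fin r → Fin b) (g : Fin r → Fin a)
    (h : IsUnit (A.submatrix f g).det) : (pinv A f g).map σ = pinv (A.map σ) f g := by
  have hi : ((A.submatrix f g)⁻¹).map σ = ((A.map σ).submatrix f g)⁻¹ := by
    refine (Matrix.inv_eq_left_inv ?_).symm
    rw [Matrix.submatrix_map, ← Matrix.map_mul, Matrix.nonsing_inv_mul _ h,
      Matrix.map_one σ σ.map_zero σ.map_one]
  show (_ * _ * _ : Matrix (Fin a) (Fin b) R).map σ = _
  rw [Matrix.map_mul, Matrix.map_mul, Matrix.transpose_map, sel_map, sel_map, hi]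
  rfl

/-- The comparison endomorphism of the middle term. -/
def midT {r' : ℕ} (D : Matrix (Fin b) (Fin a) R) (E : Matrix (Fin c) (Fin b) R)
    (f : Fin r → Fin b) (g : Fin r → Fin a) (f' : Fin r' → Fin c) (g' : Fin r' → Fin b) :
    Matrix (Fin b) (Fin b) R :=
  D * pinv D f g + (1 - D * pinv D f g) * (pinv E f' g' * E)

theorem midT_map {r' : ℕ} (σ : R →+* S) (D : Matrix (Fin b) (Fin a) R) (E : Matrix (Fin c) (Fin b) R)
    (f : Fin r → Fin b) (g : Fin r → Fin a) (f' : Fin r' → Fin c) (g' : Fin r' → Fin b)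
    (h : IsUnit (D.submatrix f g).det) (h' : IsUnit (E.submatrix f' g').det) :
    (midT D E f g f' g').map σ = midT (D.map σ) (E.map σ) f g f' g' := by
  simp only [midT]
  rw [Matrix.map_add σ σ.map_add, Matrix.map_mul, Matrix.map_mul, Matrix.map_mul, Matrix.map_sub σ σ.map_sub,
    Matrix.map_one σ σ.map_zero σ.map_one, Matrix.map_mul, pinv_map σ D f g h, pinv_map σ E f' g' h']

/-- An invertible comparison endomorphism gives a contracting homotopy at the middle term. -/
theorem exists_split_of_midT {r' : ℕ} (D : Matrix (Fin b) (Fin a) R) (E : Matrix (Fin c) (Fin b) R)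
    (hED : E * D = 0) (f : Fin r → Fin b) (g : Fin r → Fin a) (f' : Fin r' → Fin c) (g' : Fin r' → Fin b)
    (h : IsUnit (D.submatrix f g).det) (hT : IsUnit (midT D E f g f' g').det) :
    ∃ (H : Matrix (Fin a) (Fin b) R) (G : Matrix (Fin b) (Fin c) R), D * H + G * E = 1 := by
  let H := pinv D f g
  let P := D * H
  let T := midT D E f g f' g'
  have hTP : T = P + (1 - P) * (pinv E f' g' * E) := rfl
  have hPP : P * P = P := by
    show D * H * (D * H) = D * H
    rw [Matrix.mul_assoc, ← Matrix.mul_assoc H, pinv_mul_mul D f g h]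
  have hEP : E * P = 0 := by
    show E * (D * H) = 0
    rw [← Matrix.mul_assoc, hED, Matrix.zero_mul]
  have h1 : T * P = P := by
    rw [hTP, Matrix.add_mul, hPP, Matrix.mul_assoc, Matrix.mul_assoc (pinv E f' g'), hEP, Matrix.mul_zero,
      Matrix.mul_zero, add_zero]
  refine ⟨H, T⁻¹ * (1 - P) * pinv E f' g', ?_⟩
  have h2 : T⁻¹ * P = P := by
    conv_lhs => rw [← h1]
    rw [← Matrix.mul_assoc, Matrix.nonsing_inv_mul _ hT, Matrix.one_mul]
  calc D * H + T⁻¹ * (1 - P) * pinv E f' g' * E = T⁻¹ * P + T⁻¹ * ((1 - P) * (pinv E f' g' * E)) := by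
        rw [h2]; simp only [Matrix.mul_assoc, P]
    _ = T⁻¹ * T := by rw [← Matrix.mul_add, ← hTP]
    _ = 1 := Matrix.nonsing_inv_mul _ hT

/-- Over a field the comparison endomorphism is injective when the complex is exact. -/
theorem isUnit_midT {K : Type u} [Field K] {r' : ℕ} (D : Matrix (Fin b) (Fin a) K) (E : Matrix (Fin c) (Fin b) K)
    (hED : E * D = 0) (f : Fin r → Fin b) (g : Fin r → Fin a) (f' : Fin r' → Fin c) (g' : Fin r' → Fin b)
    (h : IsUnit (D.submatrix f g).det) (h' : IsUnit (E.submatrix f' g').det)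
    (Y : Matrix (Fin r) (Fin a) K) (hY : D = D.submatrix id g * Y)
    (Y' : Matrix (Fin r') (Fin b) K) (hY' : E = E.submatrix id g' * Y')
    (hrk : D.rank + E.rank = b) : IsUnit (midT D E f g f' g').det := by
  rw [← Matrix.isUnit_iff_isUnit_det, ← Matrix.mulVec_injective_iff_isUnit]
  refine (injective_iff_map_eq_zero (midT D E f g f' g').mulVecLin).2 fun z hz => ?_
  replace hz : midT D E f g f' g' *ᵥ z = 0 := hz
  have hle : LinearMap.range D.mulVecLin ≤ LinearMap.ker E.mulVecLin := by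
    rintro _ ⟨w, rfl⟩
    show E *ᵥ (D *ᵥ w) = 0
    rw [Matrix.mulVec_mulVec, hED, Matrix.zero_mulVec]
  have hker : LinearMap.range D.mulVecLin = LinearMap.ker E.mulVecLin := by
    refine Submodule.eq_of_le_of_finrank_le hle ?_
    have := LinearMap.finrank_range_add_finrank_ker E.mulVecLin
    rw [Module.finrank_fin_fun] at this
    change E.rank + _ = b at this
    change _ ≤ D.rank
    omega
  let H := pinv D f g
  let P := D * H
  have hPP : P * P = P := by
    show D * H * (D * H) = D * H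
    rw [Matrix.mul_assoc, ← Matrix.mul_assoc H, pinv_mul_mul D f g h]
  have hEP : E * P = 0 := by
    show E * (D * H) = 0
    rw [← Matrix.mul_assoc, hED, Matrix.zero_mul]
  have h1 : P * midT D E f g f' g' = P := by
    show P * (P + (1 - P) * (pinv E f' g' * E)) = P
    rw [Matrix.mul_add, hPP, ← Matrix.mul_assoc P, Matrix.mul_sub, Matrix.mul_one, hPP, sub_self,
      Matrix.zero_mul, add_zero]
  have h2 : E * midT D E f g f' g' = E := by
    show E * (P + (1 - P) * (pinv E f' g' * E)) = E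
    rw [Matrix.mul_add, hEP, zero_add, ← Matrix.mul_assoc, Matrix.mul_sub, Matrix.mul_one, hEP, sub_zero,
      ← Matrix.mul_assoc, mul_pinv_mul E f' g' h' Y' hY']
  have hPz : P *ᵥ z = 0 := by rw [← h1, ← Matrix.mulVec_mulVec, hz, Matrix.mulVec_zero]
  have hEz : E *ᵥ z = 0 := by rw [← h2, ← Matrix.mulVec_mulVec, hz, Matrix.mulVec_zero]
  obtain ⟨w, rfl⟩ : z ∈ LinearMap.range D.mulVecLin := hker ▸ (show z ∈ LinearMap.ker E.mulVecLin from hEz)
  show D *ᵥ w = 0
  have hPz' : P *ᵥ (D *ᵥ w) = 0 := hPz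
  rw [Matrix.mulVec_mulVec, show P * D = D from mul_pinv_mul D f g h Y hY] at hPz'
  exact hPz'

/-- A complex of matrices exact at a field point is split exact after inverting an element which is
nonzero there. -/
theorem exists_split_nhd {K : Type u} [Field K] (σ : R →+* K) (D : Matrix (Fin b) (Fin a) R)
    (E : Matrix (Fin c) (Fin b) R) (hED : E * D = 0) (hrk : (D.map σ).rank + (E.map σ).rank = b) :
    ∃ s : R, σ s ≠ 0 ∧ ∀ (S : Type u) [CommRing S] (τ : R →+* S), IsUnit (τ s) →
      ∃ (H : Matrix (Fin a) (Fin b) S) (G : Matrix (Fin b) (Fin c) S), D.map τ * H + G * E.map τ = 1 := by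
  obtain ⟨f, g, Y, hd, hY⟩ := CAlg6.exists_cols (D.map σ) rfl
  obtain ⟨f', g', Y', hd', hY'⟩ := CAlg6.exists_cols (E.map σ) rfl
  let d₁ := (D.submatrix f g).det
  let d₂ := (E.submatrix f' g').det
  let R' := Localization.Away (d₁ * d₂)
  let ι : R →+* R' := algebraMap R R'
  have hu : IsUnit (ι (d₁ * d₂)) := IsLocalization.Away.algebraMap_isUnit _
  rw [map_mul] at hu
  have hu₁ : IsUnit ((D.map ι).submatrix f g).det := by
    rw [Matrix.submatrix_map, ← RingHom.mapMatrix_apply, ← RingHom.map_det]; exact (IsUnit.mul_iff.1 hu).1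
  have hu₂ : IsUnit ((E.map ι).submatrix f' g').det := by
    rw [Matrix.submatrix_map, ← RingHom.mapMatrix_apply, ← RingHom.map_det]; exact (IsUnit.mul_iff.1 hu).2
  obtain ⟨⟨num, den⟩, hnum⟩ := IsLocalization.surj (Submonoid.powers (d₁ * d₂)) (midT (D.map ι) (E.map ι) f g f' g').det
  have hσ₁ : σ d₁ ≠ 0 := by rw [RingHom.map_det]; exact hd
  have hσ₂ : σ d₂ ≠ 0 := by rw [RingHom.map_det]; exact hd'
  have key : ∀ {S : Type u} [CommRing S] (τ : R →+* S), IsUnit (τ (d₁ * d₂)) →
      (IsUnit (τ num) ↔ IsUnit (midT (D.map τ) (E.map τ) f g f' g').det) := by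
    intro S _ τ hτ
    let τ' : R' →+* S := IsLocalization.Away.lift (d₁ * d₂) hτ
    have hc : ∀ x, τ' (ι x) = τ x := fun x => IsLocalization.Away.lift_eq _ _ x
    have e : ∀ {p q : ℕ} (M : Matrix (Fin p) (Fin q) R), (M.map ι).map τ' = M.map τ := fun M =>
      Matrix.ext fun _ _ => hc _
    have h := congrArg τ' hnum
    rw [map_mul, RingHom.map_det, RingHom.mapMatrix_apply, midT_map τ' _ _ f g f' g' hu₁ hu₂, e, e, hc, hc] at h
    rw [← h, IsUnit.mul_iff]
    obtain ⟨k, hk⟩ := den.2
    exact ⟨fun hh => hh.1, fun hh => ⟨hh, hk ▸ by rw [map_pow]; exact hτ.pow k⟩⟩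
  refine ⟨d₁ * d₂ * num, ?_, fun S _ τ hs => ?_⟩
  · have hu' : IsUnit (σ (d₁ * d₂)) := by rw [map_mul]; exact (mul_ne_zero hσ₁ hσ₂).isUnit
    have := (key σ hu').2 (isUnit_midT (D.map σ) (E.map σ) (by rw [← Matrix.map_mul, hED, Matrix.map_zero σ σ.map_zero])
      f g f' g' hd.isUnit hd'.isUnit Y hY Y' hY' hrk)
    rw [map_mul, map_mul]
    exact mul_ne_zero (mul_ne_zero hσ₁ hσ₂) this.ne_zero
  · rw [map_mul, IsUnit.mul_iff] at hs
    refine exists_split_of_midT (D.map τ) (E.map τ) (by rw [← Matrix.map_mul, hED, Matrix.map_zero τ τ.map_zero])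
      f g f' g' ?_ ((key τ hs.1).1 hs.2)
    rw [Matrix.submatrix_map, ← RingHom.mapMatrix_apply, ← RingHom.map_det]
    exact (IsUnit.mul_iff.1 (map_mul τ d₁ d₂ ▸ hs.1)).1

end Groth.Agent.PerfFib24
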