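import Groth.Agent.PerfFib24.FreeMat
import Groth.Agent.PerfFib24.SplitMat
import Groth.Agent.PerfFib24.Semicont
import Groth.Agent.PerfFib24.Tensor
import Groth.Agent.Betti41.Exact
import Mathlib.Algebra.Homology.SingleHomology
import Mathlib.Algebra.Homology.DerivedCategory.FullyFaithful

/-!
# The locus where a perfect object is a locally free sheaf in a single degree
-/

set_option autoImplicit false
set_option backward.isDefEq.respectTransparency.types false
set_option backward.isDefEq.respectTransparency false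
set_option linter.style.haveILetI false

noncomputable section

universe u

open CategoryTheory Limits Pretriangulated AlgebraicGeometry TopologicalSpace Opposite DerivedCategory
open Groth.Agent.DCX42

attribute [local instance] HasDerivedCategory.standard

namespace Groth.Agent.PerfFib24

variable {X Y W : Scheme.{u}}

section Single

/-- A sheaf placed in degree `i`. -/
abbrev sgl (V : X.Modules) (i : ℤ) : CochainComplex X.Modules ℤ :=
  (HomologicalComplex.single X.Modules (ComplexShape.up ℤ) i).obj V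

/-- `V[-i]` is `Q` of the single complex. -/
def shiftSingle (V : X.Modules) (i : ℤ) : (DCoh.inD X V)⟦-i⟧ ≅ Q.obj (sgl V i) :=
  ((singleFunctors X.Modules).shiftIso (-i) i 0 (by omega)).app V ≪≫ (singleFunctorIsoCompQ X.Modules i).app V

/-- Cohomology of a single complex. -/
def hdQSingle (V : X.Modules) (i : ℤ) : DCoh.HD (Q.obj (sgl V i)) i ≅ V :=
  (homologyFunctorFactors X.Modules i).app _ ≪≫ HomologicalComplex.singleObjHomologySelfIso _ i V

theorem isZero_HD_qSingle (V : X.Modules) (i q : ℤ) (h : q ≠ i) : IsZero (DCoh.HD (Q.obj (sgl V i)) q) :=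
  (HomologicalComplex.isZero_single_obj_homology _ i V q h).of_iso ((homologyFunctorFactors X.Modules q).app _)

theorem isZero_free_zero : IsZero (FlatMod.freeMod X 0) :=
  (IsZero.iff_id_eq_zero _).2 (Sigma.hom_ext _ _ fun i => i.elim0)

theorem isFinLocFree_of_isZero {M : X.Modules} (h : IsZero M) : FlatMod.IsFinLocFree M := fun _ =>
  ⟨⊤, 0, trivial, ⟨((Scheme.Modules.restrictFunctor _).map_isZero h).iso isZero_free_zero⟩⟩

theorem isStrictlyPerfect_sgl {V : X.Modules} (hV : FlatMod.IsFinLocFree V) (i : ℤ) :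
    DCoh.IsStrictlyPerfect (sgl V i) := by
  have hz : ∀ q, q ≠ i → IsZero ((sgl V i).X q) := fun q hq => HomologicalComplex.isZero_single_obj_X _ i V q hq
  refine ⟨⟨i, i, fun q hq => hz q (by omega)⟩, fun q => ?_⟩
  by_cases hq : q = i
  · subst hq
    exact DCX42.isFinLocFree_of_iso (HomologicalComplex.singleObjXSelf (ComplexShape.up ℤ) q V).symm hV
  · exact isFinLocFree_of_isZero (hz q hq)

/-- The derived pullback of `V[-i]` is `(f^*V)[-i]`. -/
theorem nonempty_lpull_shiftSingle (f : Y ⟶ X) [DCoh.HasLpull f] {V : X.Modules} (hV : FlatMod.IsFinLocFree V)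
    (i : ℤ) : Nonempty ((DCoh.Lpull f).obj ((DCoh.inD X V)⟦-i⟧) ≅
      Q.obj (sgl ((Scheme.Modules.pullback f).obj V) i)) :=
  ⟨(DCoh.Lpull f).mapIso (shiftSingle V i) ≪≫ lpullSP f (isStrictlyPerfect_sgl hV i) ≪≫
    Q.mapIso ((HomologicalComplex.singleMapHomologicalComplex (Scheme.Modules.pullback f) (ComplexShape.up ℤ) i).app V)⟩

/-- The pullback to a one point scheme of a locally free module of rank `r` is free of rank `r`. -/
theorem nonempty_pullback_point {T : Scheme.{u}} [Subsingleton T] [Nonempty T] (p : T ⟶ X) {V : X.Modules}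
    {r : ℕ} (hV : FlatMod.IsFinLocFreeOfRank r V) :
    Nonempty ((Scheme.Modules.pullback p).obj V ≅ FlatMod.freeMod T r) := by
  obtain ⟨t⟩ := ‹Nonempty T›
  obtain ⟨U, hU, ⟨e⟩⟩ := hV (p t)
  let g := IsOpenImmersion.lift U.ι p (by
    rintro _ ⟨s, rfl⟩
    rw [Scheme.Opens.range_ι, Subsingleton.elim s t]
    exact hU)
  have hg : g ≫ U.ι = p := IsOpenImmersion.lift_fac _ _ _
  exact ⟨eqToIso (by rw [hg]) ≪≫ ((Scheme.Modules.pullbackComp g U.ι).app V).symm ≪≫
    (Scheme.Modules.pullback g).mapIso ((Scheme.Modules.restrictFunctorIsoPullback U.ι).symm.app V ≪≫ e) ≪≫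
    FrB.pullbackFreeIso g r⟩

theorem isFinLocFree_of_rank {V : X.Modules} {r : ℕ} (h : FlatMod.IsFinLocFreeOfRank r V) :
    FlatMod.IsFinLocFree V := fun x =>
  let ⟨U, hx, e⟩ := h x
  ⟨U, r, hx, e⟩

end Single

/-- Restriction commutes with cohomology sheaves. -/
def hdRes (j : Y ⟶ X) [IsOpenImmersion j] (K : DCoh.D X) (q : ℤ) :
    DCoh.HD ((resD j).obj K) q ≅ (Scheme.Modules.restrictFunctor j).obj (DCoh.HD K q) :=
  (homologyFunctor Y.Modules q).mapIso ((resD j).mapIso (rep K).symm ≪≫ resQ j _) ≪≫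
    (homologyFunctorFactors Y.Modules q).app _ ≪≫ PerfAmp41.homologyResIso j _ q ≪≫
      (Scheme.Modules.restrictFunctor j).mapIso (((homologyFunctorFactors X.Modules q).app _).symm ≪≫
        (homologyFunctor X.Modules q).mapIso (rep K))

/-- An object with cohomology only in degree `i`. -/
theorem nonempty_iso_of_concentrated (K : DCoh.D X) (i : ℤ) (h : ∀ q, q ≠ i → IsZero (DCoh.HD K q)) :
    Nonempty (K ≅ (DCoh.inD X (DCoh.HD K i))⟦-i⟧) := by
  have : K.IsGE i := (K.isGE_iff i).2 fun q hq => h q (by omega)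
  have : K.IsLE i := (K.isLE_iff i).2 fun q hq => h q (by omega)
  obtain ⟨V, ⟨e⟩⟩ := K.exists_iso_singleFunctor_obj_of_isGE_of_isLE i
  let e' : K ≅ Q.obj (sgl V i) := e ≪≫ (singleFunctorIsoCompQ X.Modules i).app V
  let φ : DCoh.HD K i ≅ V := (homologyFunctor X.Modules i).mapIso e' ≪≫ hdQSingle V i
  exact ⟨e' ≪≫ Q.mapIso ((HomologicalComplex.single X.Modules (ComplexShape.up ℤ) i).mapIso φ.symm) ≪≫
    (shiftSingle _ i).symm⟩

section Split

variable {U : Scheme.{u}} {n : ℤ → ℕ}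

/-- A contracting homotopy at the middle term. -/
theorem exact_of_split (K : CochainComplex U.Modules ℤ) (a j b : ℤ) (ha : a + 1 = j) (hb : j + 1 = b)
    (h₁ : K.X j ⟶ K.X a) (h₂ : K.X b ⟶ K.X j) (h : h₁ ≫ K.d a j + K.d j b ≫ h₂ = 𝟙 _)
    (hX : ∀ q, ∃ m, Nonempty (K.X q ≅ FlatMod.freeMod U m)) :
    IsZero (K.homology j) ∧ FlatMod.IsFinLocFree (cokernel (K.d a j)) ∧
      FlatMod.IsFinLocFree (cokernel (K.d j b)) := by
  have retract : ∀ {A B : ℤ} (s : K.X B ⟶ K.X A), K.d A B ≫ s ≫ K.d A B = K.d A B →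
      FlatMod.IsFinLocFree (cokernel (K.d A B)) := fun {A B} s hs => by
    obtain ⟨m, ⟨e⟩⟩ := hX B
    let l : cokernel (K.d A B) ⟶ K.X B := cokernel.desc _ (𝟙 _ - s ≫ K.d A B) (by
      rw [Preadditive.comp_sub, Category.comp_id, hs, sub_self])
    refine DCX42.isFinLocFree_of_retract (l ≫ e.hom) (e.inv ≫ cokernel.π _) ?_
    rw [Category.assoc, Iso.hom_inv_id_assoc, ← cancel_epi (cokernel.π (K.d A B)), cokernel.π_desc_assoc,
      Preadditive.sub_comp, Category.id_comp, Category.assoc, cokernel.condition, comp_zero, sub_zero,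
      Category.comp_id]
  refine ⟨?_, retract h₁ ?_, retract h₂ ?_⟩
  · rw [← HomologicalComplex.exactAt_iff_isZero_homology, K.exactAt_iff' a j b (by simp; omega) (by simp; omega)]
    let S := K.sc' a j b
    let sec : S.cycles ⟶ S.X₁ := S.iCycles ≫ h₁
    have : sec ≫ S.toCycles = 𝟙 _ := by
      rw [← cancel_mono S.iCycles, Category.assoc, S.toCycles_i, Category.id_comp]
      have e := congrArg (S.iCycles ≫ ·) h
      simp only [Preadditive.comp_add, Category.comp_id] at e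
      rw [← Category.assoc S.iCycles (K.d j b), show S.iCycles ≫ K.d j b = 0 from S.iCycles_g, zero_comp,
        add_zero] at e
      rw [Category.assoc]
      exact e
    exact S.exact_iff_epi_toCycles.2 (IsSplitEpi.mk' ⟨sec, this⟩).epi
  · have e := congrArg (K.d a j ≫ ·) h
    simp only [Preadditive.comp_add, Category.comp_id] at e
    rw [← Category.assoc (K.d a j) (K.d j b), K.d_comp_d, zero_comp, add_zero] at e
    exact e
  · have e := congrArg (· ≫ K.d j b) h
    simp only [Preadditive.add_comp, Category.id_comp, Category.assoc] at e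
    rw [K.d_comp_d, comp_zero, zero_add] at e
    exact e

/-- Near a field point where the complex is exact in degree `j`, it is split exact in degree `j`. -/
theorem exists_section_split (F : CochainComplex W.Modules ℤ) (e : ∀ q, F.X q ≅ FlatMod.freeMod W (n q))
    {T : Scheme.{u}} (g : T ⟶ W) (hT : IsField (Coh.Γtop T)) (a j b : ℤ) (ha : a + 1 = j) (hb : j + 1 = b)
    (hrk : (matAt g ((e a).inv ≫ F.d a j ≫ (e j).hom)).rank +
      (matAt g ((e j).inv ≫ F.d j b ≫ (e b).hom)).rank = n j) :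
    ∃ s : Γ(W, ⊤), g.appTop s ≠ 0 ∧ ∀ (U : Scheme.{u}) (ι : U ⟶ W), IsUnit (ι.appTop s) →
      let K := ((Scheme.Modules.pullback ι).mapHomologicalComplex (ComplexShape.up ℤ)).obj F
      IsZero (K.homology j) ∧ FlatMod.IsFinLocFree (cokernel (K.d a j)) ∧
        FlatMod.IsFinLocFree (cokernel (K.d j b)) := by
  letI : Field (Coh.Γtop T) := hT.toField
  let A := (e a).inv ≫ F.d a j ≫ (e j).hom
  let B := (e j).inv ≫ F.d j b ≫ (e b).hom
  have hAB : A ≫ B = 0 := by simp [A, B]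
  have hmat : matOf B * matOf A = 0 := by rw [← matOf_comp, hAB, matOf_zero]
  let σ : Γ(W, ⊤) →+* Coh.Γtop T := g.appTop.hom
  obtain ⟨s, hs, hsplit⟩ := exists_split_nhd σ (matOf A) (matOf B) hmat hrk
  refine ⟨s, hs, fun U ι hu => ?_⟩
  obtain ⟨H, G, hHG⟩ := hsplit Γ(U, ⊤) ι.appTop.hom hu
  let P := Scheme.Modules.pullback ι
  let e' : ∀ q, P.obj (F.X q) ≅ FlatMod.freeMod U (n q) := fun q => P.mapIso (e q) ≪≫ FrB.pullbackFreeIso ι (n q)
  intro K
  have hd : ∀ p q, (e' p).inv ≫ K.d p q ≫ (e' q).hom = conj ι ((e p).inv ≫ F.d p q ≫ (e q).hom) := fun p q => by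
    simp only [conj, e', K, P, Iso.trans_inv, Iso.trans_hom, Functor.mapIso_inv, Functor.mapIso_hom,
      Functor.mapHomologicalComplex_obj_d, Functor.map_comp, Category.assoc]
  have hid : homOf H ≫ conj ι A + conj ι B ≫ homOf G = 𝟙 _ := by
    apply matOf_injective
    rw [matOf_add, matOf_comp, matOf_comp, matOf_homOf, matOf_homOf, matOf_conj, matOf_conj, matOf_id]
    exact hHG
  rw [← hd, ← hd] at hid
  refine exact_of_split K a j b ha hb ((e' j).hom ≫ homOf H ≫ (e' a).inv)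
    ((e' b).hom ≫ homOf G ≫ (e' j).inv) ?_ fun q => ⟨n q, ⟨e' q⟩⟩
  rw [← cancel_epi (e' j).inv, ← cancel_mono (e' j).hom]
  simp only [Preadditive.comp_add, Preadditive.add_comp, Category.assoc, Iso.inv_hom_id_assoc,
    Iso.inv_hom_id, Category.comp_id, Category.id_comp]
  simp only [Category.assoc] at hid
  refine hid.trans ?_
  erw [Category.id_comp, Iso.inv_hom_id]

end Split

theorem isUnit_appTop_of_range_subset {U : Scheme.{u}} (ι : U ⟶ W) (s : Γ(W, ⊤))
    (h : Set.range ι ⊆ W.basicOpen s) : IsUnit (ι.appTop s) := by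
  refine RingedSpace.isUnit_of_isUnit_germ U.toRingedSpace ⊤ (ι.appTop s) fun u _ => ?_
  have hu : u ∈ ι ⁻¹ᵁ W.basicOpen s := h ⟨u, rfl⟩
  rw [Scheme.preimage_basicOpen_top] at hu
  exact (U.mem_basicOpen (ι.appTop s) u (Set.mem_univ u)).1 hu

theorem mem_basicOpen_of_appTop_ne_zero {T : Scheme.{u}} (g : T ⟶ W) (hT : IsField (Coh.Γtop T)) (s : Γ(W, ⊤))
    (hs : g.appTop s ≠ 0) (t : T) : g t ∈ W.basicOpen s := by
  letI : Field (Coh.Γtop T) := hT.toField
  show t ∈ g ⁻¹ᵁ W.basicOpen s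
  rw [Scheme.preimage_basicOpen_top, Scheme.basicOpen_of_isUnit _
    (show IsUnit (show Γ(T, ⊤) from g.appTop s) from (isUnit_iff_ne_zero (a := (show Coh.Γtop T from g.appTop s))).2 hs)]
  trivial

section Points

variable [Subsingleton W] [Nonempty W]

/-- Fibre dimensions of a single locally free sheaf. -/
theorem finrank_HD_single {K : DCoh.D W} {r : ℕ} {i : ℤ} (hW : IsField (Coh.Γtop W))
    (e : K ≅ Q.obj (sgl (FlatMod.freeMod W r) i)) (q : ℤ) :
    Module.finrank (Coh.Γtop W) ((DCoh.HD K q).val.obj (op ⊤)) = if q = i then r else 0 := by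
  let G := DerivedCategory.homologyFunctor W.Modules q
  refine ((secTop W).mapIso (G.mapIso e)).toLinearEquiv.finrank_eq.trans ?_
  split_ifs with h
  · subst h
    exact ((secTop W).mapIso (hdQSingle _ q)).toLinearEquiv.finrank_eq.trans (finrank_freeMod_top W hW r).1
  · letI : DivisionRing (Coh.Γtop W) := hW.toField.toDivisionRing
    have : Subsingleton ((secTop W).obj ((G.obj (Q.obj (sgl (FlatMod.freeMod W r) i))))) :=
      ModuleCat.subsingleton_of_isZero ((secTop W).map_isZero (isZero_HD_qSingle _ i q h))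
    exact Module.finrank_zero_of_subsingleton

end Points

/-- `E` is free of rank `r` in degree `i` near `x`. -/
def FreeNear (E : DCoh.D X) (i : ℤ) (r : ℕ) (x : X) : Prop :=
  ∃ V : X.Opens, x ∈ V ∧ Nonempty ((resD V.ι).obj E ≅ (DCoh.inD (V : Scheme.{u}) (FlatMod.freeMod (V : Scheme.{u}) r))⟦-i⟧)

theorem isOpen_freeNear (E : DCoh.D X) (i : ℤ) (r : ℕ) : IsOpen {x : X | FreeNear E i r x} :=
  isOpen_iff_forall_mem_open.2 fun _ ⟨V, hx, e⟩ => ⟨V, fun _ hy => ⟨V, hy, e⟩, V.2, hx⟩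

theorem lpull_congr {a b : Y ⟶ X} (h : a = b) [DCoh.HasLpull a] [DCoh.HasLpull b] :
    Nonempty (DCoh.Lpull a ≅ DCoh.Lpull b) := by
  subst h
  exact ⟨Iso.refl _⟩

theorem isFinLocFree_free (X : Scheme.{u}) (r : ℕ) : FlatMod.IsFinLocFree (FlatMod.freeMod X r) :=
  Props58.LocFree.isFinLocFree_iff.2 fun x => by
    obtain ⟨s, hs⟩ := Props58.LocFree.exists_stalkBasis_of_iso (M := FlatMod.freeMod X r) (U := ⊤)
      (LF71.restrictFree (⊤ : X.Opens).ι r)
    exact ⟨⊤, r, s, trivial, hs⟩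

/-- Being free in degree `i` near every image point gives a locally free sheaf in degree `i`. -/
theorem exists_locFree_of_freeNear (f : Y ⟶ X) [DCoh.HasLpull f] (E : DCoh.D X) (i : ℤ) (r : ℕ)
    (h : ∀ y : Y, FreeNear E i r (f y)) :
    ∃ V : Y.Modules, FlatMod.IsFinLocFreeOfRank r V ∧
      Nonempty ((DCoh.Lpull f).obj E ≅ (DCoh.inD Y V)⟦-i⟧) := by
  let K := (DCoh.Lpull f).obj E
  have key : ∀ y : Y, ∃ T : Y.Opens, y ∈ T ∧
      Nonempty ((resD T.ι).obj K ≅ Q.obj (sgl (FlatMod.freeMod (T : Scheme.{u}) r) i)) := fun y => by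
    obtain ⟨V, hy, ⟨e⟩⟩ := h y
    have := DCK91.hasLpull (f ∣_ V)
    obtain ⟨a⟩ := nonempty_Lpull_resD f V.ι (f ⁻¹ᵁ V).ι (f ∣_ V) (morphismRestrict_ι f V)
    obtain ⟨b⟩ := nonempty_lpull_shiftSingle (f ∣_ V) (isFinLocFree_free (V : Scheme.{u}) r) i
    exact ⟨f ⁻¹ᵁ V, hy, ⟨a.app E ≪≫ (DCoh.Lpull (f ∣_ V)).mapIso e ≪≫ b ≪≫
      Q.mapIso ((HomologicalComplex.single _ _ i).mapIso (FrB.pullbackFreeIso (f ∣_ V) r))⟩⟩
  refine ⟨DCoh.HD K i, fun y => ?_, nonempty_iso_of_concentrated K i fun q hq => ?_⟩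
  · obtain ⟨T, hy, ⟨e⟩⟩ := key y
    exact ⟨T, hy, ⟨(hdRes T.ι K i).symm ≪≫ (homologyFunctor _ i).mapIso e ≪≫ hdQSingle _ i⟩⟩
  · refine PerfAmp41.isZero_of_locally fun y => ?_
    obtain ⟨T, hy, ⟨e⟩⟩ := key y
    exact ⟨T, hy, (isZero_HD_qSingle _ i q hq).of_iso ((hdRes T.ι K q).symm ≪≫ (homologyFunctor _ q).mapIso e)⟩

/-- If the derived pullback to a point is free of rank `r` in degree `i`, so is `E` near the image. -/
theorem freeNear_of_point (E : DCoh.D X) (hE : DCoh.IsPerfect E) (i : ℤ) (r : ℕ) {T : Scheme.{u}}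
    [Subsingleton T] [Nonempty T] (hT : IsField (Coh.Γtop T)) (p : T ⟶ X) [DCoh.HasLpull p]
    (hp : Nonempty ((DCoh.Lpull p).obj E ≅ Q.obj (sgl (FlatMod.freeMod T r) i))) (t : T) :
    FreeNear E i r (p t) := by
  classical
  obtain ⟨ep⟩ := hp
  letI : Field (Coh.Γtop T) := hT.toField
  obtain ⟨V, hxV, E₀, hE₀, ⟨i₀⟩⟩ := (isPerfect_iff E).1 hE (p t)
  obtain ⟨W, hxW, hfree⟩ := exists_termFree hE₀ ⟨p t, hxV⟩
  obtain ⟨a₀, b₀, hab⟩ := hE₀.1
  choose n e using hfree
  let j := W.ι ≫ V.ι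
  let F := (resCx W.ι).obj E₀
  have hF : DCoh.IsStrictlyPerfect F := isStrictlyPerfect_restrict hE₀ W.ι
  let e' : ∀ q, F.X q ≅ FlatMod.freeMod (W : Scheme.{u}) (n q) := fun q => (e q).some
  let g := IsOpenImmersion.lift j p (by
    rintro _ ⟨s, rfl⟩
    rw [Subsingleton.elim s t]
    exact ⟨⟨⟨p t, hxV⟩, hxW⟩, rfl⟩)
  have hg : g ≫ j = p := IsOpenImmersion.lift_fac _ _ _
  let eF : (resD j).obj E ≅ Q.obj F :=
    (resDComp W.ι V.ι).symm.app E ≪≫ (resD W.ι).mapIso i₀ ≪≫ resQ W.ι E₀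
  have := DCK91.hasLpull g
  have := DCK91.hasLpull j
  have : DCoh.HasLpull (g ≫ j) := DCK91.hasLpull _
  obtain ⟨c⟩ := DCK91.Lpull_comp g j
  obtain ⟨c'⟩ := lpull_congr hg.symm
  obtain ⟨rj⟩ := nonempty_Lpull_iso_resD j
  let k : (DCoh.Lpull p).obj E ≅ Q.obj (((Scheme.Modules.pullback g).mapHomologicalComplex (ComplexShape.up ℤ)).obj F) :=
    c'.app E ≪≫ c.symm.app E ≪≫ (DCoh.Lpull g).mapIso (rj.app E ≪≫ eF) ≪≫ lpullSP g hF
  have hrk : ∀ q, (if q = i then r else 0) + (matAt g ((e' (q - 1)).inv ≫ F.d (q - 1) q ≫ (e' q).hom)).rank +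
      (matAt g ((e' q).inv ≫ F.d q (q + 1) ≫ (e' (q + 1)).hom)).rank = n q := fun q => by
    rw [← finrank_HD_single hT ep q]
    refine Eq.trans ?_ (finrank_homology_pullback g hT F n e' q)
    exact congrArg (fun z => z + (matAt g ((e' (q - 1)).inv ≫ F.d (q - 1) q ≫ (e' q).hom)).rank +
      (matAt g ((e' q).inv ≫ F.d q (q + 1) ≫ (e' (q + 1)).hom)).rank) ((secTop T).mapIso
      ((homologyFunctor T.Modules q).mapIso k ≪≫ (homologyFunctorFactors T.Modules q).app _)).toLinearEquiv.finrank_eq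
  let S : Finset ℤ := (Finset.Icc (min a₀ (i - 1)) (max b₀ (i + 1))).erase i
  have hsplit : ∀ q : S, ∃ s : Γ((W : Scheme.{u}), ⊤), g.appTop s ≠ 0 ∧ ∀ (U : Scheme.{u}) (ι : U ⟶ W),
      IsUnit (ι.appTop s) →
      let K := ((Scheme.Modules.pullback ι).mapHomologicalComplex (ComplexShape.up ℤ)).obj F
      IsZero (K.homology q.1) ∧ FlatMod.IsFinLocFree (cokernel (K.d (q.1 - 1) q.1)) ∧
        FlatMod.IsFinLocFree (cokernel (K.d q.1 (q.1 + 1))) := fun q => by
    refine exists_section_split F e' g hT (q.1 - 1) q.1 (q.1 + 1) (by omega) rfl ?_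
    have := hrk q.1
    rwa [if_neg (Finset.ne_of_mem_erase q.2), zero_add] at this
  choose s hs hsU using hsplit
  let prod : Γ((W : Scheme.{u}), ⊤) := ∏ q, s q
  have hprod : g.appTop prod ≠ 0 := by
    have hm : g.appTop prod = ∏ q, g.appTop (s q) := map_prod g.appTop.hom s Finset.univ
    rw [hm]
    exact (Finset.prod_ne_zero_iff (M₀ := Coh.Γtop T)).2 fun q _ => hs q
  let U : (W : Scheme.{u}).Opens := (W : Scheme.{u}).basicOpen prod
  have htU : g t ∈ U := mem_basicOpen_of_appTop_ne_zero g hT prod hprod t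
  have hu : ∀ q, IsUnit (U.ι.appTop (s q)) := fun q => by
    have := isUnit_appTop_of_range_subset U.ι prod (by rw [Scheme.Opens.range_ι])
    rw [map_prod] at this
    exact isUnit_of_dvd_unit (Finset.dvd_prod_of_mem (fun q => U.ι.appTop (s q)) (Finset.mem_univ q)) this
  let K := ((Scheme.Modules.pullback U.ι).mapHomologicalComplex (ComplexShape.up ℤ)).obj F
  have hK : ∀ q, q ≠ i → IsZero (K.homology q) := fun q hq => by
    by_cases hmem : q ∈ S
    · exact (hsU ⟨q, hmem⟩ U.toScheme U.ι (hu _)).1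
    · have hz : IsZero (K.X q) := (Scheme.Modules.pullback U.ι).map_isZero
        ((Scheme.Modules.restrictFunctor W.ι).map_isZero (hab q (by
          simp only [S, Finset.mem_erase, Finset.mem_Icc, not_and] at hmem
          have := hmem hq
          omega)))
      exact (ShortComplex.exact_iff_isZero_homology _).1 (ShortComplex.exact_of_isZero_X₂ (K.sc q) hz)
  have hi : FlatMod.IsFinLocFree (K.homology i) := by
    refine Betti41.isFinLocFree_homology K i (DCX42.isFinLocFree_of_iso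
      ((Scheme.Modules.pullback U.ι).mapIso (e' (i + 1)) ≪≫ FrB.pullbackFreeIso U.ι _).symm (isFinLocFree_free _ _)) ?_ ?_
    · have := (hsU ⟨i - 1, by simp [S]; omega⟩ U.toScheme U.ι (hu _)).2.2
      rw [show ((i - 1 : ℤ) + 1) = i by omega] at this
      exact this
    · have := (hsU ⟨i + 1, by simp [S]; omega⟩ U.toScheme U.ι (hu _)).2.1
      rw [show ((i + 1 : ℤ) - 1) = i by omega] at this
      exact this
  obtain ⟨W', m, htW', ⟨em⟩⟩ := hi ⟨g t, htU⟩
  have eK : (resD U.ι).obj (Q.obj F) ≅ Q.obj K := resQ U.ι F ≪≫ Q.mapIso ((resCxIsoPull U.ι).app F)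
  let h := W'.ι ≫ U.ι ≫ j
  let eU : (resD h).obj E ≅ (resD W'.ι).obj (Q.obj K) :=
    (resDComp W'.ι (U.ι ≫ j)).symm.app E ≪≫
      (resD W'.ι).mapIso ((resDComp U.ι j).symm.app E ≪≫ (resD U.ι).mapIso eF ≪≫ eK)
  obtain ⟨eC⟩ := nonempty_iso_of_concentrated ((resD h).obj E) i fun q hq =>
    ((Scheme.Modules.restrictFunctor W'.ι).map_isZero ((hK q hq).of_iso
      ((homologyFunctorFactors (U : Scheme.{u}).Modules q).app K))).of_iso
      ((homologyFunctor _ q).mapIso eU ≪≫ hdRes W'.ι _ q)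
  let eH : DCoh.HD ((resD h).obj E) i ≅ FlatMod.freeMod (W' : Scheme.{u}) m :=
    (homologyFunctor _ i).mapIso eU ≪≫ hdRes W'.ι _ i ≪≫
      (Scheme.Modules.restrictFunctor W'.ι).mapIso ((homologyFunctorFactors (U : Scheme.{u}).Modules i).app K) ≪≫ em
  let eV : (resD h).obj E ≅ (DCoh.inD (W' : Scheme.{u}) (FlatMod.freeMod (W' : Scheme.{u}) m))⟦-i⟧ :=
    eC ≪≫ (shiftFunctor _ (-i)).mapIso ((singleFunctor _ 0).mapIso eH)
  have hth : p t ∈ h.opensRange := ⟨⟨⟨g t, htU⟩, htW'⟩, by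
    refine (Scheme.Hom.comp_apply W'.ι (U.ι ≫ j) ⟨⟨g t, htU⟩, htW'⟩).trans ?_
    refine (Scheme.Hom.comp_apply U.ι j ⟨g t, htU⟩).trans ?_
    refine (Scheme.Hom.comp_apply g j t).symm.trans ?_
    rw [hg]⟩
  obtain ⟨g', hg'⟩ : ∃ g' : T ⟶ W', g' ≫ h = p := ⟨IsOpenImmersion.lift h p (by
    rintro _ ⟨s, rfl⟩
    rw [Subsingleton.elim s t]
    exact hth), IsOpenImmersion.lift_fac _ _ _⟩
  have hm : m = r := by
    have := DCK91.hasLpull g'
    have := DCK91.hasLpull h
    have : DCoh.HasLpull (g' ≫ h) := DCK91.hasLpull _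
    obtain ⟨d⟩ := DCK91.Lpull_comp g' h
    obtain ⟨d'⟩ := lpull_congr hg'.symm
    obtain ⟨rh⟩ := nonempty_Lpull_iso_resD h
    obtain ⟨s'⟩ := nonempty_lpull_shiftSingle g' (isFinLocFree_free (W' : Scheme.{u}) m) i
    have h1 := finrank_HD_single hT (d'.app E ≪≫ d.symm.app E ≪≫ (DCoh.Lpull g').mapIso (rh.app E ≪≫ eV) ≪≫ s' ≪≫
      Q.mapIso ((HomologicalComplex.single _ _ i).mapIso (FrB.pullbackFreeIso g' m))) i
    have h2 := finrank_HD_single hT ep i
    rw [h2, if_pos rfl, if_pos rfl] at h1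
    exact h1.symm
  subst hm
  obtain ⟨ι', _, hι'⟩ := exists_opens_iso h
  refine ⟨h.opensRange, hth, ⟨?_⟩⟩
  exact (resDCongr hι').symm.app E ≪≫ (resDComp ι' h).symm.app E ≪≫ (resD ι').mapIso (eV ≪≫ shiftSingle _ i) ≪≫
    resQ ι' _ ≪≫ Q.mapIso ((HomologicalComplex.singleMapHomologicalComplex (Scheme.Modules.restrictFunctor ι')
      (ComplexShape.up ℤ) i).app _ ≪≫ (HomologicalComplex.single _ _ i).mapIso (LF71.restrictFree ι' m)) ≪≫
    (shiftSingle _ i).symm

/-- The locus where a perfect object is locally free of rank `r` in degree `i`. -/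
theorem exists_open_locus (E : DCoh.D X) (hE : DCoh.IsPerfect E) (i : ℤ) (r : ℕ) :
    ∃ U : X.Opens, ∀ (Y : Scheme.{u}) (f : Y ⟶ X) [DCoh.HasLpull f],
      Set.range f.base ⊆ (U : Set X) ↔
        ∃ V : Y.Modules, FlatMod.IsFinLocFreeOfRank r V ∧ Nonempty ((DCoh.Lpull f).obj E ≅ (DCoh.inD Y V)⟦-i⟧) := by
  refine ⟨⟨{x | FreeNear E i r x}, isOpen_freeNear E i r⟩, fun Y f _ => ⟨fun h => ?_, ?_⟩⟩
  · exact exists_locFree_of_freeNear f E i r fun y => h ⟨y, rfl⟩
  · rintro ⟨V, hV, ⟨eV⟩⟩ _ ⟨y, rfl⟩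
    let T := Spec (Y.residueField y)
    let ι : T ⟶ Y := Y.fromSpecResidueField y
    have : Subsingleton T := inferInstanceAs (Subsingleton (PrimeSpectrum (Y.residueField y)))
    obtain ⟨t⟩ : Nonempty T := inferInstanceAs (Nonempty (PrimeSpectrum (Y.residueField y)))
    have : Nonempty T := ⟨t⟩
    have := DCK91.hasLpull ι
    have := DCK91.hasLpull (ι ≫ f)
    obtain ⟨c⟩ := DCK91.Lpull_comp ι f
    obtain ⟨a⟩ := nonempty_lpull_shiftSingle ι (isFinLocFree_of_rank hV) i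
    obtain ⟨b⟩ := nonempty_pullback_point ι hV
    have hnear := freeNear_of_point E hE i r (isField_Γtop _ (Field.toIsField (Y.residueField y))) (ι ≫ f)
      ⟨c.symm.app E ≪≫ (DCoh.Lpull ι).mapIso eV ≪≫ a ≪≫ Q.mapIso ((HomologicalComplex.single _ _ i).mapIso b)⟩ t
    have he : (ι ≫ f) t = f y := by
      refine (Scheme.Hom.comp_apply ι f t).trans ?_
      exact congrArg f.base (Scheme.fromSpecResidueField_apply y t)
    exact he ▸ hnear

end Groth.Agent.PerfFib24
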