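import Groth.Agent.PerfFib24.RelPerfTri

/-!
# Relatively perfect objects: saturated triangulated
-/

set_option autoImplicit false
set_option linter.style.haveILetI false
set_option backward.isDefEq.respectTransparency.types false
set_option backward.isDefEq.respectTransparency false

noncomputable section

universe u

open CategoryTheory Limits Pretriangulated AlgebraicGeometry DerivedCategory ZeroObject
open Groth.Agent.DCX42 Groth.Agent.PerfAmp41

attribute [local instance] HasDerivedCategory.standard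

namespace Groth.Agent.PerfFib24

variable {X S U : Scheme.{u}} (f : X ⟶ S)

/-- Flatness over the base restricts to open subschemes. -/
theorem isFlatOver_restrict (j : U ⟶ X) [IsOpenImmersion j] {M : X.Modules} (h : FlatMod.IsFlatOver f M) :
    FlatMod.IsFlatOver (j ≫ f) ((Scheme.Modules.restrictFunctor j).obj M) := fun u => by
  let e := FBase64.AssSheaf.restrictStalkEquiv j M u
  letI : Module (S.presheaf.stalk (f (j u))) (M.presheaf.stalk (j u)) := FlatMod.moduleStalkOver f M (j u)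
  letI : Module (S.presheaf.stalk ((j ≫ f) u)) (((Scheme.Modules.restrictFunctor j).obj M).presheaf.stalk u) :=
    FlatMod.moduleStalkOver (j ≫ f) _ u
  have h' : Module.Flat (S.presheaf.stalk (f (j u))) (M.presheaf.stalk (j u)) := h (j u)
  refine flat_of_semilinear (A := S.presheaf.stalk (f (j u))) (B := S.presheaf.stalk ((j ≫ f) u))
    (RingEquiv.refl (S.presheaf.stalk (f (j u)))) e (fun a m => ?_) h'
  show e ((f.stalkMap (j u)).hom a • m) = ((j ≫ f).stalkMap u).hom a • e m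
  rw [FBase64.AssSheaf.restrictStalkEquiv_smul j M u, Scheme.Hom.stalkMap_comp]
  rfl

theorem hasRelFlatAmplitudeIn_restrict (j : U ⟶ X) [IsOpenImmersion j] {a b : ℤ} {K : DCoh.D X}
    (h : DCoh.HasRelFlatAmplitudeIn f a b K) : DCoh.HasRelFlatAmplitudeIn (j ≫ f) a b ((resD j).obj K) := by
  obtain ⟨E, hab, hE, ⟨e⟩⟩ := h
  exact ⟨(resCx j).obj E, fun i hi => (Scheme.Modules.restrictFunctor j).map_isZero (hab i hi),
    fun i => isFlatOver_restrict f j (hE i), ⟨(resQ j E).symm ≪≫ (resD j).mapIso e⟩⟩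

/-- Shrinking the neighbourhood. -/
theorem relAmp_of_le {V W : X.Opens} (h : W ≤ V) {a b : ℤ} {K : DCoh.D X}
    (hV : DCoh.HasRelFlatAmplitudeIn (V.ι ≫ f) a b ((resD V.ι).obj K)) :
    DCoh.HasRelFlatAmplitudeIn (W.ι ≫ f) a b ((resD W.ι).obj K) := by
  have := hasRelFlatAmplitudeIn_restrict (V.ι ≫ f) (X.homOfLE h) hV
  rw [← Category.assoc, X.homOfLE_ι] at this
  exact hasRelFlatAmplitudeIn_of_iso this
    ((resDComp (X.homOfLE h) V.ι).app K ≪≫ (resDCongr (X.homOfLE_ι h)).app K)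

variable [Flat f]

theorem locRelTor_ext₂ (T : Triangle (DCoh.D X)) (hT : T ∈ distinguishedTriangles)
    (h₁ : DCoh.LocHasFiniteRelTorDim f T.obj₁) (h₃ : DCoh.LocHasFiniteRelTorDim f T.obj₃) :
    DCoh.LocHasFiniteRelTorDim f T.obj₂ := by
  rw [locRelTor_iff] at h₁ h₃ ⊢
  intro x
  obtain ⟨V₁, a₁, b₁, hx₁, hV₁⟩ := h₁ x
  obtain ⟨V₃, a₃, b₃, hx₃, hV₃⟩ := h₃ x
  let V := V₁ ⊓ V₃
  let a := min a₁ (a₃ + 1)
  let b := max b₁ (b₃ + 1)
  refine ⟨V, a - 1, b, ⟨hx₁, hx₃⟩, ?_⟩
  let G := resD V.ι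
  let T' := T.invRotate
  have hT' := G.map_distinguished T' (inv_rot_of_distTriang _ hT)
  refine hasRelFlatAmplitudeIn_cone (V.ι ≫ f) (G.mapTriangle.obj T') hT' ?_ ?_
  · exact hasRelFlatAmplitudeIn_mono _ (show a ≤ a₃ - -1 by omega) (show b₃ - -1 ≤ b by omega)
      (hasRelFlatAmplitudeIn_of_iso (hasRelFlatAmplitudeIn_shift _ (relAmp_of_le f inf_le_right hV₃) (-1))
        ((G.commShiftIso (-1 : ℤ)).app T.obj₃).symm)
  · exact hasRelFlatAmplitudeIn_mono _ (show a ≤ a₁ by omega) (show b₁ ≤ b by omega)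
      (relAmp_of_le f inf_le_left hV₁)

omit [Flat f] in
theorem locRelTor_shift {K : DCoh.D X} (h : DCoh.LocHasFiniteRelTorDim f K) (n : ℤ) :
    DCoh.LocHasFiniteRelTorDim f (K⟦n⟧) := by
  rw [locRelTor_iff] at h ⊢
  intro x
  obtain ⟨V, a, b, hx, hV⟩ := h x
  exact ⟨V, a - n, b - n, hx, hasRelFlatAmplitudeIn_of_iso (hasRelFlatAmplitudeIn_shift _ hV n)
    (((resD V.ι).commShiftIso n).app K).symm⟩

theorem locRelTor_retract {K L : DCoh.D X} (i : K ⟶ L) (r : L ⟶ K) (hir : i ≫ r = 𝟙 K)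
    (h : DCoh.LocHasFiniteRelTorDim f L) : DCoh.LocHasFiniteRelTorDim f K := by
  rw [locRelTor_iff] at h ⊢
  intro x
  obtain ⟨V, a, b, hx, hV⟩ := h x
  exact ⟨V, a, b, hx, hasRelFlatAmplitudeIn_retract _ ((resD V.ι).map i) ((resD V.ι).map r)
    (by rw [← Functor.map_comp, hir, CategoryTheory.Functor.map_id]) hV⟩

/-- The relatively perfect objects. -/
abbrev RelPerf : ObjectProperty (DCoh.D X) := fun E =>
  (∀ m : ℤ, DCoh.IsPseudoCoherentD m E) ∧ DCoh.LocHasFiniteRelTorDim f E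

theorem relPerf_isTriangulated : (RelPerf f).IsTriangulated := by
  have hz : IsZero (0 : DCoh.D X) := isZero_zero _
  haveI : (RelPerf f).ContainsZero := ⟨0, hz, fun m => isPC_of_isLE
    ((TStructure.t).isLE_of_isZero hz (m - 1)), by
    rw [locRelTor_iff]
    intro x
    refine ⟨⊤, 0, 0, trivial, 0, fun i _ => ?_, fun i => (relFlatClass _).of_isZero ?_, ⟨?_⟩⟩
    · exact Functor.map_isZero (HomologicalComplex.eval _ _ i) (isZero_zero _)
    · exact Functor.map_isZero (HomologicalComplex.eval _ _ i) (isZero_zero _)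
    · exact (Functor.map_isZero Q (isZero_zero _)).iso ((resD (⊤ : X.Opens).ι).map_isZero hz)⟩
  haveI : (RelPerf f).IsStableUnderShift ℤ :=
    ⟨fun n => ⟨fun K hK => ⟨fun m => isPC_shift (hK.1 (m + n)) n (by omega), locRelTor_shift f hK.2 n⟩⟩⟩
  haveI : (RelPerf f).IsTriangulatedClosed₂ :=
    ⟨fun T hT h₁ h₃ => ObjectProperty.le_isoClosure _ _
      ⟨fun m => isPC₂ T hT (h₁.1 m) (h₃.1 m), locRelTor_ext₂ f T hT h₁.2 h₃.2⟩⟩
  exact {}

theorem relPerf_retracts : (RelPerf f).IsStableUnderRetracts :=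
  ⟨fun h hY => ⟨fun m => isPC_of_retract h.i h.r h.retract (hY.1 m), locRelTor_retract f h.i h.r h.retract hY.2⟩⟩

end Groth.Agent.PerfFib24
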