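import Groth.Agent.PerfFib24.RelFibAlg
import Groth.Agent.CAlgH2.LocalFibCrit
import Groth.Agent.FlatMor67.StalkEssFP
import Groth.Agent.FlatMor68.FibreFree
import Groth.Agent.PerfAmp41.Main
import Groth.Agent.PerfFib24.RelPerfSat

/-!
# Flatness through the fibre
-/

set_option autoImplicit false
set_option linter.style.haveILetI false
set_option backward.isDefEq.respectTransparency.types false
set_option backward.isDefEq.respectTransparency false

noncomputable section

universe u

open CategoryTheory Limits AlgebraicGeometry IsLocalRing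
open Groth.Agent.QC70 Groth.Agent.DCX42 Groth.Agent.PerfAmp41

attribute [local instance] HasDerivedCategory.standard

namespace Groth.Agent.PerfFib24

variable {T X S : Scheme.{u}} (g : T ⟶ X) (f : X ⟶ S) [LocallyOfFinitePresentation f]

/-- A finitely presented module flat over the base with flat fibre is flat. -/
theorem isFlatAt_of_flat_fibre (z : T) (hsurj : Function.Surjective (g.stalkMap z).hom)
    (hker : RingHom.ker (g.stalkMap z).hom =
      (maximalIdeal (S.presheaf.stalk (f (g z)))).map (f.stalkMap (g z)).hom)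
    (M : X.Modules) (hM : CohB1.IsFP M) (hflat : FlatMod.IsFlatOverAt f M (g z))
    (hfib : FlatMod.IsFlatAt ((Scheme.Modules.pullback g).obj M) z) : FlatMod.IsFlatAt M (g z) := by
  rcases subsingleton_or_nontrivial (M.presheaf.stalk (g z)) with h | h
  · show Module.Flat (X.presheaf.stalk (g z)) (M.presheaf.stalk (g z))
    infer_instance
  let R := S.presheaf.stalk (f (g z))
  let O := X.presheaf.stalk (g z)
  letI : Algebra R O := (f.stalkMap (g z)).hom.toAlgebra
  haveI : IsLocalHom (algebraMap R O) := f.toLRSHom.prop (g z)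
  letI : Module R (M.presheaf.stalk (g z)) := FlatMod.moduleStalkOver f M (g z)
  haveI : IsScalarTower R O (M.presheaf.stalk (g z)) := IsScalarTower.of_algebraMap_smul fun _ _ => rfl
  haveI : Module.Flat R (M.presheaf.stalk (g z)) := hflat
  haveI := hM
  haveI : Module.FinitePresentation O (M.presheaf.stalk (g z)) := FlatMor68.FibreFree.finitePresentation_stalk M (g z)
  let J : Ideal O := (maximalIdeal R).map (algebraMap R O)
  have hJ : RingHom.ker (g.stalkMap z).hom = J := hker
  let P := ((Scheme.Modules.pullback g).obj M).presheaf.stalk z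
  letI := (g.stalkMap z).hom.toAlgebra
  letI : Module O P := Module.compHom P (g.stalkMap z).hom
  haveI : IsScalarTower O (T.presheaf.stalk z) P := IsScalarTower.of_algebraMap_smul fun _ _ => rfl
  have hbc := DCK91.isBaseChange_pullη g M z
  let η : M.presheaf.stalk (g z) →ₗ[O] P := DCK91.pullη g M z
  let JM : Submodule O (M.presheaf.stalk (g z)) := J • ⊤
  have key : LinearMap.ker η = JM := by
    ext e
    rw [LinearMap.mem_ker]
    exact (baseChange_eq_zero_iff hbc hsurj e).trans (by rw [show RingHom.ker (algebraMap O (T.presheaf.stalk z)) = J from hJ])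
  let ψ : (M.presheaf.stalk (g z) ⧸ JM) →ₗ[O] P := JM.liftQ η key.ge
  have hψ : Function.Bijective ψ := by
    refine ⟨LinearMap.ker_eq_bot.1 (Submodule.ker_liftQ_eq_bot _ _ _ key.le), fun p => ?_⟩
    induction p using hbc.inductionOn with
    | zero => exact ⟨0, map_zero _⟩
    | tmul e => exact ⟨Submodule.Quotient.mk e, rfl⟩
    | smul b p ih =>
      obtain ⟨q, rfl⟩ := ih
      obtain ⟨r, rfl⟩ := hsurj b
      exact ⟨r • q, map_smul _ r q⟩
    | add p q hp hq =>
      obtain ⟨a, rfl⟩ := hp
      obtain ⟨b, rfl⟩ := hq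
      exact ⟨a + b, map_add _ a b⟩
  let σ : T.presheaf.stalk z ≃+* (O ⧸ J) :=
    ((Ideal.quotEquivOfEq hJ.symm).trans (RingHom.quotientKerEquivOfSurjective hsurj)).symm
  let e : P ≃+ (M.presheaf.stalk (g z) ⧸ JM) := (LinearEquiv.ofBijective ψ hψ).symm.toAddEquiv
  have he : ∀ (a : T.presheaf.stalk z) (p : P), e (a • p) = σ a • e p := fun a p => by
    obtain ⟨r, rfl⟩ := hsurj a
    have hσ : σ ((g.stalkMap z).hom r) = Ideal.Quotient.mk J r := by
      apply σ.symm.injective
      rw [RingEquiv.symm_apply_apply]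
      rfl
    rw [hσ]
    exact (LinearEquiv.ofBijective ψ hψ).symm.map_smul r p
  have hq : Module.Flat (O ⧸ J) (M.presheaf.stalk (g z) ⧸ JM) := flat_of_semilinear σ e he hfib
  exact (CAlgH2.fibre_criterion (R := R) (S := O) (S' := O) (M := M.presheaf.stalk (g z))
    (FlatMor67.essFP_stalk f (g z)) (FlatMor67.essFP_stalk f (g z)) hq).2

omit [LocallyOfFinitePresentation f] in
/-- The cokernel of an approximation of a perfect complex is flat in low degrees. -/
theorem isFlatAt_coker_of_approx {G R : CochainComplex X.Modules ℤ} (hG : DCoh.IsStrictlyPerfect G)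
    (hR : DCoh.IsStrictlyPerfect R) (α : DerivedCategory.Q.obj G ⟶ DerivedCategory.Q.obj R) (k : ℤ)
    (hα : PCMap (k - 1) α) (hRk : ∀ i, i < k → IsZero (R.X i)) (x : X) :
    FlatMod.IsFlatAt (cokernel (G.d (k - 1) k)) x := by
  obtain ⟨W, β, hxW, -, hβ⟩ := exists_rep_map hG α x
  obtain ⟨hiso, hepi⟩ := (pcMap_Q_iff β (k - 1)).1 (hβ _ hα)
  obtain ⟨⟨a, b, hab⟩, hGf⟩ := hG
  obtain ⟨⟨c, d, hcd⟩, hRf⟩ := hR
  have h := (flatX (W : Scheme.{u})).isFlat_coker_of_pc β k (max b d)
    (fun i => isFinLocFree_flat (DCX42.isFinLocFree_restrict (hGf i) W.ι))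
    (fun i => isFinLocFree_flat (DCX42.isFinLocFree_restrict (hRf i) W.ι))
    (fun i hi => (Scheme.Modules.restrictFunctor W.ι).map_isZero (hab i (Or.inr (by omega))))
    (fun i hi => (Scheme.Modules.restrictFunctor W.ι).map_isZero (hcd i (Or.inr (by omega))))
    (fun i hi => (Scheme.Modules.restrictFunctor W.ι).map_isZero (hRk i hi)) hiso hepi
  exact (isFlatAt_restrict_iff W.ι _ ⟨x, hxW⟩).1
    (isFlatAt_of_iso (cokerResIso W.ι G (k - 1) k).symm _ (DCK91.flatMod_of_isFlat _ h _))

end Groth.Agent.PerfFib24
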