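import Groth.Agent.PerfFib24.PerfTensor
import Groth.Agent.DCX42.PerfectRetract

/-!
# The derived tensor product of a perfect and a relatively perfect object: globalisation
-/

set_option autoImplicit false
set_option linter.style.haveILetI false
set_option backward.isDefEq.respectTransparency.types false
set_option backward.isDefEq.respectTransparency false

noncomputable section

universe u

open CategoryTheory Limits Pretriangulated AlgebraicGeometry DerivedCategory
open Groth.Agent.DCX42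

attribute [local instance] HasDerivedCategory.standard

namespace Groth.Agent.PerfFib24

variable {X S : Scheme.{u}} (f : X ⟶ S)

/-- Being represented by a strictly perfect complex of free modules. -/
def HasFreeRep {T : Scheme.{u}} (K : DCoh.D T) : Prop :=
  ∃ E : CochainComplex T.Modules ℤ, DCoh.IsStrictlyPerfect E ∧ IsTermFree E ∧ Nonempty (K ≅ Q.obj E)

/-- A perfect object is, near every point, a strictly perfect complex of free modules. -/
theorem loc_freeRep {K : DCoh.D X} (hK : DCoh.IsPerfect K) : Loc (fun {_} A => HasFreeRep A) K := fun x => by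
  obtain ⟨V, hx, E, hE, ⟨e⟩⟩ := (isPerfect_iff K).1 hK x
  obtain ⟨W, hW, hE'⟩ := exists_termFree hE ⟨x, hx⟩
  exact exists_open_of_pieces (P := fun {_} A => HasFreeRep A)
    (fun ⟨E, h, h', ⟨i⟩⟩ e => ⟨E, h, h', ⟨e.symm ≪≫ i⟩⟩)
    (fun j _ ⟨E, h, h', ⟨i⟩⟩ => ⟨_, isStrictlyPerfect_restrict h j, h'.restrict j,
      ⟨(resD j).mapIso i ≪≫ resQ j E⟩⟩)
    K V W hx hW ⟨_, isStrictlyPerfect_restrict hE W.ι, hE', ⟨(resD W.ι).mapIso e ≪≫ resQ W.ι E⟩⟩

/-- Restriction of finite relative tor dimension. -/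
theorem locRelTor_restrict {K : DCoh.D X} (h : DCoh.LocHasFiniteRelTorDim f K) (U : X.Opens) :
    DCoh.LocHasFiniteRelTorDim (U.ι ≫ f) ((resD U.ι).obj K) := by
  rw [locRelTor_iff] at h ⊢
  intro x
  obtain ⟨V, a, b, hx, hV⟩ := h (U.ι x)
  refine ⟨U.ι ⁻¹ᵁ V, a, b, hx, ?_⟩
  have h' := hasRelFlatAmplitudeIn_restrict (V.ι ≫ f) (U.ι ∣_ V) hV
  rw [← Category.assoc, morphismRestrict_ι, Category.assoc] at h'
  exact hasRelFlatAmplitudeIn_of_iso h'
    ((resDComp (U.ι ∣_ V) V.ι).app K ≪≫ (resDCongr (morphismRestrict_ι U.ι V)).app K ≪≫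
      ((resDComp (U.ι ⁻¹ᵁ V).ι U.ι).app K).symm)

/-- Relative perfectness is local on the source. -/
theorem relPerf_of_local {K : DCoh.D X}
    (h : ∀ x : X, ∃ T : X.Opens, x ∈ T ∧ RelPerf (T.ι ≫ f) ((resD T.ι).obj K)) : RelPerf f K := by
  refine ⟨fun m => (isPC_iff m K).2 fun x => ?_, (locRelTor_iff f K).2 fun x => ?_⟩
  · obtain ⟨T, hx, hT, -⟩ := h x
    obtain ⟨W, hW, hP⟩ := (isPC_iff m _).1 (hT m) ⟨x, hx⟩
    exact exists_open_of_pieces (P := fun {_} A => HasPCApprox m A) (fun h e => h.of_iso e)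
      (fun j _ h => h.restrict j) K T W hx hW hP
  · obtain ⟨T, hx, -, hT⟩ := h x
    obtain ⟨W, a, b, hW, hP⟩ := (locRelTor_iff _ _).1 hT ⟨x, hx⟩
    obtain ⟨e, he, hfac⟩ := exists_opens_iso (W.ι ≫ T.ι)
    refine ⟨_, a, b, mem_opensRange T W hx hW, ?_⟩
    have h' := hasRelFlatAmplitudeIn_restrict (W.ι ≫ T.ι ≫ f) e
      (hasRelFlatAmplitudeIn_of_iso hP ((resDComp W.ι T.ι).app K))
    rw [← Category.assoc W.ι, ← Category.assoc e, hfac] at h'
    exact hasRelFlatAmplitudeIn_of_iso h' ((resDComp e (W.ι ≫ T.ι)).app K ≪≫ (resDCongr hfac).app K)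

variable [Flat f]

/-- The case of a K-flat complex. -/
theorem relPerf_LTensorCx_kflat (K : DCoh.D X) (hK : DCoh.IsPerfect K) (L : CochainComplex X.Modules ℤ)
    (hL : DCoh.IsKFlat L) (hLp : RelPerf f (Q.obj L)) [DCoh.HasLTensorCx L] :
    RelPerf f ((DCoh.LTensorCx L).obj K) := by
  refine relPerf_of_local f fun x => ?_
  obtain ⟨T, hx, E, hE, hE', ⟨e⟩⟩ := loc_freeRep hK x
  obtain ⟨k⟩ := nonempty_res_LTensor T.ι L hL K E e
  haveI := relPerf_retracts (T.ι ≫ f)
  haveI : (RelPerf (T.ι ≫ f)).IsClosedUnderIsomorphisms := inferInstance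
  refine ⟨T, hx, (RelPerf (T.ι ≫ f)).prop_of_iso k.symm
    (relPerf_tensor_termFree (T.ι ≫ f) _ (DCK91.isKFlat_pullback T.ι L hL) ?_ E hE hE')⟩
  exact (RelPerf (T.ι ≫ f)).prop_of_iso (resQ T.ι L ≪≫ Q.mapIso ((resCxIsoPull T.ι).app L))
    ⟨fun m => isPC_restrict (hLp.1 m) T, locRelTor_restrict f hLp.2 T⟩

/-- The derived tensor product of a perfect and a relatively perfect object is relatively perfect. -/
theorem relPerf_LTensorCx (K : DCoh.D X) (hK : DCoh.IsPerfect K) (M : CochainComplex X.Modules ℤ)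
    (hM : RelPerf f (DCoh.toD X M)) [DCoh.HasLTensorCx M] : RelPerf f ((DCoh.LTensorCx M).obj K) := by
  haveI : ModSite.HasLTensorCx (O := X.sheaf) M := (inferInstance : DCoh.HasLTensorCx M)
  obtain ⟨L, p, hL, -, hp, -⟩ := Mod48.exists_resolution (O := X.sheaf) M
  haveI := hp
  have hL' : DCoh.IsKFlat L := hL
  haveI := hasLTensorCx L hL'
  haveI : ModSite.HasLTensorCx (O := X.sheaf) L := (inferInstance : DCoh.HasLTensorCx L)
  haveI := relPerf_retracts f
  haveI : (RelPerf f).IsClosedUnderIsomorphisms := inferInstance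
  haveI : IsIso (Q.map (C := CochainComplex X.Modules ℤ) p) := (isIso_Q_map_iff_quasiIso X.Modules p).2 hp
  have hLp : RelPerf f (Q.obj L) := (RelPerf f).prop_of_iso (asIso (Q.map (C := CochainComplex X.Modules ℤ) p)).symm hM
  obtain ⟨e₁⟩ := FlatModel41.nonempty_LTensorCx_iso (O := X.sheaf) M L hL p
  obtain ⟨e₂⟩ := FlatModel41.nonempty_LTensorCx_iso (O := X.sheaf) L L hL (𝟙 L)
  exact (RelPerf f).prop_of_iso ((DCoh.LTensorCx L).mapIso (rep K).symm ≪≫ (e₂.symm ≪≫ e₁).app _ ≪≫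
    (DCoh.LTensorCx M).mapIso (rep K)) (relPerf_LTensorCx_kflat f K hK L hL' hLp)

end Groth.Agent.PerfFib24
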