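import Groth.Agent.PerfFib24.RelFib
import Groth.Agent.PerfFib24.PerfTensorGlobal
import Groth.Agent.E4O.KernelFP
import Groth.Agent.DCX42.Single
import Groth.Agent.DCX42.PerfectRetract

/-!
# Relative perfectness through flat finitely presented terms
-/

set_option autoImplicit false
set_option linter.style.haveILetI false
set_option linter.unusedSectionVars false
set_option backward.isDefEq.respectTransparency.types false
set_option backward.isDefEq.respectTransparency false

noncomputable section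

universe u

open CategoryTheory Limits Pretriangulated AlgebraicGeometry DerivedCategory
open Groth.Agent.DCX42 Groth.Agent.PerfAmp41

attribute [local instance] HasDerivedCategory.standard

namespace Groth.Agent.PerfFib24

variable {X S : Scheme.{u}}

/-- Finitely presented modules flat over the base are pseudo-coherent. -/
theorem isPC_single_flatFP (n : ℕ) : ∀ {X : Scheme.{u}} (f : X ⟶ S) [Flat f] [LocallyOfFinitePresentation f]
    (M : X.Modules), CohB1.IsFP M → FlatMod.IsFlatOver f M →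
    DCoh.IsPseudoCoherentD (-(n : ℤ)) ((singleFunctor X.Modules 0).obj M) := by
  induction n with
  | zero =>
    intro X f _ _ M hM _
    haveI := hM
    simpa using isPC_single_of_isFT M inferInstance
  | succ n ih =>
    intro X f _ _ M hM hflat
    haveI := hM
    refine isPC_of_local fun x => ?_
    obtain ⟨W, k, π, hx, hπ⟩ := exists_local_free_epi M inferInstance x
    let G := Scheme.Modules.restrictFunctor W.ι
    refine ⟨W, hx, isPC_of_iso ((G.mapDerivedCategorySingleFunctor 0).app M).symm ?_⟩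
    have hW : CohB1.IsFP (M.restrict W.ι) := isFP_restrict hM W.ι
    have hfree : FlatMod.IsFinLocFree (FlatMod.freeMod (W : Scheme.{u}) k) := QC70.isFinLocFree_freeMod _ k
    have hflatW : FlatMod.IsFlatOver (W.ι ≫ f) (M.restrict W.ι) := isFlatOver_restrict f W.ι hflat
    have := Props58.Ext.isQuasicoherent_freeMod (W : Scheme.{u}) k
    haveI : Coh.IsQCoh (M.restrict W.ι) := by
      haveI := hW
      exact (inferInstance : (M.restrict W.ι).IsQuasicoherent)
    haveI : Coh.IsQCoh (FlatMod.freeMod (W : Scheme.{u}) k) := DCX42.isQCoh_of_isFinLocFree hfree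
    let C : ShortComplex (W : Scheme.{u}).Modules := ShortComplex.mk (kernel.ι π) π (kernel.condition π)
    have hC : C.ShortExact := Props58.Ext.shortExact_kernel π
    have hK : CohB1.IsFP (kernel π) := E4O.isFP_kernel_of_epi (W.ι ≫ f) _ _
      (Props58.LocFree.isFP_of_isFinLocFree hfree) hW hflatW π
    have hKf : FlatMod.IsFlatOver (W.ι ≫ f) C.X₁ :=
      (relFlatClass (W.ι ≫ f)).X₁ C hC (isFlatOver_of_isFlat _ (isFlat_of_isFinLocFree hfree)) hflatW
    refine isPC₃ _ hC.singleTriangle_distinguished ?_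
      (isPC_of_isPerfect (isPerfect_single hfree 0) _)
    have := ih (W.ι ≫ f) C.X₁ hK hKf
    rw [show (-((n + 1 : ℕ) : ℤ) + 1) = -(n : ℤ) by push_cast; omega]
    exact this

variable (f : X ⟶ S) [Flat f] [LocallyOfFinitePresentation f]

/-- Bounded complexes of finitely presented modules flat over the base are relatively perfect. -/
theorem relPerf_of_flatFP_terms {G : CochainComplex X.Modules ℤ} {a b : ℤ} (hab : DCoh.VanishesOutside G a b)
    (hG : ∀ i : ℤ, CohB1.IsFP (G.X i) ∧ FlatMod.IsFlatOver f (G.X i)) : RelPerf f (Q.obj G) := by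
  refine ⟨fun m => ?_, ?_⟩
  · let P : ObjectProperty (DCoh.D X) := fun K => ∀ m : ℤ, DCoh.IsPseudoCoherentD m K
    haveI : P.IsClosedUnderIsomorphisms := ⟨fun e h m => isPC_of_iso e (h m)⟩
    refine prop_of_terms P (fun Z hZ m => isPC_of_isLE ((TStructure.t).isLE_of_isZero hZ (m - 1)))
      (fun T hT h₁ h₃ m => isPC₂ T hT (h₁ m) (h₃ m)) (b + 1 - a).toNat a G (fun i hi => hab i (by omega))
      (fun i q => ?_) m
    have h0 : DCoh.IsPseudoCoherentD (q - i) ((singleFunctor X.Modules 0).obj (G.X i)) :=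
      isPC_mono (show -((-(q - i)).toNat : ℤ) ≤ q - i by omega)
        (isPC_single_flatFP _ f _ (hG i).1 (hG i).2)
    exact isPC_of_iso ((singleFunctorIsoCompQ X.Modules i).app _)
      (isPC_of_iso (((SingleFunctors.shiftIso (singleFunctors X.Modules) (-i) i 0 (by omega)).app _))
        (isPC_shift h0 (-i) (by omega)))
  · rw [locRelTor_iff]
    intro x
    exact ⟨⊤, a, b, trivial, hasRelFlatAmplitudeIn_restrict f (⊤ : X.Opens).ι
      ⟨G, hab, fun i => (hG i).2, ⟨Iso.refl _⟩⟩⟩

/-- Relative perfectness by flat finitely presented terms. -/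
theorem relPerf_iff_flatFP (K : DCoh.D X) : RelPerf f K ↔
    ∀ x : X, ∃ V : X.Opens, x ∈ V ∧ ∃ (G : CochainComplex (V : Scheme.{u}).Modules ℤ) (a b : ℤ),
      DCoh.VanishesOutside G a b ∧ (∀ i : ℤ, CohB1.IsFP (G.X i) ∧ FlatMod.IsFlatOver (V.ι ≫ f) (G.X i)) ∧
      Nonempty ((resD V.ι).obj K ≅ Q.obj G) := by
  constructor
  · rintro ⟨hpc, htor⟩ x
    obtain ⟨V₁, a, b, hx₁, hV₁⟩ := (locRelTor_iff f K).1 htor x
    obtain ⟨V₂, hx₂, hV₂⟩ := (isPC_iff (a - 2) K).1 (hpc _) x
    let T := V₁ ⊓ V₂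
    obtain ⟨E, α, hE, hα⟩ := exists_inf (P := fun {_} A => HasPCApprox (a - 2) A) (fun h e => h.of_iso e)
      (fun j _ h => h.restrict j) K (inf_le_right : T ≤ V₂) hV₂
    obtain ⟨R, hR, hRf, ⟨eR⟩⟩ := relAmp_of_le f (inf_le_left : T ≤ V₁) hV₁
    have hGE : ((resD T.ι).obj K).IsGE a := isGE_of_relAmp (T.ι ≫ f) ⟨R, hR, hRf, ⟨eR⟩⟩
    obtain ⟨eT⟩ := nonempty_truncGE_iso α a hGE fun i hi => hα.1 i (by omega)
    obtain ⟨W, β, hxW, -, hβ⟩ := exists_rep_map hE (α ≫ eR.inv) (⟨x, hx₁, hx₂⟩ : T)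
    obtain ⟨hiso, hepi⟩ := (pcMap_Q_iff β (a - 1)).1
      (hβ _ (((hα.mono_degree (by omega : a - 2 ≤ a - 1))).comp (PCMap.of_isIso _ _)))
    obtain ⟨⟨c, d, hcd⟩, hEf⟩ := hE
    have hco := (relFlatClass (W.ι ≫ T.ι ≫ f)).isFlat_coker_of_pc β a (max b d)
      (fun i => isFlatOver_of_isFlat _ (isFlat_of_isFinLocFree (DCX42.isFinLocFree_restrict (hEf i) W.ι)))
      (fun i => isFlatOver_restrict (T.ι ≫ f) W.ι (hRf i))
      (fun i hi => (Scheme.Modules.restrictFunctor W.ι).map_isZero (hcd i (Or.inr (by omega))))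
      (fun i hi => (Scheme.Modules.restrictFunctor W.ι).map_isZero (hR i (Or.inr (by omega))))
      (fun i hi => (Scheme.Modules.restrictFunctor W.ι).map_isZero (hR i (Or.inl hi))) hiso hepi
    have hfp : CohB1.IsFP (cokernel (((resCx W.ι).obj E).d (a - 1) a)) := LimTop61.isFP_cokernel _
      (Props58.LocFree.isFP_of_isFinLocFree (DCX42.isFinLocFree_restrict (hEf _) W.ι))
      (Props58.LocFree.isFP_of_isFinLocFree (DCX42.isFinLocFree_restrict (hEf _) W.ι))
    let G : CochainComplex (W : Scheme.{u}).Modules ℤ := (resCx W.ι).obj (CochainComplex.truncGE E a)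
    let iso : (Scheme.Modules.restrictFunctor W.ι).obj (cokernel (E.d (a - 1) a)) ≅ G.X a :=
      (Scheme.Modules.restrictFunctor W.ι).mapIso
        (cokerOp E (a - 1) a (by omega) ≪≫ (CochainComplex.truncGEXIsoOpcycles E a).symm)
    have hGX : ∀ i, CohB1.IsFP (G.X i) ∧ FlatMod.IsFlatOver (W.ι ≫ T.ι ≫ f) (G.X i) := fun i => by
      rcases lt_trichotomy i a with hi | rfl | hi
      · have hz : IsZero (G.X i) :=
          (Scheme.Modules.restrictFunctor W.ι).map_isZero (CochainComplex.isZero_of_isStrictlyGE _ a i hi)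
        exact ⟨Props58.LocFree.isFP_of_isFinLocFree (DCX42.isFinLocFree_of_isZero hz), (relFlatClass _).of_isZero hz⟩
      · exact ⟨isFP_of_iso ((cokerResIso W.ι E (i - 1) i).symm ≪≫ iso) hfp,
          (relFlatClass _).of_iso ((cokerResIso W.ι E (i - 1) i).symm ≪≫ iso) hco⟩
      · have h := DCX42.isFinLocFree_restrict
          (DCX42.isFinLocFree_of_iso (CochainComplex.truncGEXIso E a i hi).symm (hEf i)) W.ι
        exact ⟨Props58.LocFree.isFP_of_isFinLocFree h, isFlatOver_of_isFlat _ (isFlat_of_isFinLocFree h)⟩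
    obtain ⟨e, _, hfac⟩ := exists_opens_iso (W.ι ≫ T.ι)
    refine ⟨_, mem_opensRange T W ⟨hx₁, hx₂⟩ hxW, (resCx e).obj G, a, max a d, fun i hi => ?_, fun i => ?_,
      ⟨((resDCongr hfac).app K).symm ≪≫ ((resDComp e (W.ι ≫ T.ι)).app K).symm ≪≫
        (resD e).mapIso (((resDComp W.ι T.ι).app K).symm ≪≫ (resD W.ι).mapIso eT.symm ≪≫ resQ W.ι _) ≪≫ resQ e G⟩⟩
    · refine (Scheme.Modules.restrictFunctor e).map_isZero ((Scheme.Modules.restrictFunctor W.ι).map_isZero ?_)
      rcases hi with hi | hi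
      · exact CochainComplex.isZero_of_isStrictlyGE _ a i hi
      · exact (hcd i (Or.inr (by omega))).of_iso (CochainComplex.truncGEXIso E a i (by omega))
    · refine ⟨isFP_restrict (hGX i).1 e, ?_⟩
      have h := isFlatOver_restrict (W.ι ≫ T.ι ≫ f) e (hGX i).2
      rw [← Category.assoc W.ι, ← Category.assoc e, hfac] at h
      exact h
  · intro h
    refine relPerf_of_local f fun x => ?_
    obtain ⟨V, hx, G, a, b, hab, hG, ⟨e⟩⟩ := h x
    obtain ⟨h1, h2⟩ := relPerf_of_flatFP_terms (V.ι ≫ f) hab hG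
    exact ⟨V, hx, fun m => isPC_of_iso e.symm (h1 m), ((relPerf_retracts (V.ι ≫ f)).of_retract (Retract.ofIso e) ⟨h1, h2⟩).2⟩

end Groth.Agent.PerfFib24
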