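import Groth.Agent.PerfFib24.PointRank

/-!
# Maps of finite free modules as matrices of global sections
-/

set_option autoImplicit false
set_option backward.isDefEq.respectTransparency.types false
set_option backward.isDefEq.respectTransparency false

noncomputable section

universe u

open CategoryTheory Limits AlgebraicGeometry TopologicalSpace Opposite
open Groth.Agent.QC70 Groth.Agent.Props58.LocFree

namespace Groth.Agent.PerfFib24

variable {W : Scheme.{u}} {n k l : ℕ}

theorem eq_of_sum_unitVec {a b : Fin k → Γ(W, ⊤)}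
    (h : ∑ j, a j • unitVec W k j = ∑ j, b j • unitVec W k j) : a = b := by
  refine free_eq_of_comb (W := (⊤ : W.Opens)) ?_
  refine ((Finset.sum_congr rfl fun j _ => ?_).trans h).trans (Finset.sum_congr rfl fun j _ => ?_)
  · exact congrArg _ (res_self _)
  · exact congrArg _ (res_self _).symm

theorem matOf_unique (φ : FlatMod.freeMod W n ⟶ FlatMod.freeMod W k) (A : Matrix (Fin k) (Fin n) Γ(W, ⊤))
    (h : ∀ i, φ.app ⊤ (unitVec W n i) = ∑ j, A j i • unitVec W k j) : matOf φ = A :=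
  Matrix.ext fun j i => congrFun (eq_of_sum_unitVec ((matOf_spec φ i).symm.trans (h i))) j

theorem freeMod_hom_ext {M : W.Modules} (φ ψ : FlatMod.freeMod W n ⟶ M)
    (h : ∀ i, φ.app ⊤ (unitVec W n i) = ψ.app ⊤ (unitVec W n i)) : φ = ψ := by
  refine Sigma.hom_ext _ _ fun i => M.unitHomEquiv.injective (Subtype.ext (funext fun V => ?_))
  let ιi : SheafOfModules.unit W.ringCatSheaf ⟶ FlatMod.freeMod W n :=
    Sigma.ι (fun _ : Fin n => Coh.structureModule W) i
  refine ((M.unitHomEquiv (ιi ≫ φ)).2 (homOfLE (le_top : V.unop ≤ ⊤)).op).symm.trans ?_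
  refine Eq.trans ?_ ((M.unitHomEquiv (ιi ≫ ψ)).2 (homOfLE (le_top : V.unop ≤ ⊤)).op)
  exact congrArg _ (h i)

theorem matOf_injective {φ ψ : FlatMod.freeMod W n ⟶ FlatMod.freeMod W k} (h : matOf φ = matOf ψ) : φ = ψ :=
  freeMod_hom_ext φ ψ fun i => by rw [matOf_spec, matOf_spec, h]

/-- The map with a given matrix. -/
def homOf (A : Matrix (Fin k) (Fin n) Γ(W, ⊤)) : FlatMod.freeMod W n ⟶ FlatMod.freeMod W k :=
  Sigma.desc fun i => (FlatMod.freeMod W k).unitHomEquiv.symm
    ⟨fun V => res (FlatMod.freeMod W k) (le_top : V.unop ≤ ⊤) (∑ j, A j i • unitVec W k j),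
      fun {V _} t => res_res (le_top : V.unop ≤ ⊤) (leOfHom t.unop) _⟩

theorem matOf_homOf (A : Matrix (Fin k) (Fin n) Γ(W, ⊤)) : matOf (homOf A) = A := by
  refine matOf_unique _ _ fun i => ?_
  change (Sigma.ι (fun _ : Fin n => Coh.structureModule W) i ≫ homOf A).app ⊤ (toUnit 1) = _
  rw [homOf, Sigma.ι_desc]
  refine (one_smul Γ(W, ⊤) _).trans ?_
  exact res_self _

theorem matOf_comp (φ : FlatMod.freeMod W n ⟶ FlatMod.freeMod W k)
    (ψ : FlatMod.freeMod W k ⟶ FlatMod.freeMod W l) : matOf (φ ≫ ψ) = matOf ψ * matOf φ := by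
  refine matOf_unique _ _ fun i => ?_
  show ψ.app ⊤ (φ.app ⊤ (unitVec W n i)) = _
  rw [matOf_spec, map_sum]
  simp only [Scheme.Modules.Hom.app_smul, matOf_spec, Finset.smul_sum, smul_smul, Matrix.mul_apply,
    Finset.sum_smul]
  rw [Finset.sum_comm]
  exact Finset.sum_congr rfl fun a _ => Finset.sum_congr rfl fun b _ => by rw [mul_comm]

theorem matOf_add (φ ψ : FlatMod.freeMod W n ⟶ FlatMod.freeMod W k) :
    matOf (φ + ψ) = matOf φ + matOf ψ := by
  refine matOf_unique _ _ fun i => ?_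
  show φ.app ⊤ (unitVec W n i) + ψ.app ⊤ (unitVec W n i) = _
  rw [matOf_spec, matOf_spec, ← Finset.sum_add_distrib]
  exact Finset.sum_congr rfl fun j _ => (add_smul _ _ _).symm

theorem matOf_id : matOf (𝟙 (FlatMod.freeMod W n)) = 1 := by
  refine matOf_unique _ _ fun i => ?_
  show unitVec W n i = _
  simp [Matrix.one_apply]

theorem matOf_zero : matOf (0 : FlatMod.freeMod W n ⟶ FlatMod.freeMod W k) = 0 := by
  refine matOf_unique _ _ fun i => ?_
  show (0 : Γ(FlatMod.freeMod W k, ⊤)) = _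
  simp

/-- `g^*φ` between free modules. -/
def conj {U : Scheme.{u}} (g : U ⟶ W) (φ : FlatMod.freeMod W n ⟶ FlatMod.freeMod W k) :
    FlatMod.freeMod U n ⟶ FlatMod.freeMod U k :=
  (FrB.pullbackFreeIso g n).inv ≫ (Scheme.Modules.pullback g).map φ ≫ (FrB.pullbackFreeIso g k).hom

theorem matOf_conj {U : Scheme.{u}} (g : U ⟶ W) (φ : FlatMod.freeMod W n ⟶ FlatMod.freeMod W k) :
    matOf (conj g φ) = (matOf φ).map g.appTop := by
  refine matOf_unique _ _ fun i => ?_
  have hi : (FrB.pullbackFreeIso g n).inv.app ⊤ (unitVec U n i) = pullSec g _ (unitVec W n i) := by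
    rw [← pullbackFreeIso_pullSec g n i]
    exact congr((Scheme.Modules.Hom.app $((FrB.pullbackFreeIso g n).hom_inv_id) ⊤)
      (pullSec g _ (unitVec W n i)))
  show (FrB.pullbackFreeIso g k).hom.app ⊤ (((Scheme.Modules.pullback g).map φ).app ⊤
    ((FrB.pullbackFreeIso g n).inv.app ⊤ (unitVec U n i))) = _
  rw [hi, pullSec_map, matOf_spec, pullSec_sum, map_sum]
  refine Finset.sum_congr rfl fun j _ => ?_
  rw [pullSec_smul]
  refine (Scheme.Modules.Hom.app_smul (FrB.pullbackFreeIso g k).hom (g.appTop (matOf φ j i)) _).trans ?_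
  rw [pullbackFreeIso_pullSec]
  rfl

end Groth.Agent.PerfFib24
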