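import Groth.Agent.PerfFib24.RelTorStalk
import Groth.Agent.S4851
import Groth.Agent.DCK91.LpullComp

/-!
# Relative perfectness over an ideal inside the Jacobson radical
-/

set_option autoImplicit false
set_option linter.style.haveILetI false
set_option linter.unusedSectionVars false
set_option backward.isDefEq.respectTransparency.types false
set_option backward.isDefEq.respectTransparency false

noncomputable section

universe u

open CategoryTheory Limits Pretriangulated AlgebraicGeometry DerivedCategory TopologicalSpace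
open Groth.Agent.DCX42 Groth.Agent.PerfAmp41

attribute [local instance] HasDerivedCategory.standard

namespace Groth.Agent.PerfFib24

variable {R : Type u} [CommRing R] {X : Scheme.{u}} (f : X ⟶ Spec (CommRingCat.of R)) {I : Ideal R}

/-- An open set containing the points over `V(I)` is everything, for a closed map and `I` in the Jacobson radical. -/
theorem eq_univ_of_jacobson (hI : I ≤ Ideal.jacobson ⊥) [UniversallyClosed f] (O : Set X) (hO : IsOpen O)
    (h : ∀ x : X, I ≤ (show PrimeSpectrum R from f x).asIdeal → x ∈ O) : O = Set.univ := by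
  by_contra hne
  obtain ⟨x, hx⟩ := (Set.ne_univ_iff_exists_notMem O).1 hne
  let C : Set (PrimeSpectrum R) := f.base '' Oᶜ
  have hC : IsClosed C := f.isClosedMap _ hO.isClosed_compl
  obtain ⟨p, hp, hp'⟩ := hC.exists_closed_singleton (S := C) ⟨f x, x, hx, rfl⟩
  have hmax := (PrimeSpectrum.isClosed_singleton_iff_isMaximal p).1 hp'
  obtain ⟨y, hy, rfl⟩ := hp
  exact hy (h y (hI.trans (sInf_le ⟨bot_le, hmax⟩)))

/-- The inclusion of the closed subscheme of `I`. -/
abbrev closedι (R : Type u) [CommRing R] (I : Ideal R) : Spec (CommRingCat.of (R ⧸ I)) ⟶ Spec (CommRingCat.of R) :=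
  Spec.map (CommRingCat.ofHom (Ideal.Quotient.mk I))

/-- Points over `V(I)` with values in a field factor through the closed subscheme. -/
theorem exists_lift_closedι {K : CommRingCat.{u}} (hK : IsField K) (g : Spec K ⟶ Spec (CommRingCat.of R))
    (w : Spec K) (h : I ≤ (show PrimeSpectrum R from g w).asIdeal) :
    ∃ q : Spec K ⟶ Spec (CommRingCat.of (R ⧸ I)), q ≫ closedι R I = g := by
  let φ := Spec.preimage g
  letI := hK.toField
  have hker : ∀ r ∈ I, φ.hom r = 0 := fun r hr => by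
    have h1 : r ∈ ((Spec.map φ) w : PrimeSpectrum R).asIdeal := by
      rw [show Spec.map φ = g from Spec.map_preimage g]
      exact h hr
    have h2 : φ.hom r ∈ (w : PrimeSpectrum K).asIdeal := h1
    rwa [(Ideal.eq_bot_or_top (w : PrimeSpectrum K).asIdeal).resolve_right (w : PrimeSpectrum K).2.ne_top,
      Ideal.mem_bot] at h2
  refine ⟨Spec.map (CommRingCat.ofHom (Ideal.Quotient.lift I φ.hom hker)), ?_⟩
  rw [closedι, ← Spec.map_comp]
  refine Eq.trans (congrArg Spec.map ?_) (Spec.map_preimage g)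
  ext r
  rfl

variable [Flat f] [LocallyOfFinitePresentation f] [IsProper f]
  [DCoh.HasLpull (pullback.fst f (closedι R I))] {E : DCoh.D X}

/-- Uniform boundedness below on the fibres over `V(I)`. -/
theorem exists_bound (htor : DCoh.LocHasFiniteRelTorDim (pullback.snd f (closedι R I))
      ((DCoh.Lpull (pullback.fst f (closedι R I))).obj E)) :
    ∃ a₀ : ℤ, ∀ (s : Spec (CommRingCat.of R)), I ≤ (show PrimeSpectrum R from s).asIdeal →
      ∀ [DCoh.HasLpull (f.fiberι s)] (z : ↥(f.fiber s)), ∃ W : (f.fiber s).Opens, z ∈ W ∧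
        ((resD W.ι).obj ((DCoh.Lpull (f.fiberι s)).obj E)).IsGE a₀ := by
  classical
  let f₀ := pullback.snd f (closedι R I)
  let i := pullback.fst f (closedι R I)
  haveI : Flat f₀ := inferInstance
  haveI : IsProper f₀ := MorphismProperty.pullback_snd (P := @IsProper) _ _ inferInstance
  haveI : CompactSpace (pullback f (closedι R I) : Scheme.{u}) :=
    QuasiCompact.compactSpace_of_compactSpace f₀
  choose V a b hy hV using (locRelTor_iff f₀ _).1 htor
  obtain ⟨t, ht⟩ := isCompact_univ.elim_finite_subcover (fun y => (V y : Set (pullback f (closedι R I) : Scheme.{u})))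
    (fun y => (V y).2) fun y _ => Set.mem_iUnion.2 ⟨y, hy y⟩
  obtain ⟨a₀, ha₀⟩ : ∃ a₀, ∀ y ∈ t, a₀ ≤ a y := by
    obtain ⟨c, hc⟩ := ((t.image a).finite_toSet.bddBelow)
    exact ⟨c, fun y hy => hc (Finset.mem_coe.2 (Finset.mem_image_of_mem a hy))⟩
  refine ⟨a₀, fun s hs _ z => ?_⟩
  let w := IsLocalRing.closedPoint ((Spec (CommRingCat.of R)).residueField s)
  obtain ⟨q, hq⟩ := exists_lift_closedι (R := R) (I := I) (Field.toIsField _) ((Spec (CommRingCat.of R)).fromSpecResidueField s) w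
    (by rwa [Scheme.fromSpecResidueField_apply])
  let j : f.fiber s ⟶ pullback f (closedι R I) := pullback.lift (f.fiberι s) (f.fiberToSpecResidueField s ≫ q)
    (by rw [Category.assoc, hq]; exact f.fiber_fac s)
  have hji : j ≫ i = f.fiberι s := pullback.lift_fst _ _ _
  have hjf : j ≫ f₀ = f.fiberToSpecResidueField s ≫ q := pullback.lift_snd _ _ _
  have hc : IsPullback j (f.fiberToSpecResidueField s) f₀ q := IsPullback.of_right
    (by rw [hji, hq]; exact IsPullback.of_hasPullback f _) hjf (IsPullback.of_hasPullback f (closedι R I))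
  haveI : Flat (f.fiberToSpecResidueField s) := MorphismProperty.of_isPullback hc inferInstance
  obtain ⟨y, hyt, hjz⟩ := Set.mem_iUnion₂.1 (ht (Set.mem_univ (j z)))
  haveI := DCK91.hasLpull j
  haveI : DCoh.HasLpull (j ≫ i) := DCK91.hasLpull _
  haveI := DCK91.hasLpull (j ∣_ V y)
  obtain ⟨r⟩ := nonempty_Lpull_resD j (V y).ι (j ⁻¹ᵁ V y).ι (j ∣_ V y) (morphismRestrict_ι j (V y))
  have hc' : IsPullback (j ∣_ V y) ((j ⁻¹ᵁ V y).ι ≫ f.fiberToSpecResidueField s) ((V y).ι ≫ f₀) q :=
    (isPullback_morphismRestrict j (V y)).paste_vert hc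
  have hW := isGE_of_relAmp ((j ⁻¹ᵁ V y).ι ≫ f.fiberToSpecResidueField s)
    (hasRelFlatAmplitudeIn_of_iso (hasRelFlatAmplitudeIn_Lpull hc' (hV y)) (r.app _).symm)
  obtain ⟨c⟩ := DCK91.Lpull_comp j i
  have hcongr : ∀ {p p' : f.fiber s ⟶ X} (_ : p = p') [DCoh.HasLpull p] [DCoh.HasLpull p'],
      Nonempty (DCoh.Lpull p ≅ DCoh.Lpull p') := by
    intro p p' h _ _
    subst h
    exact ⟨Iso.refl _⟩
  obtain ⟨c'⟩ := hcongr hji
  refine ⟨j ⁻¹ᵁ V y, hjz, (DerivedCategory.isGE_iff _ _).2 fun k hk => ?_⟩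
  haveI : ((resD (j ⁻¹ᵁ V y).ι).obj ((DCoh.Lpull i ⋙ DCoh.Lpull j).obj E)).IsGE (a y) := hW
  exact (DerivedCategory.isZero_of_isGE _ (a y) k (by have := ha₀ y hyt; omega)).of_iso
    ((homologyFunctor _ k).mapIso ((resD (j ⁻¹ᵁ V y).ι).mapIso ((c ≪≫ c').app E).symm))

omit [IsProper f] [DCoh.HasLpull (pullback.fst f (closedι R I))] in
/-- Vanishing of a cohomology sheaf near a point with fibre bounded below. -/
theorem exists_nhd_exact (hE : ∀ m : ℤ, DCoh.IsPseudoCoherentD m E) (x : X) [DCoh.HasLpull (f.fiberι (f x))]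
    {W : (f.fiber (f x)).Opens} {a : ℤ} (hzW : f.asFiber x ∈ W)
    (hW : ((resD W.ι).obj ((DCoh.Lpull (f.fiberι (f x))).obj E)).IsGE a) (i : ℤ) (hi : i < a) :
    ∃ U : X.Opens, x ∈ U ∧ ∀ y ∈ U, Subsingleton ((DCoh.HD E i).presheaf.stalk y) := by
  let k := i + 1
  let m := k - 2
  obtain ⟨T, hxT, E', α, hE', hα⟩ := (isPC_iff m E).1 (hE m) x
  let f' := T.ι ≫ f
  let t : T := ⟨x, hxT⟩
  let j : f'.fiber (f x) ⟶ f.fiber (f x) :=
    pullback.map f' _ f _ T.ι (𝟙 _) (𝟙 _) (Category.comp_id _) (by simp)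
  have hj : f'.fiberι (f x) ≫ T.ι = j ≫ f.fiberι (f x) := (pullback.lift_fst _ _ _).symm
  haveI : IsOpenImmersion j := inferInstance
  obtain ⟨z', hz'⟩ : ∃ z', f'.fiberι (f x) z' = t := by
    have : t ∈ Set.range (f'.fiberι (f x)) := by rw [Scheme.Hom.range_fiberι]; rfl
    exact this
  have hjz : j z' = f.asFiber x := by
    apply (f.fiberι (f x)).isEmbedding.injective
    rw [f.fiberι_asFiber, ← Scheme.Hom.comp_apply, ← hj, Scheme.Hom.comp_apply, hz']
    rfl
  have h := injective_and_flat_coker_of_fibre f E' hE' α hα z' j hj (W := W) (a := a) (k := k) (hjz ▸ hzW) hW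
    (by omega) le_rfl
  let u := cokernel.desc (E'.d (k - 2) (k - 1)) (E'.d (k - 1) k) (E'.d_comp_d _ _ _)
  have hfp₁ : CohB1.IsFP (cokernel (E'.d (k - 2) (k - 1))) := LimTop61.isFP_cokernel _
    (Props58.LocFree.isFP_of_isFinLocFree (hE'.2 _)) (Props58.LocFree.isFP_of_isFinLocFree (hE'.2 _))
  haveI : Coh.IsQCoh (E'.X k) := DCX42.isQCoh_of_isFinLocFree (hE'.2 _)
  haveI : Coh.IsQCoh (cokernel (E'.d (k - 2) (k - 1))) := by
    haveI := hfp₁
    exact (inferInstance : (cokernel (E'.d (k - 2) (k - 1))).IsQuasicoherent)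
  have hopen := Groth.Agent.S4851.result f' (E'.X k) (cokernel (E'.d (k - 2) (k - 1)))
    (Props58.LocFree.isFP_of_isFinLocFree (hE'.2 _)) hfp₁ u
  let U₀ : (T : Scheme.{u}).Opens := ⟨_, hopen⟩
  have hcoker : FlatMod.IsFlatOverAt f' (cokernel u) t := by
    let eu : cokernel u ≅ cokernel (E'.d (k - 1) k) :=
      (cokernelEpiComp (cokernel.π _) u).symm ≪≫ cokernelIsoOfEq (cokernel.π_desc _ _ _)
    rw [← hz']
    haveI h' : Module.Flat _ ((SOv f' (f'.fiberι (f x) z')).obj (cokernel (E'.d (k - 1) k))) := h.2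
    exact (flatOverAt_iff f' (cokernel u) _).2
      (Module.Flat.of_linearEquiv ((SOv f' (f'.fiberι (f x) z')).mapIso eu).toLinearEquiv)
  have htU : t ∈ U₀ := ⟨hz' ▸ h.1, hcoker⟩
  refine ⟨T.ι ''ᵁ U₀, ⟨t, htU, rfl⟩, ?_⟩
  rintro y ⟨v, hv, rfl⟩
  let C : ShortComplex (T : Scheme.{u}).Modules := E'.sc' (k - 2) (k - 1) k
  haveI : PreservesFiniteLimits (DCK91.SP v) := Functor.preservesFiniteLimits_of_preservesHomology _
  have hex : (C.map (DCK91.SP v)).Exact := exact_stalk_of_injective v C hv.1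
  rw [ShortComplex.exact_iff_isZero_homology] at hex
  haveI : IsIso ((homologyFunctor _ i).map α) := hα.1 i (by omega)
  let e : C.homology ≅ (Scheme.Modules.restrictFunctor T.ι).obj (DCoh.HD E i) :=
    (E'.homologyIsoSc' (k - 2) (k - 1) k (by simp; omega) (by simp)).symm ≪≫
      eqToIso (congrArg (fun q => E'.homology q) (show k - 1 = i by omega)) ≪≫
      ((homologyFunctorFactors _ i).app E').symm ≪≫ asIso ((homologyFunctor _ i).map α) ≪≫ hdRes T.ι E i
  haveI : Subsingleton ((DCK91.SP v).obj ((Scheme.Modules.restrictFunctor T.ι).obj (DCoh.HD E i))) :=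
    ModuleCat.subsingleton_of_isZero (hex.of_iso (((C.mapHomologyIso (DCK91.SP v)) ≪≫ (DCK91.SP v).mapIso e)).symm)
  haveI : Subsingleton (((DCoh.HD E i).restrict T.ι).presheaf.stalk v) := ‹_›
  exact (FBase64.AssSheaf.restrictStalkEquiv T.ι (DCoh.HD E i) v).toEquiv.subsingleton

/-- Relative perfectness over `V(I)` spreads out. -/
theorem locRelTor_of_jacobson (hI : I ≤ Ideal.jacobson ⊥) (hE : ∀ m : ℤ, DCoh.IsPseudoCoherentD m E)
    (htor : DCoh.LocHasFiniteRelTorDim (pullback.snd f (closedι R I))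
      ((DCoh.Lpull (pullback.fst f (closedι R I))).obj E)) : DCoh.LocHasFiniteRelTorDim f E := by
  obtain ⟨a₀, ha₀⟩ := exists_bound f htor
  haveI : ∀ s, DCoh.HasLpull (f.fiberι s) := fun s => DCK91.hasLpull _
  have hz : ∀ i, i < a₀ → IsZero (DCoh.HD E i) := fun i hi => DCK91.isZero_of_stalks fun y => by
    have hu : interior {y : X | Subsingleton ((DCoh.HD E i).presheaf.stalk y)} = Set.univ := by
      refine eq_univ_of_jacobson f hI _ isOpen_interior fun x hx => ?_
      obtain ⟨W, hzW, hW⟩ := ha₀ (f x) hx (f.asFiber x)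
      obtain ⟨U, hxU, hU⟩ := exists_nhd_exact f hE x hzW hW i hi
      exact mem_interior.2 ⟨U, fun y hy => hU y hy, U.2, hxU⟩
    have hmem : y ∈ interior {y : X | Subsingleton ((DCoh.HD E i).presheaf.stalk y)} := hu ▸ Set.mem_univ y
    have hmem' : y ∈ {y : X | Subsingleton ((DCoh.HD E i).presheaf.stalk y)} := interior_subset hmem
    haveI : Subsingleton ((DCK91.SP y).obj (DCoh.HD E i)) := hmem'
    exact ModuleCat.isZero_of_subsingleton _
  haveI hGE : E.IsGE a₀ := (DerivedCategory.isGE_iff E a₀).2 hz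
  rw [locRelTor_iff]
  let O : Set X := {x | ∃ (V : X.Opens) (a b : ℤ), x ∈ V ∧ DCoh.HasRelFlatAmplitudeIn (V.ι ≫ f) a b ((resD V.ι).obj E)}
  have hO : IsOpen O := isOpen_iff_forall_mem_open.2 fun x ⟨V, a, b, hx, hV⟩ =>
    ⟨V, fun y hy => ⟨V, a, b, hy, hV⟩, V.2, hx⟩
  have hu : O = Set.univ := eq_univ_of_jacobson f hI O hO fun x hx => by
    obtain ⟨W, hzW, hW⟩ := ha₀ (f x) hx (f.asFiber x)
    exact exists_relAmp_at f hE x (V := ⊤) (a₁ := a₀) trivial
      ((DerivedCategory.isGE_iff _ _).2 fun i hi =>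
        ((Scheme.Modules.restrictFunctor (⊤ : X.Opens).ι).map_isZero (hz i hi)).of_iso (hdRes _ _ i)) hzW hW
  exact fun x => (hu ▸ Set.mem_univ x : x ∈ O)

end Groth.Agent.PerfFib24
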