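import Groth.Agent.PerfFib24.RelFib
import Groth.Agent.PerfFib24.FibCrit
import Groth.Agent.FDesc60.FlatFree

/-!
# Perfectness by fibres
-/

set_option autoImplicit false
set_option linter.style.haveILetI false
set_option backward.isDefEq.respectTransparency.types false
set_option backward.isDefEq.respectTransparency false

noncomputable section

universe u

open CategoryTheory Limits Pretriangulated AlgebraicGeometry DerivedCategory
open Groth.Agent.DCX42 Groth.Agent.PerfAmp41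

attribute [local instance] HasDerivedCategory.standard

namespace Groth.Agent.PerfFib24

/-- The pullback of an approximation. -/
theorem exists_pcMap_lpull {Y X : Scheme.{u}} (g : Y ⟶ X) [DCoh.HasLpull g] {m : ℤ} {E : CochainComplex X.Modules ℤ}
    (hE : DCoh.IsStrictlyPerfect E) {K : DCoh.D X} (α : Q.obj E ⟶ K) (hα : PCMap m α) :
    ∃ α' : Q.obj (((Scheme.Modules.pullback g).mapHomologicalComplex (ComplexShape.up ℤ)).obj E) ⟶ (DCoh.Lpull g).obj K,
      PCMap m α' := by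
  obtain ⟨C, β, γ, hT⟩ := distinguished_cocone_triangle α
  obtain ⟨T', hT', ⟨e₁⟩, ⟨e₂⟩, ⟨e₃⟩⟩ := exists_Lpull_triangle g _ hT
  have hC : T'.obj₃.IsLE (m - 1) :=
    have : ((DCoh.Lpull g).obj (Triangle.mk α β γ).obj₃).IsLE (m - 1) :=
      isLE_Lpull g ((pcMap_iff_isLE hT m).1 hα)
    (TStructure.t).isLE_of_iso e₃.symm (m - 1)
  have h1 : PCMap m T'.mor₁ := (pcMap_iff_isLE (β := T'.mor₂) (γ := T'.mor₃) hT' m).2 hC
  exact ⟨(lpullSP g hE).inv ≫ e₁.inv ≫ T'.mor₁ ≫ e₂.hom,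
    (PCMap.of_isIso m _).comp ((PCMap.of_isIso m _).comp (h1.comp (PCMap.of_isIso m _)))⟩

variable {X S : Scheme.{u}} (f : X ⟶ S) [Flat f] [LocallyOfFinitePresentation f]

/-- Relatively perfect with perfect fibres implies perfect. -/
theorem isPerfect_of_fibres [∀ s : S, DCoh.HasLpull (f.fiberι s)] {K : DCoh.D X}
    (hK : ∀ m : ℤ, DCoh.IsPseudoCoherentD m K) (htor : DCoh.LocHasFiniteRelTorDim f K)
    (hfib : ∀ s : S, DCoh.IsPerfect ((DCoh.Lpull (f.fiberι s)).obj K)) : DCoh.IsPerfect K := by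
  rw [isPerfect_iff]
  intro x
  obtain ⟨V, a₁, b₁, hxV, hV⟩ := (locRelTor_iff f K).1 htor x
  let s := f x
  obtain ⟨W, hzW, R, hR, ⟨eR⟩⟩ := (isPerfect_iff _).1 (hfib s) (f.asFiber x)
  obtain ⟨⟨a₂, b₂, hR'⟩, hRf⟩ := id hR
  let k := min a₁ a₂ - 1
  let m := k - 2
  obtain ⟨V', hxV', hV'⟩ := (isPC_iff m K).1 (hK m) x
  let T := V ⊓ V'
  obtain ⟨E, α, hE, hα⟩ := exists_inf (P := fun {_} A => HasPCApprox m A) (fun h e => h.of_iso e)
    (fun j _ h => h.restrict j) K (inf_le_right : T ≤ V') hV'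
  have hGET : ((resD T.ι).obj K).IsGE k := by
    have h := isGE_of_relAmp (T.ι ≫ f) (relAmp_of_le f (inf_le_left : T ≤ V) hV)
    exact (DerivedCategory.isGE_iff _ _).2 fun i hi => DerivedCategory.isZero_of_isGE _ a₁ i (by omega)
  obtain ⟨eT⟩ := nonempty_truncGE_iso α k hGET fun i hi => hα.1 i (by omega)
  let f' := T.ι ≫ f
  let t : T := ⟨x, hxV, hxV'⟩
  let j : f'.fiber s ⟶ f.fiber s :=
    pullback.map f' _ f _ T.ι (𝟙 _) (𝟙 _) (Category.comp_id _) (by simp)
  have hj : f'.fiberι s ≫ T.ι = j ≫ f.fiberι s := (pullback.lift_fst _ _ _).symm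
  haveI : IsOpenImmersion j := inferInstance
  obtain ⟨z', hz'⟩ : ∃ z', f'.fiberι s z' = t := by
    have : t ∈ Set.range (f'.fiberι s) := by rw [Scheme.Hom.range_fiberι]; rfl
    exact this
  have hjz : j z' = f.asFiber x := by
    apply (f.fiberι (f x)).isEmbedding.injective
    rw [f.fiberι_asFiber, ← Scheme.Hom.comp_apply, ← hj, Scheme.Hom.comp_apply, hz']
    rfl
  have hGEW : ((resD W.ι).obj ((DCoh.Lpull (f.fiberι s)).obj K)).IsGE a₂ :=
    (DerivedCategory.isGE_iff _ _).2 fun i hi =>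
      (((HomologicalComplex.exactAt_iff_isZero_homology R i).1
        (ShortComplex.exact_of_isZero_X₂ _ (hR' i (Or.inl hi)))).of_iso
          ((homologyFunctorFactors _ i).app R)).of_iso ((homologyFunctor _ i).mapIso eR)
  have hflatS : FlatMod.IsFlatOverAt f' (cokernel (E.d (k - 1) k)) t := by
    rw [← hz']
    exact isFlatOverAt_coker_of_fibre f E hE α hα z' j hj (W := W) (a := a₂) (hjz ▸ hzW) hGEW (by omega) le_rfl
  let g := f'.fiberι s
  have := DCK91.hasLpull g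
  obtain ⟨r⟩ := nonempty_Lpull_resD (f.fiberι s) T.ι j g hj
  obtain ⟨α', hα'⟩ := exists_pcMap_lpull g hE α hα
  let G := ((Scheme.Modules.pullback g).mapHomologicalComplex (ComplexShape.up ℤ)).obj E
  let W' := j ⁻¹ᵁ W
  let eP : (resD W'.ι).obj ((DCoh.Lpull g).obj ((resD T.ι).obj K)) ≅ Q.obj ((resCx (j ∣_ W)).obj R) :=
    (resD W'.ι).mapIso (r.app K).symm ≪≫ (resDComp W'.ι j).app _ ≪≫
      (resDCongr (morphismRestrict_ι j W).symm).app _ ≪≫ ((resDComp (j ∣_ W) W.ι).app _).symm ≪≫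
      (resD (j ∣_ W)).mapIso eR ≪≫ resQ (j ∣_ W) R
  let α'' : Q.obj ((resCx W'.ι).obj G) ⟶ Q.obj ((resCx (j ∣_ W)).obj R) :=
    (resQ W'.ι G).inv ≫ (resD W'.ι).map α' ≫ eP.hom
  have hα'' : PCMap (k - 1) α'' :=
    (PCMap.of_isIso _ _).comp ((((hα'.mono_degree (by omega : m ≤ k - 1)).map _)).comp (PCMap.of_isIso _ _))
  have hzW' : z' ∈ W' := show j z' ∈ W from hjz ▸ hzW
  have hflatG : FlatMod.IsFlatAt (cokernel (G.d (k - 1) k)) z' :=
    (isFlatAt_restrict_iff W'.ι _ ⟨z', hzW'⟩).1 (isFlatAt_of_iso (cokerResIso W'.ι G (k - 1) k).symm _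
      (isFlatAt_coker_of_approx (isStrictlyPerfect_restrict (isStrictlyPerfect_pullback g hE) W'.ι)
        (isStrictlyPerfect_restrict hR (j ∣_ W)) α'' k hα''
        (fun i hi => (Scheme.Modules.restrictFunctor (j ∣_ W)).map_isZero (hR' i (Or.inl (by omega)))) ⟨z', hzW'⟩))
  have hfp : CohB1.IsFP (cokernel (E.d (k - 1) k)) := LimTop61.isFP_cokernel _
    (Props58.LocFree.isFP_of_isFinLocFree (hE.2 _)) (Props58.LocFree.isFP_of_isFinLocFree (hE.2 _))
  have hflat : FlatMod.IsFlatAt (cokernel (E.d (k - 1) k)) t := by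
    rw [← hz'] at hflatS ⊢
    exact isFlatAt_of_flat_fibre g f' z' (FlatMor68.FibreStalk.fiberι_stalkMap_surjective f' s z')
      (FlatMor68.FibreStalk.ker_fiberι_stalkMap f' s z') _ hfp hflatS
      (isFlatAt_of_iso (PreservesCokernel.iso (Scheme.Modules.pullback g) (E.d (k - 1) k)).symm _ hflatG)
  obtain ⟨U, htU, hU⟩ := (FDesc60.isFlatAt_iff_exists_nhd _ hfp t).1 hflat
  refine exists_open_of_pieces (P := fun {_} A => HasPerfRep A) (fun h e => h.of_iso e)
    (fun j _ h => h.restrict j) K T U (show x ∈ T from ⟨hxV, hxV'⟩) htU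
    ⟨(resCx U.ι).obj (CochainComplex.truncGE E k), ?_, ⟨(resD U.ι).mapIso eT.symm ≪≫ resQ U.ι _⟩⟩
  obtain ⟨⟨a, b, hab⟩, hEf⟩ := hE
  refine ⟨⟨k, max b k, fun i hi => ?_⟩, fun i => ?_⟩
  · rcases hi with hi | hi
    · exact (Scheme.Modules.restrictFunctor U.ι).map_isZero (CochainComplex.isZero_of_isStrictlyGE _ k i hi)
    · exact (Scheme.Modules.restrictFunctor U.ι).map_isZero
        ((hab i (Or.inr (by omega))).of_iso (CochainComplex.truncGEXIso E k i (by omega)))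
  · rcases lt_trichotomy i k with hi | rfl | hi
    · exact DCX42.isFinLocFree_of_isZero
        ((Scheme.Modules.restrictFunctor U.ι).map_isZero (CochainComplex.isZero_of_isStrictlyGE _ k i hi))
    · exact DCX42.isFinLocFree_of_iso (((Scheme.Modules.restrictFunctorIsoPullback U.ι).app _).symm ≪≫
        (Scheme.Modules.restrictFunctor U.ι).mapIso
          (cokerOp E (k - 1) k (by omega) ≪≫ (CochainComplex.truncGEXIsoOpcycles E k).symm)) hU
    · exact DCX42.isFinLocFree_restrict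
        (DCX42.isFinLocFree_of_iso (CochainComplex.truncGEXIso E k i hi).symm (hEf i)) U.ι

/-- Perfectness by fibres. -/
theorem isPerfect_iff_fibres [∀ s : S, DCoh.HasLpull (f.fiberι s)] (K : DCoh.D X) :
    DCoh.IsPerfect K ↔ ((∀ m : ℤ, DCoh.IsPseudoCoherentD m K) ∧ DCoh.LocHasFiniteRelTorDim f K ∧
      ∀ s : S, DCoh.IsPerfect ((DCoh.Lpull (f.fiberι s)).obj K)) := by
  refine ⟨fun h => ⟨fun m => ?_, locRelTor_of_isPerfect f h, fun s => isPerfect_Lpull _ h⟩,
    fun h => isPerfect_of_fibres f h.1 h.2.1 h.2.2⟩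
  obtain hP := (isPerfect_iff K).1 h
  refine (isPC_iff m K).2 fun x => ?_
  obtain ⟨V, hx, E, hE, ⟨e⟩⟩ := hP x
  exact ⟨V, hx, E, e.inv, hE, PCMap.of_isIso m _⟩

end Groth.Agent.PerfFib24
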