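import Groth.Agent.PerfFib24.Euler
import Groth.Agent.CAlg6.Bordered
import Groth.Prelude.Def_FrameBundle
import Mathlib.LinearAlgebra.Matrix.Rank

/-!
# The rank of a map of free modules at a point

A map `φ : O^n ⟶ O^k` has a matrix of global sections; at a field-valued point `g` the rank of
`g^*φ` on global sections is the rank of the evaluated matrix, which is lower semicontinuous.
-/

set_option autoImplicit false
set_option backward.isDefEq.respectTransparency.types false
set_option backward.isDefEq.respectTransparency false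

noncomputable section

universe u

open CategoryTheory Limits AlgebraicGeometry TopologicalSpace Opposite
open Groth.Agent.QC70 Groth.Agent.Props58.LocFree

namespace Groth.Agent.PerfFib24

/-- Global functions form a commutative ring. -/
instance commRingΓtop (X : Scheme.{u}) : CommRing (Coh.Γtop X) := inferInstanceAs (CommRing Γ(X, ⊤))

variable {W T : Scheme.{u}} (g : T ⟶ W)

/-- A global section pulled back. -/
def pullSec (M : W.Modules) (s : Γ(M, ⊤)) : Γ((Scheme.Modules.pullback g).obj M, ⊤) :=
  ((Scheme.Modules.pullbackPushforwardAdjunction g).unit.app M).app ⊤ s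

theorem pullSec_sum {ι : Type*} (t : Finset ι) (M : W.Modules) (s : ι → Γ(M, ⊤)) :
    pullSec g M (∑ i ∈ t, s i) = ∑ i ∈ t, pullSec g M (s i) :=
  map_sum (((Scheme.Modules.pullbackPushforwardAdjunction g).unit.app M).app ⊤).hom s t

theorem pullSec_smul (M : W.Modules) (r : Γ(W, ⊤)) (s : Γ(M, ⊤)) :
    pullSec g M (r • s) = (g.appTop r : Γ(T, ⊤)) • pullSec g M s := by
  unfold pullSec
  rw [Scheme.Modules.Hom.app_smul]
  rfl

theorem pullSec_map {M N : W.Modules} (φ : M ⟶ N) (s : Γ(M, ⊤)) :
    ((Scheme.Modules.pullback g).map φ).app ⊤ (pullSec g M s) = pullSec g N (φ.app ⊤ s) :=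
  (congr((Scheme.Modules.Hom.app
    $((Scheme.Modules.pullbackPushforwardAdjunction g).unit.naturality φ) ⊤) s)).symm

theorem pullbackStructureIso_pullSec :
    (PicLoc.pullbackStructureIso g).hom.app ⊤ (pullSec g _ (toUnit 1)) = toUnit 1 := by
  have h : (Scheme.Modules.pullbackPushforwardAdjunction g).homEquiv _ _ (PicLoc.pullbackStructureIso g).hom =
      SheafOfModules.unitToPushforwardObjUnit g.toRingCatSheafHom :=
    SheafOfModules.pullbackPushforwardAdjunction_homEquiv_pullbackObjUnitToUnit _
  rw [Adjunction.homEquiv_unit] at h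
  refine (congr((Scheme.Modules.Hom.app $h ⊤) (toUnit 1))).trans ?_
  exact g.appTop.hom.map_one

theorem pullbackFreeIso_pullSec (n : ℕ) (i : Fin n) :
    (FrB.pullbackFreeIso g n).hom.app ⊤ (pullSec g _ (unitVec W n i)) = unitVec T n i := by
  let F := fun _ : Fin n => Coh.structureModule W
  have h : (Scheme.Modules.pullback g).map (Sigma.ι F i) ≫ (FrB.pullbackFreeIso g n).hom =
      (PicLoc.pullbackStructureIso g).hom ≫ Sigma.ι (fun _ : Fin n => Coh.structureModule T) i := by
    have e : (Scheme.Modules.pullback g).map (Sigma.ι F i) =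
        Sigma.ι (fun j => (Scheme.Modules.pullback g).obj (F j)) i ≫
          (PreservesCoproduct.iso (Scheme.Modules.pullback g) F).inv :=
      (ι_comp_sigmaComparison (Scheme.Modules.pullback g) F i).symm
    rw [e, FrB.pullbackFreeIso, Category.assoc, Iso.trans_hom, Iso.inv_hom_id_assoc]
    exact ι_colimMap _ (Discrete.mk i)
  refine (congrArg (fun z => (FrB.pullbackFreeIso g n).hom.app ⊤ z) (pullSec_map g (Sigma.ι F i) (toUnit 1))).symm.trans ?_
  refine (congr((Scheme.Modules.Hom.app $h ⊤) (pullSec g _ (toUnit 1)))).trans ?_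
  exact congrArg ((Sigma.ι (fun _ : Fin n => Coh.structureModule T) i).app ⊤) (pullbackStructureIso_pullSec g)

/-- The pulled back unit sections form a basis. -/
theorem pullSec_bijective (n : ℕ) :
    Function.Bijective (Fintype.linearCombination (Coh.Γtop T)
      (fun i => (show (secTop T).obj ((Scheme.Modules.pullback g).obj (FlatMod.freeMod W n)) from
        pullSec g _ (unitVec W n i)))) := by
  let f := Fintype.linearCombination (Coh.Γtop T) (fun i => (show (secTop T).obj (FlatMod.freeMod T n) from
        unitVec T n i))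
  let l := ((secTop T).mapIso (FrB.pullbackFreeIso g n)).toLinearEquiv
  have hres : ∀ i, res (FlatMod.freeMod T n) (le_top : (⊤ : T.Opens) ≤ ⊤) (unitVec T n i) =
      unitVec T n i := fun i => res_self _
  have hf : ∀ a : Fin n → Coh.Γtop T, f a =
      ∑ i, (show Γ(T, ⊤) from a i) • res (FlatMod.freeMod T n) (le_top : (⊤ : T.Opens) ≤ ⊤) (unitVec T n i) := by
    intro a
    simp only [hres]
    rfl
  have hb : Function.Bijective f := ⟨fun a b h => free_eq_of_comb (by rw [← hf, ← hf]; exact h),
    fun z => by
      obtain ⟨a, ha⟩ := free_exists_comb (W := (⊤ : T.Opens)) z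
      exact ⟨a, (hf a).trans ha⟩⟩
  refine (Function.Bijective.of_comp_iff' l.bijective _).1 ?_
  convert hb using 1
  funext a
  simp only [Function.comp_apply, Fintype.linearCombination_apply, map_sum, map_smul, f]
  exact Finset.sum_congr rfl fun i _ => congrArg _ (pullbackFreeIso_pullSec g n i)

/-- Coordinates on the pullback of a free module. -/
def pullBasis (n : ℕ) :
    (Fin n → Coh.Γtop T) ≃ₗ[Coh.Γtop T]
      (secTop T).obj ((Scheme.Modules.pullback g).obj (FlatMod.freeMod W n)) :=
  LinearEquiv.ofBijective _ (pullSec_bijective g n)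

variable {n k : ℕ} (φ : FlatMod.freeMod W n ⟶ FlatMod.freeMod W k)

/-- The matrix of a map of free modules. -/
def matOf : Matrix (Fin k) (Fin n) Γ(W, ⊤) :=
  Matrix.of fun j i => (free_exists_comb (W := (⊤ : W.Opens)) (φ.app ⊤ (unitVec W n i))).choose j

theorem matOf_spec (i : Fin n) :
    φ.app ⊤ (unitVec W n i) = ∑ j, matOf φ j i • unitVec W k j := by
  refine (free_exists_comb (W := (⊤ : W.Opens)) (φ.app ⊤ (unitVec W n i))).choose_spec.symm.trans ?_
  exact Finset.sum_congr rfl fun j _ => congrArg _ (res_self _)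

/-- The evaluated matrix. -/
def matAt : Matrix (Fin k) (Fin n) (Coh.Γtop T) :=
  (matOf φ).map fun a => (show Coh.Γtop T from g.appTop a)

theorem map_pullBasis (a : Fin n → Coh.Γtop T) :
    ((secTop T).map ((Scheme.Modules.pullback g).map φ)).hom (pullBasis g n a) =
      pullBasis g k ((matAt g φ).mulVec a) := by
  have hi : ∀ i, ((secTop T).map ((Scheme.Modules.pullback g).map φ)).hom (pullSec g _ (unitVec W n i)) =
      ∑ j, matAt g φ j i • (show (secTop T).obj ((Scheme.Modules.pullback g).obj (FlatMod.freeMod W k)) from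
        pullSec g _ (unitVec W k j)) := fun i => by
    refine (pullSec_map g φ (unitVec W n i)).trans ?_
    rw [matOf_spec, pullSec_sum]
    exact Finset.sum_congr rfl fun j _ => pullSec_smul g _ _ _
  simp only [pullBasis, LinearEquiv.ofBijective_apply, Fintype.linearCombination_apply, map_sum, map_smul, hi,
    Finset.smul_sum, smul_smul, Matrix.mulVec, dotProduct, Finset.sum_smul]
  rw [Finset.sum_comm]
  exact Finset.sum_congr rfl fun j _ => Finset.sum_congr rfl fun i _ => by rw [mul_comm]

/-- The rank of `g^*φ` on global sections is the rank of the evaluated matrix. -/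
theorem finrank_range_pullback :
    Module.finrank (Coh.Γtop T) (LinearMap.range ((secTop T).map ((Scheme.Modules.pullback g).map φ)).hom) =
      (matAt g φ).rank := by
  have h : ((secTop T).map ((Scheme.Modules.pullback g).map φ)).hom ∘ₗ (pullBasis g n).toLinearMap =
      (pullBasis g k).toLinearMap ∘ₗ (matAt g φ).mulVecLin :=
    LinearMap.ext fun a => map_pullBasis g φ a
  have h' := congrArg LinearMap.range h
  rw [LinearMap.range_comp_of_range_eq_top _ (pullBasis g n).range, LinearMap.range_comp] at h'
  rw [Matrix.rank, h']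
  exact LinearEquiv.finrank_map_eq _ _

/-- Near a point the rank does not drop. -/
theorem exists_le_rank {T₀ : Scheme.{u}} (p : T₀ ⟶ W) [Nonempty T₀] (h₀ : IsField (Coh.Γtop T₀)) :
    ∃ U : W.Opens, Set.range p ⊆ U ∧ ∀ (T : Scheme.{u}) (g : T ⟶ W) [Nonempty T]
      (_ : IsField (Coh.Γtop T)), Set.range g ⊆ U →
        (matAt p φ).rank ≤ (matAt g φ).rank := by
  letI : Field (Coh.Γtop T₀) := h₀.toField
  obtain ⟨f, c, -, hd, -⟩ := CAlg6.exists_cols (matAt p φ) rfl
  let d : Γ(W, ⊤) := ((matOf φ).submatrix f c).det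
  have map_det : ∀ {T : Scheme.{u}} (g : T ⟶ W),
      ((matAt g φ).submatrix f c).det = (show Coh.Γtop T from g.appTop d) := fun g => by
    rw [show (show Coh.Γtop _ from g.appTop d) = g.appTop.hom (((matOf φ).submatrix f c).det) from rfl,
      RingHom.map_det]
    rfl
  refine ⟨W.basicOpen d, ?_, fun T g _ hT hr => ?_⟩
  · have hu : IsUnit (show Γ(T₀, ⊤) from p.appTop d) := by
      have := isUnit_iff_ne_zero.2 hd
      rw [map_det] at this
      exact this
    rintro _ ⟨t, rfl⟩
    show t ∈ p ⁻¹ᵁ W.basicOpen d
    rw [Scheme.preimage_basicOpen_top, Scheme.basicOpen_of_isUnit _ hu]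
    trivial
  · letI : Field (Coh.Γtop T) := hT.toField
    obtain ⟨s⟩ := ‹Nonempty T›
    have hne : ((matAt g φ).submatrix f c).det ≠ 0 := by
      rw [map_det]
      intro h0
      have hs : s ∈ g ⁻¹ᵁ W.basicOpen d := hr ⟨s, rfl⟩
      rw [Scheme.preimage_basicOpen_top, show g.appTop d = 0 from h0, Scheme.basicOpen_zero] at hs
      exact hs.elim
    refine le_of_eq_of_le ?_ ((matAt g φ).rank_submatrix_le f c)
    rw [Matrix.rank_of_det_ne_zero hne, Fintype.card_fin]

end Groth.Agent.PerfFib24
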