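import Groth.Agent.PerfFib24.RelPerfBasic
import Groth.Agent.PerfAmp41.Main
import Groth.Agent.StalkExact41.Spread
import Groth.Agent.DCX42.Summand
import Mathlib.Algebra.Homology.DerivedCategory.Fractions

/-!
# Relatively perfect objects form a saturated triangulated subcategory
-/

set_option autoImplicit false
set_option linter.style.haveILetI false
set_option backward.isDefEq.respectTransparency.types false
set_option backward.isDefEq.respectTransparency false

noncomputable section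

universe u

open CategoryTheory Limits Pretriangulated AlgebraicGeometry DerivedCategory
open Groth.Agent.DCX42 Groth.Agent.PerfAmp41

attribute [local instance] HasDerivedCategory.standard

namespace Groth.Agent.PerfFib24

variable {X S : Scheme.{u}} (f : X ⟶ S)

/-- Stalks over the base. -/
abbrev SOv (x : X) : X.Modules ⥤ ModuleCat.{u} (S.presheaf.stalk (f x)) :=
  DCK91.SP x ⋙ ModuleCat.restrictScalars (f.stalkMap x).hom

theorem flatOverAt_iff (M : X.Modules) (x : X) :
    FlatMod.IsFlatOverAt f M x ↔ Module.Flat (S.presheaf.stalk (f x)) ((SOv f x).obj M) := Iff.rfl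

/-- Modules flat over the base. -/
def relFlatClass : ExactClass X.Modules where
  P M := FlatMod.IsFlatOver f M
  of_iso {M N} e h x := by
    haveI h' : Module.Flat (S.presheaf.stalk (f x)) ((SOv f x).obj M) := h x
    exact (flatOverAt_iff f N x).2
      (@Module.Flat.of_linearEquiv _ _ _ _ _ _ _ _ h' ((SOv f x).mapIso e.symm).toLinearEquiv)
  of_isZero {M} h x := by
    haveI : Subsingleton ((SOv f x).obj M) := ModuleCat.subsingleton_of_isZero ((SOv f x).map_isZero h)
    exact (inferInstance : Module.Flat (S.presheaf.stalk (f x)) ((SOv f x).obj M))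
  X₁ T hT h2 h3 x := by
    haveI : PreservesFiniteLimits (DCK91.SP x) := Functor.preservesFiniteLimits_of_preservesHomology _
    haveI : PreservesFiniteColimits (DCK91.SP x) := Functor.preservesFiniteColimits_of_preservesHomology _
    have hT' := (hT.map_of_exact (DCK91.SP x)).map_of_exact (ModuleCat.restrictScalars (f.stalkMap x).hom)
    haveI : Module.Flat (S.presheaf.stalk (f x)) ((T.map (DCK91.SP x)).map (ModuleCat.restrictScalars (f.stalkMap x).hom)).X₂ := h2 x
    haveI : Module.Flat (S.presheaf.stalk (f x)) ((T.map (DCK91.SP x)).map (ModuleCat.restrictScalars (f.stalkMap x).hom)).X₃ := h3 x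
    exact (flatOverAt_iff f T.X₁ x).2 <| Div89.flat_left _ _ hT'.moduleCat_injective_f hT'.moduleCat_surjective_g
      ((ShortComplex.ShortExact.moduleCat_exact_iff_function_exact _).1 hT'.exact)
  X₂ T hT h1 h3 x := by
    haveI : PreservesFiniteLimits (DCK91.SP x) := Functor.preservesFiniteLimits_of_preservesHomology _
    haveI : PreservesFiniteColimits (DCK91.SP x) := Functor.preservesFiniteColimits_of_preservesHomology _
    have hT' := (hT.map_of_exact (DCK91.SP x)).map_of_exact (ModuleCat.restrictScalars (f.stalkMap x).hom)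
    haveI : Module.Flat (S.presheaf.stalk (f x)) ((T.map (DCK91.SP x)).map (ModuleCat.restrictScalars (f.stalkMap x).hom)).X₁ := h1 x
    haveI : Module.Flat (S.presheaf.stalk (f x)) ((T.map (DCK91.SP x)).map (ModuleCat.restrictScalars (f.stalkMap x).hom)).X₃ := h3 x
    exact (flatOverAt_iff f T.X₂ x).2 <| Div89.flat_middle _ _ hT'.moduleCat_injective_f hT'.moduleCat_surjective_g
      ((ShortComplex.ShortExact.moduleCat_exact_iff_function_exact _).1 hT'.exact)

theorem relFlat_retract {M N : X.Modules} (i : M ⟶ N) (r : N ⟶ M) (h : i ≫ r = 𝟙 M)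
    (hN : FlatMod.IsFlatOver f N) : FlatMod.IsFlatOver f M := fun x => by
  haveI : Module.Flat (S.presheaf.stalk (f x)) ((SOv f x).obj N) := hN x
  exact (flatOverAt_iff f M x).2 <| Module.Flat.of_retract ((SOv f x).map i).hom ((SOv f x).map r).hom (by
    rw [← ModuleCat.hom_comp, ← Functor.map_comp, h, CategoryTheory.Functor.map_id]
    rfl)

variable [Flat f]

/-- A bounded above resolution by modules flat over the base. -/
theorem exists_flat_res (G : CochainComplex X.Modules ℤ) (b : ℤ) [G.IsStrictlyLE b] :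
    ∃ (P : CochainComplex X.Modules ℤ) (c : P ⟶ G), (∀ i, b < i → IsZero (P.X i)) ∧
      (∀ i, FlatMod.IsFlatOver f (P.X i)) ∧ QuasiIso c := by
  obtain ⟨P, c, hP, hfl, hc⟩ := DCK91.exists_flat_res_le (O := X.sheaf) G b
    (inferInstanceAs (CochainComplex.IsLE (C := X.Modules) G b))
  exact ⟨P, c, hP, fun i => isFlatOver_of_isFlat _ (DCK91.flatMod_of_isFlat _ (hfl i)), hc⟩

/-- The truncation of a flat complex which has flat amplitude. -/
theorem isFlatOver_truncGE {W R : CochainComplex X.Modules ℤ} (β : W ⟶ R) [QuasiIso β] (m b : ℤ)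
    (hW : ∀ i, FlatMod.IsFlatOver f (W.X i)) (hR : ∀ i, FlatMod.IsFlatOver f (R.X i))
    (hWb : ∀ i, b < i → IsZero (W.X i)) (hRb : ∀ i, b < i → IsZero (R.X i))
    (hRm : ∀ i, i < m → IsZero (R.X i)) (i : ℤ) :
    FlatMod.IsFlatOver f ((CochainComplex.truncGE W m).X i) := by
  rcases lt_trichotomy i m with h | rfl | h
  · exact (relFlatClass f).of_isZero (CochainComplex.isZero_of_isStrictlyGE _ m i h)
  · refine (relFlatClass f).of_iso ?_ ((relFlatClass f).isFlat_coker_of_pc β i b hW hR hWb hRb hRm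
      (fun q _ => inferInstance) inferInstance)
    exact cokerOp W (i - 1) i (by omega) ≪≫ (CochainComplex.truncGEXIsoOpcycles W i).symm
  · exact (relFlatClass f).of_iso (CochainComplex.truncGEXIso W m i h).symm (hW i)

/-- A morphism between bounded complexes of relatively flat modules is a chain map up to a quasi-isomorphism. -/
theorem exists_chainMap {E E' : CochainComplex X.Modules ℤ} (a b : ℤ) (hE : DCoh.VanishesOutside E a b)
    (hE' : DCoh.VanishesOutside E' a b) (hEf : ∀ i, FlatMod.IsFlatOver f (E.X i)) (φ : Q.obj E ⟶ Q.obj E') :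
    ∃ (T : CochainComplex X.Modules ℤ) (ψ : T ⟶ E') (e : Q.obj T ≅ Q.obj E),
      DCoh.VanishesOutside T a b ∧ (∀ i, FlatMod.IsFlatOver f (T.X i)) ∧ Q.map ψ = e.hom ≫ φ := by
  haveI : E.IsStrictlyLE b := (CochainComplex.isStrictlyLE_iff E b).2 fun i hi => hE i (Or.inr hi)
  haveI : E.IsStrictlyGE a := (CochainComplex.isStrictlyGE_iff E a).2 fun i hi => hE i (Or.inl hi)
  haveI : E'.IsStrictlyGE a := (CochainComplex.isStrictlyGE_iff E' a).2 fun i hi => hE' i (Or.inl hi)
  obtain ⟨Z, hZ, s, hs, g, rfl⟩ := right_fac_of_isStrictlyLE φ b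
  obtain ⟨W, c, hWb, hWf, hc⟩ := exists_flat_res f Z b
  haveI : QuasiIso s := (isIso_Q_map_iff_quasiIso X.Modules s).1 hs
  haveI : W.IsStrictlyLE b := (CochainComplex.isStrictlyLE_iff W b).2 hWb
  let β : W ⟶ E := c ≫ s
  haveI : QuasiIso β := inferInstanceAs (QuasiIso (c ≫ s))
  let T := CochainComplex.truncGE W a
  haveI : W.IsGE a := (CochainComplex.isGE_iff W a).2 fun q hq =>
    (HomologicalComplex.exactAt_iff_isZero_homology _ _).2
      (((HomologicalComplex.exactAt_iff_isZero_homology E q).1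
        (ShortComplex.exact_of_isZero_X₂ _ (hE q (Or.inl hq)))).of_iso (isoOfQuasiIsoAt β q))
  haveI : IsIso (CochainComplex.πTruncGE E' a) := inferInstance
  let ψ : T ⟶ E' := CochainComplex.truncGEMap (c ≫ g) a ≫ inv (CochainComplex.πTruncGE E' a)
  have hψ : CochainComplex.πTruncGE W a ≫ ψ = c ≫ g := by
    simp only [ψ, ← Category.assoc, IsIso.comp_inv_eq]
    exact CochainComplex.πTruncGE_naturality (c ≫ g) a
  haveI : IsIso (Q.map (CochainComplex.πTruncGE W a)) := inferInstance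
  refine ⟨T, ψ, (asIso (Q.map (CochainComplex.πTruncGE W a))).symm ≪≫ asIso (Q.map c) ≪≫ asIso (Q.map s),
    ?_, isFlatOver_truncGE f β a b hWf hEf hWb (fun i hi => hE i (Or.inr hi)) (fun i hi => hE i (Or.inl hi)), ?_⟩
  · rintro i (hi | hi)
    · exact CochainComplex.isZero_of_isStrictlyGE T a i hi
    · exact CochainComplex.isZero_of_isStrictlyLE T b i hi
  · simp only [Iso.trans_hom, Iso.symm_hom, asIso_inv, asIso_hom, Category.assoc, IsIso.hom_inv_id_assoc]
    rw [IsIso.eq_inv_comp, ← Functor.map_comp, hψ, Functor.map_comp]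

omit [Flat f] in
theorem hasRelFlatAmplitudeIn_mono {a b a' b' : ℤ} (ha : a' ≤ a) (hb : b ≤ b') {K : DCoh.D X}
    (h : DCoh.HasRelFlatAmplitudeIn f a b K) : DCoh.HasRelFlatAmplitudeIn f a' b' K := by
  obtain ⟨E, hab, hE, e⟩ := h
  exact ⟨E, fun i hi => hab i (by omega), hE, e⟩

omit [Flat f] in
theorem hasRelFlatAmplitudeIn_shift {a b : ℤ} {K : DCoh.D X} (h : DCoh.HasRelFlatAmplitudeIn f a b K) (n : ℤ) :
    DCoh.HasRelFlatAmplitudeIn f (a - n) (b - n) (K⟦n⟧) := by
  obtain ⟨E, hab, hE, ⟨e⟩⟩ := h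
  exact ⟨E⟦n⟧, fun i hi => hab (i + n) (by omega), fun i => hE _,
    ⟨(Q.commShiftIso n).app E ≪≫ (shiftFunctor (DCoh.D X) n).mapIso e⟩⟩

/-- Cones of objects of finite relative flat amplitude. -/
theorem hasRelFlatAmplitudeIn_cone {a b : ℤ} (T : Triangle (DCoh.D X)) (hT : T ∈ distinguishedTriangles)
    (h₁ : DCoh.HasRelFlatAmplitudeIn f a b T.obj₁) (h₂ : DCoh.HasRelFlatAmplitudeIn f a b T.obj₂) :
    DCoh.HasRelFlatAmplitudeIn f (a - 1) b T.obj₃ := by
  obtain ⟨E, hE, hEf, ⟨e⟩⟩ := h₁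
  obtain ⟨E', hE', hE'f, ⟨e'⟩⟩ := h₂
  obtain ⟨E₁, ψ, i, hE₁, hE₁f, hψ⟩ := exists_chainMap f a b hE hE' hEf (e.hom ≫ T.mor₁ ≫ e'.inv)
  refine ⟨CochainComplex.mappingCone ψ, fun q hq => isZero_coneX ψ q (hE₁ _ (by omega)) (hE' q (by omega)),
    fun q => (relFlatClass f).isFlat_coneX ψ q (hE₁f _) (hE'f q), ⟨?_⟩⟩
  exact Triangle.π₃.mapIso (isoTriangleOfIso₁₂ _ T (mappingCone_triangle_distinguished ψ) hT
    (i ≪≫ e) e' (by
      change Q.map ψ ≫ e'.hom = (i.hom ≫ e.hom) ≫ T.mor₁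
      rw [hψ]
      simp))

/-- Retracts of objects of finite relative flat amplitude. -/
theorem hasRelFlatAmplitudeIn_retract {a b : ℤ} {K L : DCoh.D X} (i : K ⟶ L) (r : L ⟶ K) (hir : i ≫ r = 𝟙 K)
    (h : DCoh.HasRelFlatAmplitudeIn f a b L) : DCoh.HasRelFlatAmplitudeIn f a b K := by
  obtain ⟨E, hE, hEf, ⟨e⟩⟩ := h
  haveI : E.IsStrictlyLE b := (CochainComplex.isStrictlyLE_iff E b).2 fun q hq => hE q (Or.inr hq)
  haveI : E.IsStrictlyGE a := (CochainComplex.isStrictlyGE_iff E a).2 fun q hq => hE q (Or.inl hq)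
  let i' : K ⟶ Q.obj E := i ≫ e.inv
  let r' : Q.obj E ⟶ K := e.hom ≫ r
  have hir' : i' ≫ r' = 𝟙 K := by simp [i', r', hir]
  obtain ⟨K', β, γ, hT⟩ := distinguished_cocone_triangle i'
  have hγ : γ = 0 := by
    have h0 : γ ≫ i'⟦(1 : ℤ)⟧' = 0 := comp_distTriang_mor_zero₃₁ _ hT
    have := congrArg (· ≫ r'⟦(1 : ℤ)⟧') h0
    simpa [← Functor.map_comp, hir'] using this
  obtain ⟨d, -, -⟩ := exists_iso_binaryBiproduct_of_distTriang _ hT hγ
  have res : ∀ {A : DCoh.D X} (j : A ⟶ Q.obj E) (q : Q.obj E ⟶ A), j ≫ q = 𝟙 A →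
      ∃ (P : CochainComplex X.Modules ℤ), (∀ p, b < p → IsZero (P.X p)) ∧
        (∀ p, FlatMod.IsFlatOver f (P.X p)) ∧ A.IsGE a ∧ Nonempty (Q.obj P ≅ A) := fun {A} j q hjq => by
    have hz : ∀ p, (p < a ∨ b < p) → IsZero (DCoh.HD A p) := fun p hp => by
      refine (IsZero.iff_id_eq_zero _).2 ?_
      have hzE : IsZero ((homologyFunctor X.Modules p).obj (Q.obj E)) :=
        ((HomologicalComplex.exactAt_iff_isZero_homology E p).1
          (ShortComplex.exact_of_isZero_X₂ _ (hE p hp))).of_iso ((homologyFunctorFactors X.Modules p).app E)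
      rw [← CategoryTheory.Functor.map_id, ← hjq, Functor.map_comp,
        hzE.eq_of_tgt ((homologyFunctor X.Modules p).map j) 0, zero_comp]
    haveI : A.IsLE b := (A.isLE_iff b).2 fun p hp => hz p (Or.inr hp)
    obtain ⟨G, hG, ⟨eG⟩⟩ := exists_iso_Q_obj_of_isLE A b
    obtain ⟨P, c, hPb, hPf, hc⟩ := exists_flat_res f G b
    exact ⟨P, hPb, hPf, (A.isGE_iff a).2 fun p hp => hz p (Or.inl hp),
      ⟨(asIso (Q.map c)) ≪≫ eG.symm⟩⟩
  obtain ⟨P₁, hP₁b, hP₁f, hK, ⟨e₁⟩⟩ := res i' r' hir'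
  obtain ⟨P₂, hP₂b, hP₂f, -, ⟨e₂⟩⟩ := res (biprod.inr ≫ d.inv) (d.hom ≫ biprod.snd) (by
    simp only [Category.assoc, Iso.inv_hom_id_assoc, biprod.inr_snd])
  let P := P₁ ⊞ P₂
  have hPX : ∀ p, P.X p ≅ P₁.X p ⊞ P₂.X p := fun p => HomologicalComplex.biprodXIso P₁ P₂ p
  have hPb : ∀ p, b < p → IsZero (P.X p) := fun p hp =>
    (biprod_isZero_iff _ _).2 ⟨hP₁b p hp, hP₂b p hp⟩ |>.of_iso (hPX p)
  have hPf : ∀ p, FlatMod.IsFlatOver f (P.X p) := fun p =>
    (relFlatClass f).of_iso (hPX p).symm ((relFlatClass f).X₂ _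
      (ShortComplex.Splitting.ofHasBinaryBiproduct (P₁.X p) (P₂.X p)).shortExact (hP₁f p) (hP₂f p))
  haveI : P.IsStrictlyLE b := (CochainComplex.isStrictlyLE_iff P b).2 hPb
  haveI : PreservesBinaryBiproducts (Q : CochainComplex X.Modules ℤ ⥤ DCoh.D X) :=
    preservesBinaryBiproducts_of_preservesBiproducts _
  let eP : Q.obj P ≅ Q.obj E := Q.mapBiprod P₁ P₂ ≪≫ biprod.mapIso e₁ e₂ ≪≫ d.symm
  obtain ⟨Z, hZ, s, hs, g, hg⟩ := right_fac_of_isStrictlyLE eP.hom b
  obtain ⟨W, c, hWb, hWf, hc⟩ := exists_flat_res f Z b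
  haveI : QuasiIso s := (isIso_Q_map_iff_quasiIso X.Modules s).1 hs
  haveI : QuasiIso g := by
    rw [← isIso_Q_map_iff_quasiIso]
    have : Q.map g = Q.map s ≫ eP.hom := by rw [hg, IsIso.hom_inv_id_assoc]
    rw [this]
    infer_instance
  have h1 : FlatMod.IsFlatOver f (cokernel (W.d (a - 1) a)) :=
    (relFlatClass f).isFlat_coker_of_pc (c ≫ g) a b hWf hEf hWb (fun p hp => hE p (Or.inr hp))
      (fun p hp => hE p (Or.inl hp)) (fun p _ => inferInstance) inferInstance
  have h2 : FlatMod.IsFlatOver f (cokernel (P.d (a - 1) a)) := by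
    have := ((relFlatClass f).coker_iff_of_iso_homology (c ≫ s) (a - 1) b hWf hPf hWb hPb
      (fun p _ => inferInstance))
    rw [sub_add_cancel] at this
    exact this.1 h1
  let inl : P₁ ⟶ P := biprod.inl
  let fst : P ⟶ P₁ := biprod.fst
  have h3 : FlatMod.IsFlatOver f (cokernel (P₁.d (a - 1) a)) :=
    relFlat_retract f (cokernel.map _ _ (inl.f (a - 1)) (inl.f a) (inl.comm (a - 1) a).symm)
      (cokernel.map _ _ (fst.f (a - 1)) (fst.f a) (fst.comm (a - 1) a).symm)
      (by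
        rw [← cancel_epi (cokernel.π _)]
        simp [inl, fst, ← HomologicalComplex.comp_f_assoc])
      h2
  haveI : P₁.IsStrictlyLE b := (CochainComplex.isStrictlyLE_iff P₁ b).2 hP₁b
  haveI : P₁.IsGE a := (CochainComplex.isGE_iff P₁ a).2 fun p hp => by
    rw [HomologicalComplex.exactAt_iff_isZero_homology]
    haveI := hK
    exact (K.isZero_of_isGE a p hp).of_iso (((homologyFunctorFactors X.Modules p).app P₁).symm ≪≫
      (homologyFunctor X.Modules p).mapIso e₁)
  refine ⟨CochainComplex.truncGE P₁ a, ?_, fun p => ?_, ⟨(asIso (Q.map (CochainComplex.πTruncGE P₁ a))).symm ≪≫ e₁⟩⟩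
  · rintro p (hp | hp)
    · exact CochainComplex.isZero_of_isStrictlyGE _ a p hp
    · exact CochainComplex.isZero_of_isStrictlyLE _ b p hp
  · rcases lt_trichotomy p a with hp | rfl | hp
    · exact (relFlatClass f).of_isZero (CochainComplex.isZero_of_isStrictlyGE _ a p hp)
    · exact (relFlatClass f).of_iso
        (cokerOp P₁ (p - 1) p (by omega) ≪≫ (CochainComplex.truncGEXIsoOpcycles P₁ p).symm) h3
    · exact (relFlatClass f).of_iso (CochainComplex.truncGEXIso P₁ a p hp).symm (hP₁f p)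

end Groth.Agent.PerfFib24
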