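import Groth.Agent.DCK91.StalkFun
import Groth.Agent.FlatMor68.FibreStalk
import Groth.Agent.FlatCrit65.Injective
import Groth.Agent.S4850
import Groth.Agent.Fib62.InjCokerScheme
import Groth.Agent.PerfFib24.RelPerfTri
import Groth.Agent.DCX42.Coh
import Groth.Agent.LimTop61.FPDescend

/-!
# Flat cokernels from exactness on the fibre
-/

set_option autoImplicit false
set_option linter.style.haveILetI false
set_option backward.isDefEq.respectTransparency.types false
set_option backward.isDefEq.respectTransparency false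

noncomputable section

universe u

open CategoryTheory Limits AlgebraicGeometry TensorProduct IsLocalRing
open Groth.Agent.QC70

namespace Groth.Agent.PerfFib24

section Ring

variable {R B M P : Type u} [CommRing R] [CommRing B] [Algebra R B] [AddCommGroup M] [Module R M]
  [AddCommGroup P] [Module R P] [Module B P] [IsScalarTower R B P]

/-- The kernel of a base change along a surjection. -/
theorem baseChange_eq_zero_iff {η : M →ₗ[R] P} (hη : IsBaseChange B η)
    (hs : Function.Surjective (algebraMap R B)) (e : M) :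
    η e = 0 ↔ e ∈ RingHom.ker (algebraMap R B) • (⊤ : Submodule R M) := by
  let σ : (R ⧸ RingHom.ker (algebraMap R B)) ≃ₐ[R] B :=
    Ideal.quotientKerAlgEquivOfSurjective (f := Algebra.ofId R B) hs
  rw [← FlatCrit65.one_tmul_eq_zero_iff, ← hη.equiv.symm.map_eq_zero_iff,
    ← (TensorProduct.congr σ.toLinearEquiv (LinearEquiv.refl R M)).map_eq_zero_iff]
  have h : hη.equiv.symm (η e) = (1 : B) ⊗ₜ[R] e :=
    hη.equiv.injective (by rw [LinearEquiv.apply_symm_apply, hη.equiv_tmul, one_smul])
  rw [h, TensorProduct.congr_tmul]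
  rw [AlgEquiv.toLinearEquiv_apply, map_one]
  rfl

end Ring

variable {T X : Scheme.{u}} (g : T ⟶ X)

/-- Naturality of the unit on stalks. -/
theorem pullη_natural (z : T) {M N : X.Modules} (φ : M ⟶ N) (e : M.presheaf.stalk (g z)) :
    stalkMapM ((Scheme.Modules.pullback g).map φ) z (DCK91.pullη g M z e) =
      DCK91.pullη g N z (stalkMapM φ (g z) e) := by
  obtain ⟨W, hW, t, rfl⟩ := germM_exist e
  rw [DCK91.pullη_germ, stalkMapM_germ, stalkMapM_germ, DCK91.pullη_germ]
  congr 1
  exact (ConcreteCategory.congr_hom (congrArg (fun ψ : M ⟶ _ => ψ.app W)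
    ((Scheme.Modules.pullbackPushforwardAdjunction g).unit.naturality φ)) t).symm

/-- Exactness of the pulled back stalk, read on the stalk. -/
theorem exists_sub_mem_of_pullback_exact (z : T) (hsurj : Function.Surjective (g.stalkMap z).hom)
    (S : ShortComplex X.Modules)
    (hex : ((S.map (Scheme.Modules.pullback g)).map (DCK91.SP z)).Exact)
    (c : S.X₂.presheaf.stalk (g z))
    (hc : stalkMapM S.g (g z) c ∈ RingHom.ker (g.stalkMap z).hom •
      (⊤ : Submodule (X.presheaf.stalk (g z)) (S.X₃.presheaf.stalk (g z)))) :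
    ∃ e : S.X₁.presheaf.stalk (g z), c - stalkMapM S.f (g z) e ∈ RingHom.ker (g.stalkMap z).hom •
      (⊤ : Submodule (X.presheaf.stalk (g z)) (S.X₂.presheaf.stalk (g z))) := by
  letI := (g.stalkMap z).hom.toAlgebra
  have key : ∀ (M : X.Modules) (e : M.presheaf.stalk (g z)), DCK91.pullη g M z e = 0 ↔
      e ∈ RingHom.ker (g.stalkMap z).hom • (⊤ : Submodule (X.presheaf.stalk (g z)) (M.presheaf.stalk (g z))) := by
    intro M e
    letI := Module.compHom (((Scheme.Modules.pullback g).obj M).presheaf.stalk z) (g.stalkMap z).hom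
    haveI : IsScalarTower (X.presheaf.stalk (g z)) (T.presheaf.stalk z)
        (((Scheme.Modules.pullback g).obj M).presheaf.stalk z) :=
      IsScalarTower.of_algebraMap_smul fun r e => rfl
    exact baseChange_eq_zero_iff (DCK91.isBaseChange_pullη g M z) hsurj e
  have hlift : ∀ (M : X.Modules) (p : ((Scheme.Modules.pullback g).obj M).presheaf.stalk z),
      ∃ e, DCK91.pullη g M z e = p := by
    intro M p
    letI := Module.compHom (((Scheme.Modules.pullback g).obj M).presheaf.stalk z) (g.stalkMap z).hom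
    haveI : IsScalarTower (X.presheaf.stalk (g z)) (T.presheaf.stalk z)
        (((Scheme.Modules.pullback g).obj M).presheaf.stalk z) :=
      IsScalarTower.of_algebraMap_smul fun r e => rfl
    induction p using (DCK91.isBaseChange_pullη g M z).inductionOn with
    | zero => exact ⟨0, map_zero _⟩
    | tmul e => exact ⟨e, rfl⟩
    | smul b p ih =>
      obtain ⟨e, rfl⟩ := ih
      obtain ⟨r, rfl⟩ := hsurj b
      exact ⟨r • e, map_smul _ r e⟩
    | add p q hp hq =>
      obtain ⟨e, rfl⟩ := hp
      obtain ⟨e', rfl⟩ := hq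
      exact ⟨e + e', map_add _ e e'⟩
  rw [ShortComplex.moduleCat_exact_iff] at hex
  obtain ⟨p, hp⟩ := hex (DCK91.pullη g S.X₂ z c) (by
    refine (DCK91.SP_map_apply z _ _).trans ?_
    refine (pullη_natural g z S.g c).trans ?_
    exact (key _ _).2 hc)
  obtain ⟨e, rfl⟩ := hlift _ p
  refine ⟨e, (key _ _).1 ?_⟩
  rw [map_sub]
  exact sub_eq_zero.2 (((DCK91.SP_map_apply z _ _).symm.trans hp).symm.trans (pullη_natural g z S.f e))

variable {S : Scheme.{u}} (f : X ⟶ S) [LocallyOfFinitePresentation f]

/-- Exactness on the fibre gives injectivity and flatness of the cokernel. -/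
theorem injective_and_flat_coker_of_exact (z : T) (hsurj : Function.Surjective (g.stalkMap z).hom)
    (hker : RingHom.ker (g.stalkMap z).hom =
      (maximalIdeal (S.presheaf.stalk (f (g z)))).map (f.stalkMap (g z)).hom)
    (C : ShortComplex X.Modules) (h₁ : FlatMod.IsFinLocFree C.X₁) (h₂ : FlatMod.IsFinLocFree C.X₂)
    (h₃ : FlatMod.IsFinLocFree C.X₃) (hflat : FlatMod.IsFlatOverAt f C.X₃ (g z))
    (hex : ((C.map (Scheme.Modules.pullback g)).map (DCK91.SP z)).Exact) :
    Function.Injective (stalkMapM (cokernel.desc C.f C.g C.zero) (g z)) ∧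
      FlatMod.IsFlatOverAt f (cokernel C.g) (g z) := by
  haveI : Coh.IsQCoh C.X₃ := DCX42.isQCoh_of_isFinLocFree h₃
  have hN : CohB1.IsFP (cokernel C.f) := LimTop61.isFP_cokernel _ (Props58.LocFree.isFP_of_isFinLocFree h₁)
    (Props58.LocFree.isFP_of_isFinLocFree h₂)
  haveI : Coh.IsQCoh (cokernel C.f) := by
    haveI := hN
    exact (inferInstance : (cokernel C.f).IsQuasicoherent)
  let u := cokernel.desc C.f C.g C.zero
  have hu : cokernel.π C.f ≫ u = C.g := cokernel.π_desc _ _ _
  have key := (Groth.Agent.S4850.result f C.X₃ (cokernel C.f) (Props58.LocFree.isFP_of_isFinLocFree h₃) hN u (g z) hflat).2 ?_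
  · refine ⟨key.1, ?_⟩
    have h := key.2
    let i : cokernel u ≅ cokernel C.g := (cokernelEpiComp (cokernel.π C.f) u).symm ≪≫ cokernelIsoOfEq hu
    haveI h' : Module.Flat (S.presheaf.stalk (f (g z))) ((SOv f (g z)).obj (cokernel u)) := h
    exact (flatOverAt_iff f (cokernel C.g) (g z)).2
      (Module.Flat.of_linearEquiv ((SOv f (g z)).mapIso i.symm).toLinearEquiv)
  intro m hm
  rw [← hker] at hm ⊢
  obtain ⟨c, rfl⟩ := surjective_stalkMapM_of_epi (cokernel.π C.f) (g z) m
  have hc : stalkMapM C.g (g z) c ∈ RingHom.ker (g.stalkMap z).hom •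
      (⊤ : Submodule (X.presheaf.stalk (g z)) (C.X₃.presheaf.stalk (g z))) := by
    rw [← hu, stalkMapM_comp]
    exact hm
  obtain ⟨e, he⟩ := exists_sub_mem_of_pullback_exact g z hsurj C hex c hc
  have hmem := Submodule.mem_map_of_mem (f := stalkLinear (cokernel.π C.f) (g z)) he
  rw [Submodule.map_smul'', Submodule.map_top] at hmem
  have h0 : stalkMapM (cokernel.π C.f) (g z) (stalkMapM C.f (g z) e) = 0 := by
    rw [← stalkMapM_comp, cokernel.condition]
    obtain ⟨W, hW, t, rfl⟩ := germM_exist e
    rw [stalkMapM_germ, Scheme.Modules.Hom.zero_app]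
    exact germM_zero hW
  rw [map_sub, show stalkLinear (cokernel.π C.f) (g z) (stalkMapM C.f (g z) e) = 0 from h0, sub_zero] at hmem
  exact Submodule.smul_mono le_rfl le_top hmem

/-- The cokernel is flat over the base when the complex is exact on the fibre. -/
theorem isFlatOverAt_coker_of_exact (z : T) (hsurj : Function.Surjective (g.stalkMap z).hom)
    (hker : RingHom.ker (g.stalkMap z).hom =
      (maximalIdeal (S.presheaf.stalk (f (g z)))).map (f.stalkMap (g z)).hom)
    (C : ShortComplex X.Modules) (h₁ : FlatMod.IsFinLocFree C.X₁) (h₂ : FlatMod.IsFinLocFree C.X₂)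
    (h₃ : FlatMod.IsFinLocFree C.X₃) (hflat : FlatMod.IsFlatOverAt f C.X₃ (g z))
    (hex : ((C.map (Scheme.Modules.pullback g)).map (DCK91.SP z)).Exact) :
    FlatMod.IsFlatOverAt f (cokernel C.g) (g z) :=
  (injective_and_flat_coker_of_exact g f z hsurj hker C h₁ h₂ h₃ hflat hex).2

/-- Injectivity out of the cokernel gives exactness of the stalks. -/
theorem exact_stalk_of_injective (x : X) (C : ShortComplex X.Modules)
    (h : Function.Injective (stalkMapM (cokernel.desc C.f C.g C.zero) x)) : (C.map (DCK91.SP x)).Exact := by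
  rw [ShortComplex.moduleCat_exact_iff]
  intro c hc
  have h0 : stalkMapM (cokernel.π C.f) x c = 0 := by
    apply h
    refine Eq.trans ?_ (stalkLinear (cokernel.desc C.f C.g C.zero) x).map_zero.symm
    refine Eq.trans ?_ ((DCK91.SP_map_apply x C.g c).symm.trans hc)
    refine (stalkMapM_comp (cokernel.π C.f) (cokernel.desc C.f C.g C.zero) x c).symm.trans ?_
    rw [cokernel.π_desc]
  have hm : c ∈ LinearMap.ker (stalkLinear (cokernel.π C.f) x) := h0
  rw [Fib62.ker_stalkLinear_cokernelπ] at hm
  obtain ⟨e, he⟩ := hm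
  exact ⟨e, (DCK91.SP_map_apply x C.f e).trans he⟩

end Groth.Agent.PerfFib24
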