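import Groth.Agent.PerfFib24.RelPerfSat
import Groth.Agent.PerfFib24.RelFibAlg
import Groth.Agent.PerfFib24.Semicont
import Groth.Agent.PerfFib24.LocusFree
import Groth.Agent.Mod48.Devissage
import Groth.Agent.S4863

/-!
# Relative perfectness and boundedness on fibres
-/

set_option autoImplicit false
set_option linter.style.haveILetI false
set_option backward.isDefEq.respectTransparency.types false
set_option backward.isDefEq.respectTransparency false

noncomputable section

universe w v u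

open CategoryTheory Limits Pretriangulated AlgebraicGeometry DerivedCategory
open Groth.Agent.DCX42 Groth.Agent.PerfAmp41

namespace Groth.Agent.PerfFib24

section Trunc

variable {A : Type u} [Category.{v} A] [Abelian A] [HasDerivedCategory.{w} A]

/-- A map to a coconnective object which is invertible in high degrees computes the truncation. -/
def truncIsoOfMap {K L : DerivedCategory A} (φ : K ⟶ L) (k : ℤ) (hL : L.IsGE k)
    (h : ∀ i, k ≤ i → IsIso ((homologyFunctor A i).map φ)) : (TStructure.t.truncGE k).obj K ≅ L :=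
  haveI : TStructure.t.IsGE L k := hL
  haveI : IsIso ((TStructure.t.truncGEπ k).app L) := (TStructure.t.isGE_iff_isIso_truncGEπ_app k L).1 hL
  haveI : IsIso ((TStructure.t.truncGE k).map φ) := by
    rw [DerivedCategory.isIso_iff]
    intro i
    by_cases hi : k ≤ i
    · haveI := h i hi
      haveI := Mod48.isIso_homology_truncGEπ K k i hi
      haveI := Mod48.isIso_homology_truncGEπ L k i hi
      have e : (homologyFunctor A i).map φ ≫ (homologyFunctor A i).map ((TStructure.t.truncGEπ k).app L) =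
          (homologyFunctor A i).map ((TStructure.t.truncGEπ k).app K) ≫
            (homologyFunctor A i).map ((TStructure.t.truncGE k).map φ) := by
        rw [← Functor.map_comp, ← Functor.map_comp]
        exact congrArg _ ((TStructure.t.truncGEπ k).naturality φ)
      exact IsIso.of_isIso_fac_left e.symm
    · have h₁ := DerivedCategory.isZero_of_isGE ((TStructure.t.truncGE k).obj K) k i (by omega)
      have h₂ := DerivedCategory.isZero_of_isGE ((TStructure.t.truncGE k).obj L) k i (by omega)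
      exact ⟨⟨0, h₁.eq_of_src _ _, h₂.eq_of_src _ _⟩⟩
  asIso ((TStructure.t.truncGE k).map φ) ≪≫ (asIso ((TStructure.t.truncGEπ k).app L)).symm

/-- A coconnective object through an approximation. -/
theorem nonempty_truncGE_iso {E : CochainComplex A ℤ} {K : DerivedCategory A} (α : Q.obj E ⟶ K) (k : ℤ)
    (hK : K.IsGE k) (h : ∀ i, k ≤ i → IsIso ((homologyFunctor A i).map α)) :
    Nonempty (Q.obj (CochainComplex.truncGE E k) ≅ K) := by
  refine ⟨(truncIsoOfMap (Q.map (CochainComplex.πTruncGE E k)) k inferInstance fun i hi => ?_).symm ≪≫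
    truncIsoOfMap α k hK h⟩
  haveI := (quasiIsoAt_iff_isIso_homologyMap _ _).1 (CochainComplex.quasiIsoAt_πTruncGE E k i hi)
  exact (NatIso.isIso_map_iff (homologyFunctorFactors A i) (CochainComplex.πTruncGE E k)).2
    (inferInstanceAs (IsIso (HomologicalComplex.homologyMap (CochainComplex.πTruncGE E k) i)))

end Trunc

attribute [local instance] HasDerivedCategory.standard

variable {X S : Scheme.{u}} (f : X ⟶ S)

/-- Bounded below cohomology of a restriction kills stalks. -/
theorem subsingleton_stalk_HD {Y : Scheme.{u}} (K : DCoh.D Y) (V : Y.Opens) {a i : ℤ} (hi : i < a)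
    (hV : ((resD V.ι).obj K).IsGE a) {y : Y} (hy : y ∈ V) : Subsingleton ((DCoh.HD K i).presheaf.stalk y) := by
  have hz : IsZero ((Scheme.Modules.restrictFunctor V.ι).obj (DCoh.HD K i)) :=
    (DerivedCategory.isZero_of_isGE _ a i hi).of_iso (hdRes V.ι K i).symm
  let v : (V : Scheme.{u}) := ⟨y, hy⟩
  have : Subsingleton (((Scheme.Modules.restrictFunctor V.ι).obj (DCoh.HD K i)).presheaf.stalk v) :=
    ModuleCat.subsingleton_of_isZero ((DCK91.SP v).map_isZero hz)
  exact (FBase64.AssSheaf.restrictStalkEquiv V.ι (DCoh.HD K i) v).toEquiv.subsingleton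

/-- Flatness over the base at a point restricts to open subschemes. -/
theorem isFlatOverAt_restrict {U : Scheme.{u}} (j : U ⟶ X) [IsOpenImmersion j] (M : X.Modules) (u : U)
    (h' : FlatMod.IsFlatOverAt f M (j u)) :
    FlatMod.IsFlatOverAt (j ≫ f) ((Scheme.Modules.restrictFunctor j).obj M) u := by
  let e := FBase64.AssSheaf.restrictStalkEquiv j M u
  letI : Module (S.presheaf.stalk (f (j u))) (M.presheaf.stalk (j u)) := FlatMod.moduleStalkOver f M (j u)
  letI : Module (S.presheaf.stalk ((j ≫ f) u)) (((Scheme.Modules.restrictFunctor j).obj M).presheaf.stalk u) :=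
    FlatMod.moduleStalkOver (j ≫ f) _ u
  refine flat_of_semilinear (A := S.presheaf.stalk (f (j u))) (B := S.presheaf.stalk ((j ≫ f) u))
    (RingEquiv.refl (S.presheaf.stalk (f (j u)))) e (fun a m => ?_) h'
  show e ((f.stalkMap (j u)).hom a • m) = ((j ≫ f).stalkMap u).hom a • e m
  rw [FBase64.AssSheaf.restrictStalkEquiv_smul j M u, Scheme.Hom.stalkMap_comp]
  rfl

variable [Flat f]

/-- Relatively perfect objects are locally bounded below. -/
theorem isGE_of_relAmp {a b : ℤ} {K : DCoh.D X} (h : DCoh.HasRelFlatAmplitudeIn f a b K) : K.IsGE a := by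
  obtain ⟨E, hE, -, ⟨e⟩⟩ := h
  refine (K.isGE_iff a).2 fun i hi => ?_
  exact (((HomologicalComplex.exactAt_iff_isZero_homology E i).1
    (ShortComplex.exact_of_isZero_X₂ _ (hE i (Or.inl hi)))).of_iso
      ((homologyFunctorFactors X.Modules i).app E)).of_iso ((homologyFunctor X.Modules i).mapIso e.symm)

variable [LocallyOfFinitePresentation f]

/-- Injectivity, and flatness of a cokernel at a point of a fibre from boundedness below on the fibre. -/
theorem injective_and_flat_coker_of_fibre {K : DCoh.D X} {T : X.Opens} (E : CochainComplex (T : Scheme.{u}).Modules ℤ)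
    (hE : DCoh.IsStrictlyPerfect E) {m : ℤ} (α : Q.obj E ⟶ (resD T.ι).obj K) (hα : PCMap m α)
    {s : S} (z' : (T.ι ≫ f).fiber s) (j : (T.ι ≫ f).fiber s ⟶ f.fiber s) [IsOpenImmersion j]
    (hj : (T.ι ≫ f).fiberι s ≫ T.ι = j ≫ f.fiberι s) [DCoh.HasLpull (f.fiberι s)]
    {W : (f.fiber s).Opens} {a : ℤ} (hW : j z' ∈ W) (hGE : ((resD W.ι).obj ((DCoh.Lpull (f.fiberι s)).obj K)).IsGE a)
    {k : ℤ} (hk : k < a + 1) (hm : m ≤ k - 2) :
    Function.Injective (QC70.stalkMapM (cokernel.desc (E.d (k - 2) (k - 1)) (E.d (k - 1) k) (E.d_comp_d _ _ _))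
      ((T.ι ≫ f).fiberι s z')) ∧ FlatMod.IsFlatOverAt (T.ι ≫ f) (cokernel (E.d (k - 1) k)) ((T.ι ≫ f).fiberι s z') := by
  let f' := T.ι ≫ f
  let g := f'.fiberι s
  have := DCK91.hasLpull g
  obtain ⟨r⟩ := nonempty_Lpull_resD (f.fiberι s) T.ι j g hj
  obtain ⟨eH⟩ := nonempty_HD_lpull g hE α (k - 1) (hα.mono_degree (by omega))
  let G := ((Scheme.Modules.pullback g).mapHomologicalComplex (ComplexShape.up ℤ)).obj E
  let eH' : (Scheme.Modules.restrictFunctor j).obj (DCoh.HD ((DCoh.Lpull (f.fiberι s)).obj K) (k - 1)) ≅ G.homology (k - 1) :=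
    (hdRes j _ _).symm ≪≫ (homologyFunctor _ (k - 1)).mapIso (r.app K) ≪≫ eH
  haveI : Subsingleton ((DCoh.HD ((DCoh.Lpull (f.fiberι s)).obj K) (k - 1)).presheaf.stalk (j z')) :=
    subsingleton_stalk_HD _ W (by omega) hGE hW
  haveI : Subsingleton ((DCK91.SP z').obj ((Scheme.Modules.restrictFunctor j).obj
      (DCoh.HD ((DCoh.Lpull (f.fiberι s)).obj K) (k - 1)))) :=
    (FBase64.AssSheaf.restrictStalkEquiv j _ z').toEquiv.symm.subsingleton
  have hz : IsZero ((DCK91.SP z').obj (G.homology (k - 1))) :=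
    (ModuleCat.isZero_of_subsingleton ((DCK91.SP z').obj ((Scheme.Modules.restrictFunctor j).obj
      (DCoh.HD ((DCoh.Lpull (f.fiberι s)).obj K) (k - 1))))).of_iso ((DCK91.SP z').mapIso eH'.symm)
  let C : ShortComplex (T : Scheme.{u}).Modules := E.sc' (k - 2) (k - 1) k
  haveI : PreservesFiniteLimits (DCK91.SP z') := Functor.preservesFiniteLimits_of_preservesHomology _
  have hex : ((C.map (Scheme.Modules.pullback g)).map (DCK91.SP z')).Exact := by
    have h : ((G.sc' (k - 2) (k - 1) k).map (DCK91.SP z')).Exact := by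
      rw [ShortComplex.exact_iff_isZero_homology]
      exact hz.of_iso ((G.sc' (k - 2) (k - 1) k).mapHomologyIso (DCK91.SP z') ≪≫
        (DCK91.SP z').mapIso (G.homologyIsoSc' (k - 2) (k - 1) k (by simp; omega) (by simp)).symm)
    exact h
  exact injective_and_flat_coker_of_exact g f' z' (FlatMor68.FibreStalk.fiberι_stalkMap_surjective f' s z')
    (FlatMor68.FibreStalk.ker_fiberι_stalkMap f' s z') C (hE.2 _) (hE.2 _) (hE.2 _)
    (isFlatOver_of_isFlat (f := f') _ (isFlat_of_isFinLocFree (hE.2 _)) _) hex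

/-- Flatness of a cokernel at a point of a fibre from boundedness below on the fibre. -/
theorem isFlatOverAt_coker_of_fibre {K : DCoh.D X} {T : X.Opens} (E : CochainComplex (T : Scheme.{u}).Modules ℤ)
    (hE : DCoh.IsStrictlyPerfect E) {m : ℤ} (α : Q.obj E ⟶ (resD T.ι).obj K) (hα : PCMap m α)
    {s : S} (z' : (T.ι ≫ f).fiber s) (j : (T.ι ≫ f).fiber s ⟶ f.fiber s) [IsOpenImmersion j]
    (hj : (T.ι ≫ f).fiberι s ≫ T.ι = j ≫ f.fiberι s) [DCoh.HasLpull (f.fiberι s)]
    {W : (f.fiber s).Opens} {a : ℤ} (hW : j z' ∈ W) (hGE : ((resD W.ι).obj ((DCoh.Lpull (f.fiberι s)).obj K)).IsGE a)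
    {k : ℤ} (hk : k < a + 1) (hm : m ≤ k - 2) :
    FlatMod.IsFlatOverAt (T.ι ≫ f) (cokernel (E.d (k - 1) k)) ((T.ι ≫ f).fiberι s z') := by
  exact (injective_and_flat_coker_of_fibre f E hE α hα z' j hj hW hGE hk hm).2

/-- Boundedness below near a point and on its fibre gives finite relative flat amplitude nearby. -/
theorem exists_relAmp_at {K : DCoh.D X} (hK : ∀ m : ℤ, DCoh.IsPseudoCoherentD m K) (x : X)
    [DCoh.HasLpull (f.fiberι (f x))] {V : X.Opens} {a₁ : ℤ} (hxV : x ∈ V) (hV : ((resD V.ι).obj K).IsGE a₁)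
    {W : (f.fiber (f x)).Opens} {a₂ : ℤ} (hzW : f.asFiber x ∈ W)
    (hW : ((resD W.ι).obj ((DCoh.Lpull (f.fiberι (f x))).obj K)).IsGE a₂) :
    ∃ (V : X.Opens) (a b : ℤ), x ∈ V ∧ DCoh.HasRelFlatAmplitudeIn (V.ι ≫ f) a b ((resD V.ι).obj K) := by
  let z := f.asFiber x
  let a := min a₁ a₂
  let k := a - 1
  let m := k - 2
  obtain ⟨V', hxV', hV'⟩ := (isPC_iff m K).1 (hK m) x
  let T := V ⊓ V'
  obtain ⟨E, α, hE, hα⟩ := exists_inf (P := fun {_} A => HasPCApprox m A) (fun h e => h.of_iso e)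
    (fun j _ h => h.restrict j) K (inf_le_right : T ≤ V') hV'
  have hGE : ((resD T.ι).obj K).IsGE k := by
    have h0 : ((resD (X.homOfLE (inf_le_left : T ≤ V))).obj ((resD V.ι).obj K)).IsGE a₁ := by
      refine (DerivedCategory.isGE_iff _ _).2 fun i hi => ?_
      exact ((Scheme.Modules.restrictFunctor _).map_isZero (DerivedCategory.isZero_of_isGE _ a₁ i hi)).of_iso
        (hdRes _ _ i)
    let e := (resDComp (X.homOfLE (inf_le_left : T ≤ V)) V.ι).app K ≪≫ (resDCongr (X.homOfLE_ι inf_le_left)).app K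
    refine (DerivedCategory.isGE_iff _ _).2 fun i hi => ?_
    exact (DerivedCategory.isZero_of_isGE ((resD (X.homOfLE (inf_le_left : T ≤ V))).obj ((resD V.ι).obj K)) a₁ i
      (by omega)).of_iso ((homologyFunctor _ i).mapIso e.symm)
  obtain ⟨eT⟩ := nonempty_truncGE_iso α k hGE fun i hi => hα.1 i (by omega)
  let f' := T.ι ≫ f
  let t : T := ⟨x, hxV, hxV'⟩
  let j : f'.fiber (f x) ⟶ f.fiber (f x) :=
    pullback.map f' _ f _ T.ι (𝟙 _) (𝟙 _) (Category.comp_id _) (by simp)
  have hj : f'.fiberι (f x) ≫ T.ι = j ≫ f.fiberι (f x) := (pullback.lift_fst _ _ _).symm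
  haveI : IsOpenImmersion j := inferInstance
  have hflat : FlatMod.IsFlatOverAt f' (cokernel (E.d (k - 1) k)) t := by
    have hz : ∀ y, f' y = f x → ∃ z', f'.fiberι (f x) z' = y := fun y hy => by
      have : y ∈ Set.range (f'.fiberι (f x)) := by rw [Scheme.Hom.range_fiberι]; exact hy
      exact this
    obtain ⟨z', hz'⟩ := hz t rfl
    have hjz : j z' = z := by
      apply (f.fiberι (f x)).isEmbedding.injective
      rw [f.fiberι_asFiber, ← Scheme.Hom.comp_apply, ← hj, Scheme.Hom.comp_apply, hz']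
      rfl
    rw [← hz']
    exact isFlatOverAt_coker_of_fibre f E hE α hα z' j hj (W := W) (a := a₂) (hjz ▸ hzW) hW (by omega) le_rfl
  haveI : Coh.IsQCoh (cokernel (E.d (k - 1) k)) := by
    haveI : CohB1.IsFP (cokernel (E.d (k - 1) k)) := LimTop61.isFP_cokernel _
      (Props58.LocFree.isFP_of_isFinLocFree (hE.2 _)) (Props58.LocFree.isFP_of_isFinLocFree (hE.2 _))
    exact (inferInstance : (cokernel (E.d (k - 1) k)).IsQuasicoherent)
  have ho := Groth.Agent.S4863.result f' (cokernel (E.d (k - 1) k)) (LimTop61.isFP_cokernel _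
    (Props58.LocFree.isFP_of_isFinLocFree (hE.2 _)) (Props58.LocFree.isFP_of_isFinLocFree (hE.2 _)))
  let O : (T : Scheme.{u}).Opens := ⟨_, ho⟩
  obtain ⟨⟨c, b, hb⟩, hEf⟩ := hE
  have hR : DCoh.HasRelFlatAmplitudeIn (O.ι ≫ f') k (max b k) ((resD O.ι).obj ((resD T.ι).obj K)) := by
    refine ⟨(resCx O.ι).obj (CochainComplex.truncGE E k), ?_, fun i => ?_,
      ⟨(resQ O.ι _).symm ≪≫ (resD O.ι).mapIso eT⟩⟩
    · rintro i (hi | hi)
      · exact (Scheme.Modules.restrictFunctor O.ι).map_isZero (CochainComplex.isZero_of_isStrictlyGE _ k i hi)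
      · exact (Scheme.Modules.restrictFunctor O.ι).map_isZero
          ((hb i (Or.inr (by omega))).of_iso (CochainComplex.truncGEXIso E k i (by omega)))
    · rcases lt_trichotomy i k with hi | rfl | hi
      · exact (relFlatClass _).of_isZero
          ((Scheme.Modules.restrictFunctor O.ι).map_isZero (CochainComplex.isZero_of_isStrictlyGE _ k i hi))
      · refine (relFlatClass _).of_iso ((Scheme.Modules.restrictFunctor O.ι).mapIso
          (cokerOp E (k - 1) k (by omega) ≪≫ (CochainComplex.truncGEXIsoOpcycles E k).symm)) ?_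
        intro w
        exact isFlatOverAt_restrict f' O.ι _ w w.2
      · exact isFlatOver_restrict f' O.ι ((relFlatClass f').of_iso (CochainComplex.truncGEXIso E k i hi).symm
          (isFlatOver_of_isFlat (f := f') _ (isFlat_of_isFinLocFree (hEf i))))
  obtain ⟨e, _, hfac⟩ := exists_opens_iso (O.ι ≫ T.ι)
  refine ⟨_, k, max b k, mem_opensRange T O ⟨hxV, hxV'⟩ hflat, ?_⟩
  have h' := hasRelFlatAmplitudeIn_restrict (O.ι ≫ T.ι ≫ f) e
    (hasRelFlatAmplitudeIn_of_iso hR ((resDComp O.ι T.ι).app K))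
  rw [← Category.assoc O.ι, ← Category.assoc e, hfac] at h'
  exact hasRelFlatAmplitudeIn_of_iso h' ((resDComp e (O.ι ≫ T.ι)).app K ≪≫ (resDCongr hfac).app K)

/-- Boundedness below on fibres gives finite relative tor dimension. -/
theorem locRelTor_of_fibres [∀ s : S, DCoh.HasLpull (f.fiberι s)] {K : DCoh.D X}
    (hK : ∀ m : ℤ, DCoh.IsPseudoCoherentD m K)
    (h₁ : ∀ x : X, ∃ (V : X.Opens) (a : ℤ), x ∈ V ∧ ((resD V.ι).obj K).IsGE a)
    (h₂ : ∀ (s : S) (y : ↥(f.fiber s)), ∃ (W : (f.fiber s).Opens) (a : ℤ), y ∈ W ∧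
      ((resD W.ι).obj ((DCoh.Lpull (f.fiberι s)).obj K)).IsGE a) :
    DCoh.LocHasFiniteRelTorDim f K := by
  rw [locRelTor_iff]
  intro x
  obtain ⟨V, a₁, hxV, hV⟩ := h₁ x
  obtain ⟨W, a₂, hzW, hW⟩ := h₂ (f x) (f.asFiber x)
  exact exists_relAmp_at f hK x hxV hV hzW hW

/-- Finite relative tor dimension gives boundedness below on fibres. -/
theorem bounded_of_locRelTor {K : DCoh.D X} (h : DCoh.LocHasFiniteRelTorDim f K) :
    (∀ x : X, ∃ (V : X.Opens) (a : ℤ), x ∈ V ∧ ((resD V.ι).obj K).IsGE a) ∧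
      ∀ (s : S) [DCoh.HasLpull (f.fiberι s)] (y : ↥(f.fiber s)), ∃ (W : (f.fiber s).Opens) (a : ℤ), y ∈ W ∧
        ((resD W.ι).obj ((DCoh.Lpull (f.fiberι s)).obj K)).IsGE a := by
  refine ⟨fun x => ?_, fun s _ y => ?_⟩
  · obtain ⟨V, a, b, hx, hV⟩ := (locRelTor_iff f K).1 h x
    exact ⟨V, a, hx, isGE_of_relAmp (V.ι ≫ f) hV⟩
  · have hc : IsPullback (f.fiberι s) (f.fiberToSpecResidueField s) f (S.fromSpecResidueField s) :=
      IsPullback.of_hasPullback f (S.fromSpecResidueField s)
    haveI : Flat (f.fiberToSpecResidueField s) := MorphismProperty.of_isPullback hc inferInstance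
    obtain ⟨W, a, b, hy, hW⟩ := (locRelTor_iff _ _).1 (locRelTor_Lpull hc h) y
    exact ⟨W, a, hy, isGE_of_relAmp (W.ι ≫ f.fiberToSpecResidueField s) hW⟩

end Groth.Agent.PerfFib24
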