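import Groth.Agent.PerfFib24.TorTilde
import Groth.Agent.DCX42.TildePC

/-!
# Relative perfectness on pairs of affine opens
-/

set_option autoImplicit false
set_option linter.style.haveILetI false
set_option linter.unusedSectionVars false
set_option backward.isDefEq.respectTransparency false

noncomputable section

universe u

open CategoryTheory Limits AlgebraicGeometry DerivedCategory
open Groth.Agent.DR39 Groth.Agent.DCK91
open Groth.Agent.DCX42 (resD resCx resQ)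

attribute [local instance] HasDerivedCategory.standard

namespace Groth.Agent.PerfFib24

variable {X Y Z : Scheme.{u}}

/-- Tor amplitude relative to an open subscheme of the base. -/
theorem hasTorAmplitudeAt_comp_iff (g : X ⟶ Y) (k : Y ⟶ Z) [IsOpenImmersion k] (x : X) {a b : ℤ}
    (F : CochainComplex X.Modules ℤ) :
    DerSch.HasTorAmplitudeAt (g ≫ k) a b F x ↔ DerSch.HasTorAmplitudeAt g a b F x := by
  have hw : (g.stalkMap x).hom.comp (k.stalkMap (g.base x)).hom = ((g ≫ k).stalkMap x).hom := by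
    rw [Scheme.Hom.stalkMap_comp]; rfl
  refine ⟨fun h => ?_, fun h => ?_⟩
  · obtain ⟨e⟩ := resCx_comp (k.stalkMap (g.base x)).hom (g.stalkMap x).hom _ hw ((DCK91.SPc x).obj F)
    refine TorStalk41.ta_of_res_epi _ (Flat.stalkMap k _) (fun S _ α β hαβ => ?_)
      _ (TA.of_iso h ((QA _).mapIso e.symm))
    refine RingHom.ext fun t => ?_
    obtain ⟨s, rfl⟩ := (ConcreteCategory.bijective_of_isIso (k.stalkMap (g.base x))).2 t
    exact DFunLike.congr_fun hαβ s
  · refine (TorStalk41.ta_res_comp (p := 0) (q := 0) _ _ _ hw ((DCK91.SPc x).obj F) ?_ h).mono (by omega) (by omega)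
    letI := (k.stalkMap (g.base x)).hom.toAlgebra
    haveI : Module.Flat (Z.presheaf.stalk (k (g.base x))) (Y.presheaf.stalk (g.base x)) := Flat.stalkMap k _
    exact ta_self_of_flat (R := Z.presheaf.stalk (k (g.base x))) (A := Y.presheaf.stalk (g.base x))

variable {S : Scheme.{u}} (f : X ⟶ S) [∀ R : CommRingCat.{u}, PreservesFiniteLimits (tilde.functor R)]

section Pair

variable {U : X.Opens} (hU : IsAffineOpen U) {V : S.Opens} (hV : IsAffineOpen V) (hUV : U ≤ f ⁻¹ᵁ V)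
  {M : Dual.D Γ(X, U)} {F : CochainComplex X.Modules ℤ}
  (e : (resD hU.fromSpec).obj (DCoh.toD X F) ≅ (DCoh.tildeD Γ(X, U)).obj M)

include hV hUV e

theorem ta_pair_iff (a b : ℤ) : (∀ u : Spec Γ(X, U), DerSch.HasTorAmplitudeAt f a b F (hU.fromSpec u)) ↔
    TA a b ((DRing.restrictD (f.appLE V U hUV).hom).obj M) := by
  rw [← hasTorAmplitude_tilde_iff (f.appLE V U hUV) M ((resCx hU.fromSpec).obj F)
    ((resQ hU.fromSpec F).symm ≪≫ e) a b]
  refine forall_congr' fun u => ?_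
  rw [← hasTorAmplitudeAt_restrict_iff f hU.fromSpec u F, ← hV.SpecMap_appLE_fromSpec f hU hUV]
  exact hasTorAmplitudeAt_comp_iff _ _ u _

omit hV hUV in
theorem pc_pair_iff (m : ℤ) :
    DCoh.IsPseudoCoherentD m ((resD hU.fromSpec).obj (DCoh.toD X F)) ↔ PC m M :=
  Iff.trans ⟨DCX42.isPC_of_iso e, DCX42.isPC_of_iso e.symm⟩ (DCX42.isPC_tildeD_iff Γ(X, U) M m)

theorem relPerfect_pair (hpc : ∀ m, DCoh.IsPseudoCoherentD m (DCoh.toD X F))
    (htor : DerSch.LocFiniteTorAmplitude f F) :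
    @Dual2.IsRelPerfect Γ(S, V) Γ(X, U) _ _ (f.appLE V U hUV).hom.toAlgebra M := by
  letI := (f.appLE V U hUV).hom.toAlgebra
  refine ⟨(pc'_iff_forall_pc M).2 fun m => (pc_pair_iff hU e m).1 (DCX42.isPC_resD (hpc m) _), ?_⟩
  choose W a b hxW hW using htor
  obtain ⟨t, ht⟩ := hU.isCompact.elim_finite_subcover (fun x => ((W x : X.Opens) : Set X))
    (fun x => (W x).isOpen) fun x _ => Set.mem_iUnion_of_mem x (hxW x)
  obtain ⟨a₀, ha⟩ := (t.image a).bddBelow
  obtain ⟨b₀, hb⟩ := (t.image b).bddAbove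
  refine ⟨a₀, b₀, (ta_pair_iff f hU hV hUV e a₀ b₀).1 fun u => ?_⟩
  have hu : hU.fromSpec u ∈ (U : Set X) := hU.range_fromSpec ▸ Set.mem_range_self u
  obtain ⟨y, hy, hxy⟩ := Set.mem_iUnion₂.1 (ht hu)
  exact TorStalk41.hasTorAmplitudeAt_mono f _ (ha (Finset.mem_coe.2 (Finset.mem_image_of_mem a hy)))
    (hb (Finset.mem_coe.2 (Finset.mem_image_of_mem b hy))) (hW y _ hxy)

theorem locTor_pair
    (h : @Dual2.IsRelPerfect Γ(S, V) Γ(X, U) _ _ (f.appLE V U hUV).hom.toAlgebra M) :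
    ∃ a b : ℤ, ∀ x ∈ U, DerSch.HasTorAmplitudeAt f a b F x := by
  letI := (f.appLE V U hUV).hom.toAlgebra
  obtain ⟨a, b, hab⟩ := h.2
  refine ⟨a, b, fun x hx => ?_⟩
  obtain ⟨u, rfl⟩ : x ∈ Set.range hU.fromSpec := hU.range_fromSpec.symm ▸ hx
  exact (ta_pair_iff f hU hV hUV e a b).2 hab u

end Pair

/-- The affine chart of an object. -/
def chartIso (E : DCoh.D X) {U : X.Opens} (hU : IsAffineOpen U) :
    (DCoh.restrictD hU.isoSpec.inv).obj ((DCoh.restrictD U.ι).obj E) ≅ (resD hU.fromSpec).obj E :=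
  (DCX42.resDComp hU.isoSpec.inv U.ι).app E

variable [Flat f]

/-- Relative perfectness is tested on affine pairs covering the source. -/
theorem relPerf_of_affine_cover {E : DCoh.D X} (hE : DCoh.IsQCohD E)
    (h : ∀ x : X, ∃ (U : X.Opens) (hU : IsAffineOpen U) (V : S.Opens) (_ : IsAffineOpen V) (hUV : U ≤ f ⁻¹ᵁ V),
      x ∈ U ∧ ∀ M : Dual.D Γ(X, U), Nonempty ((resD hU.fromSpec).obj E ≅ (DCoh.tildeD Γ(X, U)).obj M) →
        @Dual2.IsRelPerfect Γ(S, V) Γ(X, U) _ _ (f.appLE V U hUV).hom.toAlgebra M) :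
    (∀ m : ℤ, DCoh.IsPseudoCoherentD m E) ∧ DCoh.LocHasFiniteRelTorDim f E := by
  let F : CochainComplex X.Modules ℤ := DerivedCategory.Q.objPreimage E
  let eF : DCoh.toD X F ≅ E := DCX42.rep E
  have key : ∀ x : X, ∃ (U : X.Opens) (hU : IsAffineOpen U) (a b : ℤ), x ∈ U ∧
      (∀ m, DCoh.IsPseudoCoherentD m ((resD hU.fromSpec).obj E)) ∧
        ∀ x' ∈ U, DerSch.HasTorAmplitudeAt f a b F x' := by
    intro x
    obtain ⟨U, hU, V, hV, hUV, hxU, hM⟩ := h x
    obtain ⟨M, ⟨eM⟩⟩ := DCX42.exists_affine_model hE hU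
    let e : (resD hU.fromSpec).obj (DCoh.toD X F) ≅ (DCoh.tildeD Γ(X, U)).obj M :=
      (resD hU.fromSpec).mapIso eF ≪≫ eM.symm
    have hr := hM M ⟨eM.symm⟩
    obtain ⟨a, b, hab⟩ := locTor_pair f hU hV hUV e hr
    exact ⟨U, hU, a, b, hxU, fun m => DCX42.isPC_of_iso ((resD hU.fromSpec).mapIso eF)
      ((pc_pair_iff hU e m).2 ((pc'_iff_forall_pc M).1 hr.1 m)), hab⟩
  refine ⟨fun m => DCX42.isPC_of_cover E fun x => ?_, locRelTor_of_locFiniteTorAmplitude f eF fun x => ?_⟩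
  · obtain ⟨U, hU, -, -, hxU, hpc, -⟩ := key x
    exact ⟨_, hU.fromSpec, inferInstance, by rw [hU.range_fromSpec]; exact hxU, hpc m⟩
  · obtain ⟨U, hU, a, b, hxU, -, hab⟩ := key x
    exact ⟨U, a, b, hxU, hab⟩

end Groth.Agent.PerfFib24
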