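import Groth.Agent.PerfFib24.RelFlatBC

/-!
# Base change of relatively perfect objects
-/

set_option autoImplicit false
set_option linter.style.haveILetI false
set_option backward.isDefEq.respectTransparency.types false
set_option backward.isDefEq.respectTransparency false

noncomputable section

universe u

open CategoryTheory Limits Pretriangulated AlgebraicGeometry DerivedCategory
open Groth.Agent.DCX42

attribute [local instance] HasDerivedCategory.standard

namespace Groth.Agent.PerfFib24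

variable {X S X' S' : Scheme.{u}}

/-- The derived inverse image of a bounded complex of relatively flat modules is the termwise one. -/
theorem hasRelFlatAmplitudeIn_Lpull {f : X ⟶ S} [Flat f] {f' : X' ⟶ S'} {g' : X' ⟶ X} {g : S' ⟶ S}
    (hc : IsPullback g' f' f g) [DCoh.HasLpull g'] {a b : ℤ} {K : DCoh.D X}
    (h : DCoh.HasRelFlatAmplitudeIn f a b K) :
    DCoh.HasRelFlatAmplitudeIn f' a b ((DCoh.Lpull g').obj K) := by
  obtain ⟨E, hab, hE, ⟨e⟩⟩ := h
  obtain ⟨P, c, hP, hfl, hqc⟩ := DCK91.exists_flat_res_le (O := X.sheaf) E b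
    (have : CochainComplex.IsStrictlyLE (C := X.Modules) E b :=
      (CochainComplex.isStrictlyLE_iff E b).2 fun i hi => hab i (Or.inr hi)
     inferInstanceAs (CochainComplex.IsLE (C := X.Modules) E b))
  have hk := DCK91.kff_of_le (X := X) P b hP fun i => DCK91.flatMod_of_isFlat _ (hfl i)
  haveI : QuasiIso (C := X.Modules) c := hqc
  have : IsIso (Q.map (C := CochainComplex X.Modules ℤ) c) :=
    (isIso_Q_map_iff_quasiIso X.Modules c).2 hqc
  haveI := quasiIso_pullback_relFlat hc b hP (fun i hi => hab i (Or.inr hi))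
    (fun i => isFlatOver_of_isFlat _ (DCK91.flatMod_of_isFlat _ (hfl i))) hE c
  have : IsIso (Q.map (((Scheme.Modules.pullback g').mapHomologicalComplex (ComplexShape.up ℤ)).map c)) :=
    inferInstance
  refine ⟨((Scheme.Modules.pullback g').mapHomologicalComplex (ComplexShape.up ℤ)).obj E,
    fun i hi => (Scheme.Modules.pullback g').map_isZero (hab i hi),
    fun i => isFlatOver_baseChange hc _ (hE i), ⟨?_⟩⟩
  exact (asIso (Q.map (((Scheme.Modules.pullback g').mapHomologicalComplex (ComplexShape.up ℤ)).map c))).symm ≪≫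
    (DCK91.lpullIso g' P hk.1 hk.2).symm ≪≫
    (DCoh.Lpull g').mapIso (asIso (Q.map (C := CochainComplex X.Modules ℤ) c) ≪≫ e)

theorem hasRelFlatAmplitudeIn_of_iso {f : X ⟶ S} {a b : ℤ} {K L : DCoh.D X}
    (h : DCoh.HasRelFlatAmplitudeIn f a b K) (e : K ≅ L) : DCoh.HasRelFlatAmplitudeIn f a b L := by
  obtain ⟨E, hab, hE, ⟨i⟩⟩ := h
  exact ⟨E, hab, hE, ⟨i ≪≫ e⟩⟩

/-- Finite relative tor dimension through restrictions. -/
theorem locRelTor_iff (f : X ⟶ S) (K : DCoh.D X) :
    DCoh.LocHasFiniteRelTorDim f K ↔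
      ∀ x : X, ∃ (V : X.Opens) (a b : ℤ), x ∈ V ∧
        DCoh.HasRelFlatAmplitudeIn (V.ι ≫ f) a b ((resD V.ι).obj K) := by
  refine forall_congr' fun x => exists_congr fun V => exists_congr fun a => exists_congr fun b =>
    and_congr_right fun _ => ⟨fun h => ?_, fun h F ⟨e⟩ => ?_⟩
  · exact hasRelFlatAmplitudeIn_of_iso (h (Q.objPreimage K) ⟨rep K⟩)
      ((resQ V.ι _).symm ≪≫ (resD V.ι).mapIso (rep K))
  · exact hasRelFlatAmplitudeIn_of_iso h ((resD V.ι).mapIso e.symm ≪≫ resQ V.ι F)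

/-- Relative perfectness is stable under base change. -/
theorem locRelTor_Lpull {f : X ⟶ S} [Flat f] {f' : X' ⟶ S'} {g' : X' ⟶ X} {g : S' ⟶ S}
    (hc : IsPullback g' f' f g) [DCoh.HasLpull g'] {K : DCoh.D X} (hK : DCoh.LocHasFiniteRelTorDim f K) :
    DCoh.LocHasFiniteRelTorDim f' ((DCoh.Lpull g').obj K) := by
  rw [locRelTor_iff] at hK ⊢
  intro x'
  obtain ⟨V, a, b, hx, hV⟩ := hK (g' x')
  have := DCK91.hasLpull (g' ∣_ V)
  obtain ⟨r⟩ := nonempty_Lpull_resD g' V.ι (g' ⁻¹ᵁ V).ι (g' ∣_ V) (morphismRestrict_ι g' V)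
  have hc' : IsPullback (g' ∣_ V) ((g' ⁻¹ᵁ V).ι ≫ f') (V.ι ≫ f) g :=
    (isPullback_morphismRestrict g' V).paste_vert hc
  exact ⟨g' ⁻¹ᵁ V, a, b, hx, hasRelFlatAmplitudeIn_of_iso (hasRelFlatAmplitudeIn_Lpull hc' hV) (r.app K).symm⟩

end Groth.Agent.PerfFib24
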