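import Groth.Agent.PerfFib24.RelPerfBC
import Groth.Agent.DCX42.Coh

/-!
# Basic properties of relatively perfect objects
-/

set_option autoImplicit false
set_option linter.style.haveILetI false
set_option backward.isDefEq.respectTransparency.types false
set_option backward.isDefEq.respectTransparency false

noncomputable section

universe u

open CategoryTheory Limits Pretriangulated AlgebraicGeometry DerivedCategory
open Groth.Agent.DCX42

attribute [local instance] HasDerivedCategory.standard

namespace Groth.Agent.PerfFib24

variable {X S : Scheme.{u}}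

/-- Perfect objects are relatively perfect over a flat base morphism. -/
theorem locRelTor_of_isPerfect (f : X ⟶ S) [Flat f] {E : DCoh.D X} (hE : DCoh.IsPerfect E) :
    DCoh.LocHasFiniteRelTorDim f E := by
  rw [locRelTor_iff]
  intro x
  obtain ⟨V, hx, P, hP, ⟨e⟩⟩ := (isPerfect_iff E).1 hE x
  obtain ⟨a, b, hab⟩ := hP.1
  exact ⟨V, a, b, hx, P, hab, fun i => isFlatOver_of_isFlat _ (isFlat_of_isFinLocFree (hP.2 i)), ⟨e.symm⟩⟩

end Groth.Agent.PerfFib24
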