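import Groth.Agent.PerfFib24.RelFib
import Groth.Agent.QExact41.MonoFlat
import Groth.Agent.TorStalk41.Stalk

/-!
# Stalkwise and representative forms of finite relative tor dimension
-/

set_option autoImplicit false
set_option linter.style.haveILetI false
set_option linter.unusedSectionVars false
set_option backward.isDefEq.respectTransparency.types false
set_option backward.isDefEq.respectTransparency false

noncomputable section

universe u

open CategoryTheory Limits AlgebraicGeometry DerivedCategory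
open Groth.Agent.DR39 Groth.Agent.DCK91
open Groth.Agent.DCX42 (resD resCx resQ rep)

attribute [local instance] HasDerivedCategory.standard

namespace Groth.Agent.PerfFib24

variable {X S U : Scheme.{u}} (f : X ⟶ S)

/-- Stalks over the base along an open immersion. -/
def soRestrictIso (j : U ⟶ X) [IsOpenImmersion j] (u : U) :
    TorStalk41.SO f (j u) ≅ Scheme.Modules.restrictFunctor j ⋙ TorStalk41.SO (j ≫ f) u :=
  Functor.isoWhiskerRight (QExact41.stalkRestrictIso j u) _ ≪≫
    Functor.associator _ _ _ ≪≫ Functor.isoWhiskerLeft _ (Functor.associator _ _ _) ≪≫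
    Functor.isoWhiskerLeft _ (Functor.isoWhiskerLeft _
      (ModuleCat.restrictScalarsComp' (f.stalkMap (j u)).hom (QExact41.sigma j u).toRingHom
        ((j ≫ f).stalkMap u).hom (by rw [Scheme.Hom.stalkMap_comp]; rfl)).symm)

/-- Stalkwise tor amplitude along an open immersion. -/
theorem hasTorAmplitudeAt_restrict_iff (j : U ⟶ X) [IsOpenImmersion j] (u : U) {a b : ℤ}
    (F : CochainComplex X.Modules ℤ) :
    DerSch.HasTorAmplitudeAt (j ≫ f) a b ((resCx j).obj F) u ↔ DerSch.HasTorAmplitudeAt f a b F (j u) := by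
  let e : (TorStalk41.SOc f (j u)).obj F ≅ (TorStalk41.SOc (j ≫ f) u).obj ((resCx j).obj F) :=
    (NatIso.mapHomologicalComplex (soRestrictIso f j u) (ComplexShape.up ℤ)).app F
  exact ⟨fun h => TA.of_iso h ((QA _).mapIso e.symm), fun h => TA.of_iso h ((QA _).mapIso e)⟩

/-- Finite relative flat amplitude gives stalkwise tor amplitude. -/
theorem hasTorAmplitudeAt_of_relAmp (F : CochainComplex X.Modules ℤ) {V : X.Opens} {a b : ℤ}
    (h : DCoh.HasRelFlatAmplitudeIn (V.ι ≫ f) a b ((resD V.ι).obj (DCoh.toD X F))) (x : V) :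
    DerSch.HasTorAmplitudeAt f a b F (V.ι x) := by
  obtain ⟨E, hE, hEf, ⟨e⟩⟩ := h
  rw [← hasTorAmplitudeAt_restrict_iff f V.ι x F]
  refine TorStalk41.hasTorAmplitudeAt_congr (V.ι ≫ f) x (e ≪≫ resQ V.ι F) ?_
  exact ⟨(TorStalk41.SOc (V.ι ≫ f) x).obj E, fun i hi => (TorStalk41.SO (V.ι ≫ f) x).map_isZero (hE i hi),
    fun i => hEf i x, ⟨Iso.refl _⟩⟩

/-- The representative form gives the stalkwise form. -/
theorem locFiniteTorAmplitudeD_of_locRelTor {K : DCoh.D X} (h : DCoh.LocHasFiniteRelTorDim f K) :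
    DerSch.LocFiniteTorAmplitudeD f K := fun F ⟨e⟩ x => by
  obtain ⟨V, a, b, hx, hV⟩ := (locRelTor_iff f K).1 h x
  exact ⟨V, a, b, hx, fun x' hx' => hasTorAmplitudeAt_of_relAmp f F
    (hasRelFlatAmplitudeIn_of_iso hV ((resD V.ι).mapIso e.symm)) ⟨x', hx'⟩⟩

variable [Flat f]

/-- Stalkwise tor amplitude gives relative flat amplitude. -/
theorem relAmp_of_hasTorAmplitude {a b : ℤ} {F : CochainComplex X.Modules ℤ} (h : DerSch.HasTorAmplitude f a b F) :
    DCoh.HasRelFlatAmplitudeIn f a b (DCoh.toD X F) := by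
  have hz : ∀ i, (i < a ∨ b < i) → IsZero (F.homology i) := by
    intro i hi
    refine DCK91.isZero_of_stalks fun x => isZero_of_isZero_restrict (f.stalkMap x).hom _ ?_
    refine IsZero.of_iso ?_ ((F.sc i).mapHomologyIso (TorStalk41.SO f x)).symm
    refine (isZero_HF_Q_iff ((TorStalk41.SOc f x).obj F) i).1 ?_
    rcases hi with hi | hi
    · exact TA.isZero_low (h x) i hi
    · exact TA.acyc (h x) i (by omega)
  haveI : F.IsLE b := (CochainComplex.isLE_iff _ _).2 fun i hi =>
    (HomologicalComplex.exactAt_iff_isZero_homology _ _).2 (hz i (Or.inr hi))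
  obtain ⟨P, c, hPb, hPf, hc⟩ := exists_flat_res_le (O := X.sheaf) F b ‹_›
  let P' : CochainComplex X.Modules ℤ := P
  let e : DCoh.toD X P' ≅ DCoh.toD X F :=
    @asIso _ _ _ _ (DerivedCategory.Q.map (C := CochainComplex X.Modules ℤ) c)
      ((DerivedCategory.isIso_Q_map_iff_quasiIso X.Modules c).2 hc)
  have hfl : ∀ i, FlatMod.IsFlat (P'.X i) := fun i => flatMod_of_isFlat _ (hPf i)
  have hP : DerSch.HasTorAmplitude f a b P' := TorStalk41.hasTorAmplitude_congr _ e.symm h
  have hflat : ∀ x : X, (f.stalkMap x).hom.Flat := fun x => Flat.stalkMap f x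
  have hco : FlatMod.IsFlatOver f (cokernel (P'.d (a - 1) a)) := by
    intro x
    let C := (TorStalk41.SOc f x).obj P'
    have hS : ∀ i, Module.Flat _ (C.X i) := fun i =>
      TorStalk41.flat_restrictScalars _ (hflat x) ((DCK91.SP x).obj (P'.X i)) (hfl i x)
    have hlow : LowEx C a := TA.lowEx (hP x)
      (isKFlat_of_flat b (fun i hi => (TorStalk41.SO f x).map_isZero (hPb i hi)) hS) (Iso.refl _)
    haveI := hS a
    have h1 := flat_coker C a fun M => exT_of_lowEx hlow M (by omega)
    let e1 : (TorStalk41.SO f x).obj (cokernel (P'.d (a - 1) a)) ≅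
        ModuleCat.of _ ((C.X a) ⧸ LinearMap.range (C.d (a - 1) a).hom) :=
      (PreservesCokernel.iso (TorStalk41.SO f x) _) ≪≫
        IsColimit.coconePointUniqueUpToIso (cokernelIsCokernel _) (ModuleCat.cokernelIsColimit (C.d (a - 1) a))
    exact (flatOverAt_iff f _ x).2 (Module.Flat.of_linearEquiv (M := _ ) e1.toLinearEquiv)
  haveI : P'.IsGE a := (CochainComplex.isGE_iff _ _).2 fun i hi => by
    haveI := hc.quasiIsoAt i
    exact (HomologicalComplex.exactAt_iff_isZero_homology _ _).2
      ((hz i (Or.inl hi)).of_iso (isoOfQuasiIsoAt c i))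
  refine ⟨P'.truncGE a, fun i hi => ?_, fun i => ?_,
    ⟨(asIso (DerivedCategory.Q.map (P'.πTruncGE a))).symm ≪≫ e⟩⟩
  · rcases hi with hi | hi
    · exact CochainComplex.isZero_of_isStrictlyGE (P'.truncGE a) a i hi
    · haveI : P'.IsStrictlyLE b := (CochainComplex.isStrictlyLE_iff _ _).2 hPb
      exact CochainComplex.isZero_of_isStrictlyLE (P'.truncGE a) b i hi
  · rcases lt_trichotomy i a with hlt | heq | hgt
    · exact (relFlatClass f).of_isZero (CochainComplex.isZero_of_isStrictlyGE (P'.truncGE a) a i hlt)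
    · subst heq
      exact (relFlatClass f).of_iso
        (PerfAmp41.cokerOp P' (i - 1) i (by omega) ≪≫ (CochainComplex.truncGEXIsoOpcycles P' i).symm) hco
    · exact (relFlatClass f).of_iso (CochainComplex.truncGEXIso P' a i hgt).symm (isFlatOver_of_isFlat _ (hfl i))

/-- The stalkwise form gives the representative form. -/
theorem locRelTor_of_locFiniteTorAmplitude {F : CochainComplex X.Modules ℤ} {K : DCoh.D X}
    (e : DCoh.toD X F ≅ K) (h : DerSch.LocFiniteTorAmplitude f F) : DCoh.LocHasFiniteRelTorDim f K := by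
  rw [locRelTor_iff]
  intro x
  obtain ⟨V, a, b, hx, hV⟩ := h x
  have hV' : DerSch.HasTorAmplitude (V.ι ≫ f) a b ((resCx V.ι).obj F) := fun v =>
    (hasTorAmplitudeAt_restrict_iff f V.ι v F).2 (hV _ v.2)
  exact ⟨V, a, b, hx, hasRelFlatAmplitudeIn_of_iso (relAmp_of_hasTorAmplitude (V.ι ≫ f) hV')
    ((resQ V.ι F).symm ≪≫ (resD V.ι).mapIso e)⟩

end Groth.Agent.PerfFib24
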