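import Groth.Agent.TorStalk41.Extern
import Groth.Agent.TorStalk41.Stalk
import Groth.Agent.DCX42.Amp
import Groth.Agent.PerfFib24.RelTorStalk
import Groth.Agent.DR39.RelPerfect
import Groth.Prelude.Def_DCoh3

/-!
# Relative tor amplitude of the tilde of an object of `D(A)`
-/

set_option autoImplicit false
set_option linter.style.haveILetI false
set_option linter.unusedSectionVars false
set_option backward.isDefEq.respectTransparency false

noncomputable section

universe u

open CategoryTheory Limits AlgebraicGeometry DerivedCategory MonoidalCategory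
open Groth.Agent.DR39 Groth.Agent.DCK91

attribute [local instance] HasDerivedCategory.standard

namespace Groth.Agent.PerfFib24

variable {R A : CommRingCat.{u}} (φ : R ⟶ A)

lemma specGerm_epi (x : Spec A) (S : Type u) [CommRing S] (α β : (Spec A).presheaf.stalk x →+* S)
    (h : α.comp (specGerm A x) = β.comp (specGerm A x)) : α = β := by
  have hl := (isAffineOpen_top (Spec A)).isLocalization_stalk ⟨x, trivial⟩
  letI := TopCat.Presheaf.algebra_section_stalk (Spec A).presheaf (⟨x, trivial⟩ : (⊤ : (Spec A).Opens))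
  refine IsLocalization.ringHom_ext ((isAffineOpen_top (Spec A)).primeIdealOf ⟨x, trivial⟩).asIdeal.primeCompl ?_
  ext t
  obtain ⟨s, rfl⟩ := (Scheme.ΓSpecIso A).symm.commRingCatIsoToRingEquiv.surjective t
  exact DFunLike.congr_fun h s

lemma stalkMap_specGerm (x : Spec A) :
    ((Spec.map φ).stalkMap x).hom.comp (specGerm R ((Spec.map φ).base x)) = (specGerm A x).comp φ.hom := by
  have h := Scheme.ΓSpecIso_inv_naturality φ
  have g := Scheme.Hom.germ_stalkMap (Spec.map φ) ⊤ x trivial
  exact congrArg CommRingCat.Hom.hom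
    (show ((Scheme.ΓSpecIso R).inv ≫ (Spec R).presheaf.germ ⊤ ((Spec.map φ).base x) trivial) ≫
        (Spec.map φ).stalkMap x = φ ≫ (Scheme.ΓSpecIso A).inv ≫ (Spec A).presheaf.germ ⊤ x trivial by
      rw [Category.assoc, g, reassoc_of% h]
      rfl)

/-- Tor amplitude over the local ring of the base is tor amplitude over the base. -/
theorem ta_stalkMap_iff (x : Spec A) (Y : DRing.Cx ((Spec A).presheaf.stalk x)) {a b : ℤ} :
    TA a b ((QA _).obj (resCx ((Spec.map φ).stalkMap x).hom Y)) ↔
      TA a b ((QA R).obj (resCx ((specGerm A x).comp φ.hom) Y)) := by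
  have hf : (specGerm R ((Spec.map φ).base x)).Flat := DCX42.flat_specGerm R _
  refine ⟨fun h => ?_, fun h => ?_⟩
  · refine (TorStalk41.ta_res_comp (p := 0) (q := 0) _ _ _ (stalkMap_specGerm φ x) Y ?_ h).mono (by omega) (by omega)
    letI := (specGerm R ((Spec.map φ).base x)).toAlgebra
    haveI : Module.Flat R ((Spec R).presheaf.stalk ((Spec.map φ).base x)) := hf
    exact ta_self_of_flat (R := R) (A := (Spec R).presheaf.stalk ((Spec.map φ).base x))
  · obtain ⟨e⟩ := resCx_comp (specGerm R ((Spec.map φ).base x)) ((Spec.map φ).stalkMap x).hom _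
      (stalkMap_specGerm φ x) Y
    exact TorStalk41.ta_of_res_epi _ hf (specGerm_epi ((Spec.map φ).base x)) _ (h.of_iso ((QA R).mapIso e.symm))

/-- Modules with zero stalks are zero. -/
lemma isZero_of_extendScalars_specGerm (N : ModuleCat.{u} A)
    (h : ∀ x : Spec A, IsZero ((ModuleCat.extendScalars.{u, u, u} (specGerm A x)).obj N)) : IsZero N := by
  have h1 : IsZero ((tilde.functor A).obj N) := DCK91.isZero_of_stalks fun x =>
    (h x).of_iso ((tildeStalkIso A x).app N)
  refine (IsZero.iff_id_eq_zero _).2 ((tilde.functor A).map_injective ?_)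
  rw [(tilde.functor A).map_id, (tilde.functor A).map_zero]
  exact h1.eq_of_src _ _

/-- Tor amplitude over the base is checked on the localisations. -/
theorem ta_restrict_iff_forall (E : DRing.Cx A) (hE : DRing.IsKFlat A E) {a b : ℤ} :
    TA a b ((QA R).obj (resCx φ.hom E)) ↔ ∀ x : Spec A,
      TA a b ((QA R).obj (resCx ((specGerm A x).comp φ.hom) (extCx (specGerm A x) E))) := by
  constructor
  · intro h x
    exact (TorStalk41.ta_res_ext φ.hom (specGerm A x) _ rfl E
      (TorStalk41.ta_res_unit_of_flat _ (DCX42.flat_specGerm A x)) hE h).mono (by omega) (by omega)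
  · intro h
    refine (ta_iff_resolution _ _ _).2 fun M G hv hG eG i hi => (isZero_res_tensor_iff φ.hom E G i).2 ?_
    refine isZero_of_extendScalars_specGerm _ fun x => ?_
    letI := (specGerm A x).toAlgebra
    haveI : Module.Flat A ((Spec A).presheaf.stalk x) :=
      RingHom.flat_algebraMap_iff.mp (DCX42.flat_specGerm A x)
    haveI := preservesFiniteLimits_extA (A := A) ((Spec A).presheaf.stalk x)
    obtain ⟨c⟩ := resCx_comp φ.hom (specGerm A x) _ rfl (extCx (specGerm A x) E)
    have hz := (isZero_res_tensor_iff φ.hom _ G i).1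
      (((ta_iff_resolution _ _ _).1 ((h x).of_iso ((QA R).mapIso c.symm))) M G hv hG eG i hi)
    obtain ⟨e⟩ := res_ext_tensor_iso (B := (Spec A).presheaf.stalk x) E (extCx φ.hom G)
    exact ((isZero_res_homology_iff (algebraMap A ((Spec A).presheaf.stalk x)) _ i).1
      (hz.of_iso ((HomologicalComplex.homologyFunctor _ _ i).mapIso e).symm)).of_iso
      (((E ⊗ extCx φ.hom G).sc i).mapHomologyIso (extA A ((Spec A).presheaf.stalk x))).symm

/-- The relative tor amplitude of `M~` is the tor amplitude of `M` over the base. -/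
theorem hasTorAmplitude_tilde_iff [PreservesFiniteLimits (tilde.functor A)] (M : Dual.D A)
    (F : CochainComplex (Spec A).Modules ℤ) (e : DCoh.toD (Spec A) F ≅ (DCoh.tildeD A).obj M) (a b : ℤ) :
    DerSch.HasTorAmplitude (Spec.map φ) a b F ↔ TA a b ((DRing.restrictD φ.hom).obj M) := by
  obtain ⟨E₀, ⟨e₀⟩⟩ := exists_complex_iso (A := A) M
  haveI := SF.isKProjective_res E₀
  haveI : IsIso ((QA A).map (SF.aug E₀)) :=
    (DerivedCategory.isIso_Q_map_iff_quasiIso (ModuleCat.{u} A) _).2 inferInstance
  let E := SF.res E₀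
  let eE : (QA A).obj E ≅ M := asIso ((QA A).map (SF.aug E₀)) ≪≫ e₀
  let G := ((tilde.functor A).mapHomologicalComplex (ComplexShape.up ℤ)).obj E
  let eG : DCoh.toD (Spec A) F ≅ DCoh.toD (Spec A) G :=
    e ≪≫ (DCoh.tildeD A).mapIso eE.symm ≪≫ (tilde.functor A).mapDerivedCategoryFactors.app E
  let eS : ∀ x : Spec A, (TorStalk41.SOc (Spec.map φ) x).obj G ≅
      resCx ((Spec.map φ).stalkMap x).hom (extCx (specGerm A x) E) := fun x =>
    (DRing.restrictCx ((Spec.map φ).stalkMap x).hom).mapIso
      ((HomologicalComplex.Hom.isoOfComponents (fun n => (tildeStalkIso A x).app (E.X n))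
        (fun i j _ => ((tildeStalkIso A x).hom.naturality (E.d i j)).symm)) :
        (DCK91.SPc x).obj G ≅ extCx (specGerm A x) E)
  let eR : (QA R).obj (resCx φ.hom E) ≅ (DRing.restrictD φ.hom).obj M :=
    (restrictDIso φ.hom E).symm ≪≫ (DRing.restrictD φ.hom).mapIso eE
  constructor
  · intro h
    refine ((ta_restrict_iff_forall φ E isKFlat_of_isKProjective).2 fun x => ?_).of_iso eR
    exact (ta_stalkMap_iff φ x _).1 (TA.of_iso (TorStalk41.hasTorAmplitude_congr (Spec.map φ) eG h x) ((QA _).mapIso (eS x)))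
  · intro h
    refine TorStalk41.hasTorAmplitude_congr (Spec.map φ) eG.symm fun x => ?_
    exact TA.of_iso ((ta_stalkMap_iff φ x _).2 ((ta_restrict_iff_forall φ E isKFlat_of_isKProjective).1
      (h.of_iso eR.symm) x)) ((QA _).mapIso (eS x).symm)

/-- Locally finite relative tor dimension of `M~` is finite tor dimension of `M` over the base. -/
theorem locRelTor_tilde_iff [PreservesFiniteLimits (tilde.functor A)] [Flat (Spec.map φ)] (M : Dual.D A) :
    DCoh.LocHasFiniteRelTorDim (Spec.map φ) ((DCoh.tildeD A).obj M) ↔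
      DRing.HasFiniteTorDimCx R ((DRing.restrictD φ.hom).obj M) := by
  obtain ⟨E, ⟨e⟩⟩ := exists_complex_iso (A := A) M
  let G : CochainComplex (Spec A).Modules ℤ := ((tilde.functor A).mapHomologicalComplex (ComplexShape.up ℤ)).obj E
  let eG : DCoh.toD (Spec A) G ≅ (DCoh.tildeD A).obj M :=
    ((tilde.functor A).mapDerivedCategoryFactors.app E).symm ≪≫ (DCoh.tildeD A).mapIso e
  constructor
  · intro h
    have hl := locFiniteTorAmplitudeD_of_locRelTor (Spec.map φ) h G ⟨eG⟩
    choose V a b hxV hV using hl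
    obtain ⟨t, ht⟩ := isCompact_univ.elim_finite_subcover (fun x => ((V x : (Spec A).Opens) : Set (Spec A)))
      (fun x => (V x).isOpen) fun x _ => Set.mem_iUnion_of_mem x (hxV x)
    obtain ⟨a₀, ha⟩ := (t.image a).bddBelow
    obtain ⟨b₀, hb⟩ := (t.image b).bddAbove
    refine ⟨a₀, b₀, (hasTorAmplitude_tilde_iff φ M G eG a₀ b₀).1 fun x => ?_⟩
    obtain ⟨y, hy, hxy⟩ := Set.mem_iUnion₂.1 (ht (Set.mem_univ x))
    exact TorStalk41.hasTorAmplitudeAt_mono (Spec.map φ) x (ha (Finset.mem_coe.2 (Finset.mem_image_of_mem a hy)))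
      (hb (Finset.mem_coe.2 (Finset.mem_image_of_mem b hy))) (hV y x hxy)
  · rintro ⟨a, b, h⟩
    exact locRelTor_of_locFiniteTorAmplitude (Spec.map φ) eG fun x =>
      ⟨⊤, a, b, trivial, fun x' _ => (hasTorAmplitude_tilde_iff φ M G eG a b).2 h x'⟩

end Groth.Agent.PerfFib24
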